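/- Decidable checks for the Rudvalis lattice. -/
import Cfsg.Agent.H93.Coset
import Cfsg.Agent.H91.Ru.Tables
import Cfsg.Agent.H91.Ru.ChainData
import Cfsg.Agent.H91.Ru.CodeData

set_option autoImplicit false

namespace H91.Ru

open H93.Coset (force allRange walk pathEnd)

/-! ### records: positive mask, negative mask, flag of a single entry four -/

/-- entry `i` of a table of width `w` -/
def lk (w : ℕ) (L : List (List ℕ)) (i : ℕ) : ℕ :=
  (((L.getD (i / 2048) []).getD (i / 256 % 8) 0) >>> (w * (i % 256))) % 2 ^ w

/-- vector number `i` -/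
def recOf (i : ℕ) : ℕ := lk 128 recs i

/-- the three maps on numbers of vectors -/
def permT : ℕ → ℕ → ℕ
  | 0, i => lk 16 permA i
  | 1, i => lk 16 permB i
  | _, i => lk 16 permI i

def M56 : ℕ := 0xffffffffffffff
def evenBits : ℕ := 0x55555555555555

def posM (r : ℕ) : ℕ := Nat.land r M56
def negM (r : ℕ) : ℕ := Nat.land (r >>> 56) M56
def flag (r : ℕ) : ℕ := r >>> 112
def mag (r : ℕ) : ℕ := 1 + 3 * flag r

def nib (x k : ℕ) : ℕ := Nat.land (popTab >>> (4 * Nat.land (x >>> (8 * k)) 255)) 15
/-- number of bits below 56 -/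
def pop (x : ℕ) : ℕ := nib x 0 + nib x 1 + nib x 2 + nib x 3 + nib x 4 + nib x 5 + nib x 6

/-- inner product code -/
noncomputable def dotC (r s : ℕ) : ℕ :=
  force (posM r) fun a => force (negM r) fun b => force (posM s) fun c => force (negM s) fun d =>
    force (mag r * mag s) fun m =>
      4096 + m * pop (Nat.lor (Nat.land a c) (Nat.land b d)) - m * pop (Nat.lor (Nat.land a d) (Nat.land b c))

/-- multiplication by the unit -/
def turn (r : ℕ) : ℕ :=
  Nat.lor (Nat.lor (Nat.land (negM r >>> 1) evenBits) ((Nat.land (posM r) evenBits) <<< 1))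
    (Nat.lor ((Nat.lor (Nat.land (posM r >>> 1) evenBits) ((Nat.land (negM r) evenBits) <<< 1)) <<< 56)
      (flag r <<< 112))

/-- a record describes a vector of norm sixteen -/
noncomputable def valOK (r : ℕ) : Bool :=
  force (posM r) fun a => force (negM r) fun b => Nat.beq (Nat.land a b) 0 &&
    force (pop (Nat.lor a b)) fun n =>
      (Nat.beq (flag r) 0 && Nat.beq n 16) || (Nat.beq (flag r) 1 && Nat.beq n 1)

/-- records are valid, increasing, and the unit map is multiplication by the unit -/
noncomputable def recChk (i : ℕ) : Bool :=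
  force (recOf i) fun r => valOK r && (Nat.beq (i + 1) 16240 || Nat.blt r (recOf (i + 1))) &&
    force (permT 2 i) fun j => Nat.blt j 16240 && Nat.beq (recOf j) (turn r)

/-! ### the automorphisms on packed vectors -/

def colList : ℕ → List ℕ
  | 0 => colsA
  | _ => colsB
def colTList : ℕ → List ℕ
  | 0 => colsTA
  | _ => colsTB
def sumTab : ℕ → List ℕ
  | 0 => sumTabA
  | _ => sumTabB

def nibSum (tab : List ℕ) (x q : ℕ) : ℕ :=
  Nat.land ((tab.getD q 0) >>> (448 * Nat.land (x >>> (4 * q)) 15)) m448
/-- table form of a sum over the bits -/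
def bitSum (tab : List ℕ) (x : ℕ) : ℕ :=
  nibSum tab x 0 + nibSum tab x 1 + nibSum tab x 2 + nibSum tab x 3 + nibSum tab x 4 + nibSum tab x 5 +
  nibSum tab x 6 + nibSum tab x 7 + nibSum tab x 8 + nibSum tab x 9 + nibSum tab x 10 + nibSum tab x 11 +
  nibSum tab x 12 + nibSum tab x 13

/-- a column shifted to be nonnegative -/
def colP (c : ℕ) : ℕ :=
  offAll + mag c * bitSum expTab (posM c) - mag c * bitSum expTab (negM c)

/-- four bits of a table against their sum -/
def tabEntry (f : ℕ → ℕ) (q v : ℕ) : ℕ :=
  v % 2 * f (4 * q) + v / 2 % 2 * f (4 * q + 1) + v / 4 % 2 * f (4 * q + 2) + v / 8 % 2 * f (4 * q + 3)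

noncomputable def expTabOK : Bool :=
  allRange 0 14 fun q => allRange 0 16 fun v =>
    Nat.beq (Nat.land ((expTab.getD q 0) >>> (448 * v)) m448) (tabEntry (fun j => 256 ^ j) q v)

noncomputable def sumTabOK (g : ℕ) : Bool :=
  allRange 0 14 fun q => allRange 0 16 fun v =>
    Nat.beq (Nat.land (((sumTab g).getD q 0) >>> (448 * v)) m448)
      (tabEntry (fun j => colP (recOf ((colList g).getD j 0))) q v)

/-- automorphism `g` takes vector `i` to vector `permT g i` -/
noncomputable def imgChk (g i : ℕ) : Bool :=
  force (recOf i) fun r => force (permT g i) fun j => Nat.blt j 16240 && force (recOf j) fun s =>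
    force (posM r) fun a => force (negM r) fun b => force (mag r) fun m => force (mag s) fun m' =>
      Nat.beq
        (m * bitSum (sumTab g) a + 4 * m' * bitSum expTab (negM s) + m * pop b * offAll)
        (m * bitSum (sumTab g) b + 4 * m' * bitSum expTab (posM s) + m * pop a * offAll)

/-! ### orbit certificates -/

def genList : ℕ → List (List ℕ)
  | 0 => [[0], [1]]
  | 1 => genW1
  | 2 => genW2
  | 3 => genW3
  | 4 => genW4
  | _ => genW5

def fillList : ℕ → List (List (ℕ × ℕ × ℕ))
  | 0 => fill0
  | 1 => fill1
  | 2 => fill2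
  | 3 => fill3
  | 4 => fill4
  | _ => fill5

/-- extend a mask along certified edges -/
noncomputable def fillM (ws : List (List ℕ)) : List (ℕ × ℕ × ℕ) → ℕ → Option ℕ
  | [], m => some m
  | (c, p, k) :: l, m =>
    bif Nat.testBit m p && walk permT (ws.getD k []) p (fun e => Nat.beq e c) && Nat.blt k ws.length then
      fillM ws l (Nat.lor m (2 ^ c))
    else none

/-- chunks of edges -/
noncomputable def fillAll (ws : List (List ℕ)) : List (List (ℕ × ℕ × ℕ)) → ℕ → Option ℕ
  | [], m => some m
  | l :: ls, m => match fillM ws l m with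
    | none => none
    | some m' => fillAll ws ls m'

noncomputable def orbOK (ws : List (List ℕ)) (root : ℕ) (cert : List (List (ℕ × ℕ × ℕ))) (mask : ℕ) : Bool :=
  match fillAll ws cert (2 ^ root) with
  | none => false
  | some m => Nat.beq m mask

def levelSize : List ℕ := [16240, 2304, 78, 2, 25, 4]

noncomputable def levelOK (d : ℕ) : Bool :=
  orbOK (genList d) (baseI.getD d 0) (fillList d) (levelMasks.getD d 0) &&
    Nat.beq ((fillList d).flatten.length + 1) (levelSize.getD d 0) &&
    (genList d).all fun w => w.all (fun k => Nat.blt k 3) &&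
      (List.range d).all fun t => walk permT w (baseI.getD t 0) fun e => Nat.beq e (baseI.getD t 0)

/-! ### products with the base -/

/-- code of the Hermitian product with spanning vector `t` -/
noncomputable def hC (r t : ℕ) : ℕ :=
  dotC r (spanRec.getD t 0) + 8192 * dotC r (spanTurn.getD t 0)

/-- code of the product of spanning vectors `k` and `t` -/
noncomputable def hT (k t : ℕ) : ℕ := hC (spanRec.getD k 0) t

noncomputable def spanRecOK : Bool :=
  allRange 0 28 fun t => Nat.beq (recOf (spanI.getD t 0)) (spanRec.getD t 0) &&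
    Nat.beq (recOf (permT 2 (spanI.getD t 0))) (spanTurn.getD t 0) && Nat.blt (spanI.getD t 0) 16240 &&
    (Nat.ble 6 t || Nat.beq (spanI.getD t 0) (baseI.getD t 0))

/-- products of `r` with spanning vectors `t .. t + len` are those of number `k` -/
noncomputable def prefEq (r k : ℕ) : ℕ → ℕ → Bool
  | _, 0 => true
  | t, len + 1 => Nat.beq (hC r t) (hT k t) && prefEq r k (t + 1) len

/-- code of a pair of integers -/
def hCode (re im : ℤ) : ℕ := (4096 + re).toNat + 8192 * (4096 + im).toNat

def zeroH : ℕ := 4096 + 8192 * 4096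

/-- the classes of vector `i` -/
noncomputable def scanChk (i : ℕ) : Bool :=
  force (recOf i) fun r => force (hC r 0) fun a =>
    (allRange 1 27 fun k => !(Nat.beq a (hT k 0)) ||
      (bif Nat.blt k 6 then !(prefEq r k 1 (k - 1)) || Nat.testBit (levelMasks.getD k 0) i
       else !(prefEq r k 1 5) || Nat.beq i (spanI.getD k 0))) &&
    (!(Nat.beq a zeroH) || Nat.testBit orthMask i) &&
    (Nat.beq a zeroH ||
      Nat.beq a (hCode 4 0) || Nat.beq a (hCode (-4) 0) || Nat.beq a (hCode 0 4) || Nat.beq a (hCode 0 (-4)) ||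
      ([spanI.getD 0 0, permT 2 (spanI.getD 0 0), permT 2 (permT 2 (spanI.getD 0 0)),
        permT 2 (permT 2 (permT 2 (spanI.getD 0 0)))].any fun j => Nat.beq i j))

/-! ### the code modulo two -/

def bitN (x j : ℕ) : ℕ := (Nat.testBit x j).toNat

/-- exclusive or of the selected entries -/
def selXor : List ℕ → ℕ → ℕ
  | [], _ => 0
  | g :: l, s => Nat.xor ((s % 2) * g) (selXor l (s / 2))

/-- inner product modulo four of a 0-1 mask with the selected rows -/
def selDot (m : ℕ) : List ℕ → List ℕ → ℕ → ℕ
  | a :: la, b :: lb, s =>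
    (s % 2) * (pop (Nat.land m a) + 2 * pop (Nat.land m b)) + selDot m la lb (s / 2)
  | _, _, _ => 0

def clr : ℕ → ℕ → ℕ
  | 0, x => x
  | k + 1, x => clr k (Nat.land x (x - 1))

/-- pivot rows -/
noncomputable def pivOK (m free : ℕ) : List ℕ → List ℕ → ℕ → Bool
  | h :: hs, s :: ss, acc =>
    force (Nat.land (selXor planeLo s) m) fun x =>
      Nat.beq (Nat.land x (Nat.xor M56 free)) (2 ^ h) && Nat.testBit m h && pivOK m free hs ss (Nat.lor acc (2 ^ h))
  | [], [], acc => Nat.beq (Nat.lor acc free) m
  | _, _, _ => false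

def freeMask : List ℕ → ℕ
  | [] => 0
  | j :: l => Nat.lor (2 ^ j) (freeMask l)

/-- the member for each pattern of free signs -/
noncomputable def membOK (m : ℕ) (free : List ℕ) : List ℕ → ℕ → Bool
  | [], f => Nat.beq f (2 ^ free.length)
  | i :: l, f => Nat.blt i 16240 && force (recOf i) fun r =>
      Nat.beq (flag r) 0 && Nat.beq (Nat.lor (posM r) (negM r)) m &&
      (List.range free.length).all (fun t => bitN (negM r) (free.getD t 0) == bitN f t) &&
      membOK m free l (f + 1)

/-- no vector of the class has extra mask `X` -/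
def killsX (m : ℕ) (rows : List ℕ) (X : ℕ) : Bool :=
  rows.any fun s => Nat.beq ((selDot m planeLo planeHi s / 2 + pop (Nat.land X (selXor planeLo s))) % 2) 1

/-- a certified class -/
noncomputable def clsOK (m : ℕ) : Cls → Bool
  | (_, 1, hs, rows, free, memb) =>
    Nat.beq (pop m) 16 && pivOK m (freeMask free) hs rows 0 && membOK m free memb 0
  | (_, 0, _, rows, _, _) =>
    Nat.beq (pop m) 16 && rows.any fun s => Nat.beq (Nat.land (selXor planeLo s) m) 0 &&
      Nat.beq (selDot m planeLo planeHi s % 4) 2
  | (_, 2, _, rows, _, _) =>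
    Nat.beq (pop m) 8 &&
      rows.all (fun s => Nat.beq (Nat.land (selXor planeLo s) m) 0 && Nat.beq (selDot m planeLo planeHi s % 2) 0) &&
      killsX m rows 0 &&
      (List.range 56).all (fun j => (List.range j).all fun k =>
        m.testBit j || m.testBit k || killsX m rows (Nat.lor (2 ^ j) (2 ^ k)))
  | _ => false

def evenOf (m : ℕ) : ℕ := Nat.land m evenBits

def findCls (d : ℕ) : List Cls → Option Cls
  | [] => none
  | e :: l => bif Nat.beq e.1 d then some e else findCls d l

/-- one codeword against the weight limit; `notP` selects the coordinates off the parity word -/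
noncomputable def leafOK (notP r : ℕ) (cs : List Cls) (skip : Bool) (m d : ℕ) : Bool :=
  !(Nat.beq (clr r (Nat.land (Nat.land m evenBits) notP)) 0) || (skip && Nat.beq d 0) ||
    match findCls d cs with
    | some e => clsOK m e
    | none => false

/-- all choices of the last ten generators -/
noncomputable def dRec (leaf : ℕ → ℕ → Bool) : List ℕ → ℕ → ℕ → ℕ → Bool
  | [], m, d, _ => leaf m d
  | g :: l, m, d, p => dRec leaf l m d (2 * p) && force (Nat.xor m g) fun m' => dRec leaf l m' (d + p) (2 * p)

/-- parity word of a code element on even positions -/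
def parWord (a : ℕ) : ℕ := Nat.land (Nat.xor a (a >>> 1)) evenBits

/-- all codewords with first part `c` -/
noncomputable def cOK (c : ℕ) : Bool :=
  force (selXor (codeGen.take 9) c) fun a => force (parWord a) fun p => force (pop p) fun w =>
    Nat.blt 16 w || (force (Nat.xor evenBits p) fun notP => force ((16 - w) / 2) fun r =>
      dRec (leafOK notP r ((classes.getD (c / 16) []).getD (c % 16) []) (Nat.beq c 0))
        (codeGen.drop 9) a 0 1)

/-- the generators of the code are selections of rows, and the last ten have no parity -/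
noncomputable def genOK : Bool :=
  Nat.beq codeGen.length 19 && Nat.beq codeSel.length 19 &&
    allRange 0 19 (fun k => Nat.beq (selXor planeLo (codeSel.getD k 0)) (codeGen.getD k 0) &&
      (Nat.blt k 9 || Nat.beq (parWord (codeGen.getD k 0)) 0))

/-- syndrome of a position -/
def synd (j : ℕ) : List ℕ → ℕ
  | [] => 0
  | g :: l => bitN g j + 2 * synd j l

/-- pair syndromes are nonzero and distinct -/
noncomputable def pairAcc : List (ℕ × ℕ) → ℕ → Bool
  | [], _ => true
  | (j, k) :: l, acc => force (Nat.xor (synd j codeGen) (synd k codeGen)) fun s =>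
      !(Nat.beq s 0) && !(Nat.testBit acc s) && pairAcc l (Nat.lor acc (2 ^ s))

def pairList : List (ℕ × ℕ) := (List.range 56).flatMap fun j => (List.range j).map fun k => (j, k)

end H91.Ru
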