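/- Kernel checks for the order and simplicity of the quotient of the automorphism group. -/
import Mathlib
import Cfsg.Agent.H91.Ru.Defs

set_option autoImplicit false
set_option maxRecDepth 100000

noncomputable section

namespace H91.Ru

open H93.Coset (allRange pathEnd walk force)

def maskCount (m : ℕ) : ℕ :=
  Nat.rec (motive := fun _ => ℕ) 0 (fun i c => bif Nat.testBit m i then c + 1 else c) 16240

/-- iterate of a word -/
def powW (w : List ℕ) : ℕ → List ℕ
  | 0 => []
  | n + 1 => powW w n ++ w

/-- the word to the power twenty-nine is a scalar on the base -/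
def scal29 (w : List ℕ) : Bool :=
  [0, 1, 2, 3].any fun c =>
    (List.range 6).all fun t => Nat.beq (pathEnd permT (powW w 29) (baseI.getD t 0)) (pathEnd permT (List.replicate c 2) (baseI.getD t 0))

/-- no vanishing product with the first base vector, and the witness meets the spanning vector -/
def connOK : Bool :=
  allRange 0 28 fun t => Nat.blt (connI.getD t 0) 16240 &&
    !(Nat.beq (hC (recOf (connI.getD t 0)) 0) zeroH) && !(Nat.beq (hC (recOf (connI.getD t 0)) t) zeroH)

/-- a combination of the spanning vectors and their turns -/
def combS (row : List Int) (k : ℕ) : ℤ :=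
  (List.range 28).foldr
    (fun t acc => row.getD t 0 * (mag (spanRec.getD t 0) : ℤ) * ((bitN (posM (spanRec.getD t 0)) k : ℤ) - (bitN (negM (spanRec.getD t 0)) k : ℤ)) +
      row.getD (28 + t) 0 * (mag (spanTurn.getD t 0) : ℤ) * ((bitN (posM (spanTurn.getD t 0)) k : ℤ) - (bitN (negM (spanTurn.getD t 0)) k : ℤ)) + acc) 0

theorem count0 : maskCount (levelMasks.getD 0 0) = 16240 := by decide +kernel

theorem count1 : maskCount (levelMasks.getD 1 0) = 2304 := by decide +kernel

theorem count2 : maskCount (levelMasks.getD 2 0) = 78 := by decide +kernel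

theorem count3 : maskCount (levelMasks.getD 3 0) = 2 := by decide +kernel

theorem count4 : maskCount (levelMasks.getD 4 0) = 25 := by decide +kernel

theorem count5 : maskCount (levelMasks.getD 5 0) = 4 := by decide +kernel

theorem conn_ok : connOK = true := by decide +kernel

theorem scal_x0 : scal29 (wordsX.getD 0 []) = true ∧ scal29 (wordsX.getD 0 [] ++ [0]) = true := by decide +kernel

theorem scal_x1 : scal29 (wordsX.getD 1 []) = true ∧ scal29 (wordsX.getD 1 [] ++ [1]) = true := by decide +kernel

theorem comb_span : ∀ j : Fin 56, ∀ k : Fin 56,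
    combS (spanCoef.getD j.val []) k.val = if k = j then 4 * (spanDen : ℤ) else 0 := by decide +kernel

theorem orth_moved : pathEnd permT (genW1.getD 0 []) orthRoot ≠ orthRoot ∨
    pathEnd permT (genW1.getD 1 []) orthRoot ≠ orthRoot := by decide +kernel

theorem phase_moved : pathEnd permT (genW1.getD 0 []) (baseI.getD 1 0) ≠ baseI.getD 1 0 ∨
    pathEnd permT (genW1.getD 1 []) (baseI.getD 1 0) ≠ baseI.getD 1 0 := by decide +kernel

theorem genW1_len : 2 ≤ genW1.length := by decide +kernel

end H91.Ru
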