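/- Kernel checks for the Rudvalis lattice: codewords, first half. -/
import Cfsg.Agent.H91.Ru.Defs

set_option autoImplicit false
set_option maxRecDepth 100000

namespace H91.Ru

open H93.Coset (allRange allRange_spec)

theorem codeA0 : allRange 0 64 cOK = true := by decide +kernel

theorem codeA1 : allRange 64 64 cOK = true := by decide +kernel

theorem codeA2 : allRange 128 64 cOK = true := by decide +kernel

theorem codeA3 : allRange 192 64 cOK = true := by decide +kernel

theorem codeA_ok (i : ℕ) (h : i < 256) : cOK i = true := by
  by_cases h0 : i < 64
  · exact allRange_spec codeA0 i (by omega) (by omega)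
  by_cases h1 : i < 128
  · exact allRange_spec codeA1 i (by omega) (by omega)
  by_cases h2 : i < 192
  · exact allRange_spec codeA2 i (by omega) (by omega)
  exact allRange_spec codeA3 i (by omega) (by omega)

end H91.Ru
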