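/- Kernel checks for the Rudvalis lattice: codewords, second half. -/
import Cfsg.Agent.H91.Ru.Defs

set_option autoImplicit false
set_option maxRecDepth 100000

namespace H91.Ru

open H93.Coset (allRange allRange_spec)

theorem codeB0 : allRange 256 64 cOK = true := by decide +kernel

theorem codeB1 : allRange 320 64 cOK = true := by decide +kernel

theorem codeB2 : allRange 384 64 cOK = true := by decide +kernel

theorem codeB3 : allRange 448 64 cOK = true := by decide +kernel

theorem codeB_ok (i : ℕ) (h1 : 256 ≤ i) (h : i < 512) : cOK i = true := by
  by_cases h2 : i < 320
  · exact allRange_spec codeB0 i h1 (by omega)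
  by_cases h3 : i < 384
  · exact allRange_spec codeB1 i (by omega) (by omega)
  by_cases h4 : i < 448
  · exact allRange_spec codeB2 i (by omega) (by omega)
  exact allRange_spec codeB3 i (by omega) (by omega)

end H91.Ru
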