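/- Kernel checks for the Rudvalis lattice: second automorphism. -/
import Cfsg.Agent.H91.Ru.Defs

set_option autoImplicit false
set_option maxRecDepth 100000

namespace H91.Ru

open H93.Coset (allRange allRange_spec)

theorem imgB0 : allRange 0 4060 (imgChk 1) = true := by decide +kernel

theorem imgB1 : allRange 4060 4060 (imgChk 1) = true := by decide +kernel

theorem imgB2 : allRange 8120 4060 (imgChk 1) = true := by decide +kernel

theorem imgB3 : allRange 12180 4060 (imgChk 1) = true := by decide +kernel

theorem imgB_ok (i : ℕ) (h : i < 16240) : (imgChk 1) i = true := by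
  by_cases h0 : i < 4060
  · exact allRange_spec imgB0 i (by omega) (by omega)
  by_cases h1 : i < 8120
  · exact allRange_spec imgB1 i (by omega) (by omega)
  by_cases h2 : i < 12180
  · exact allRange_spec imgB2 i (by omega) (by omega)
  exact allRange_spec imgB3 i (by omega) (by omega)

end H91.Ru
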