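/- Kernel checks for the Rudvalis lattice: tables and orbits. -/
import Cfsg.Agent.H91.Ru.Defs

set_option autoImplicit false
set_option maxRecDepth 100000

namespace H91.Ru

open H93.Coset (allRange allRange_spec)

theorem level0_ok : levelOK 0 = true := by decide +kernel

theorem level1_ok : levelOK 1 = true := by decide +kernel

theorem level2_ok : levelOK 2 = true := by decide +kernel

theorem level3_ok : levelOK 3 = true := by decide +kernel

theorem level4_ok : levelOK 4 = true := by decide +kernel

theorem level5_ok : levelOK 5 = true := by decide +kernel

theorem orth_ok : orbOK genW1 orthRoot fillOrth orthMask = true := by decide +kernel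

theorem span_ok : spanRecOK = true := by decide +kernel

theorem expTab_ok : expTabOK = true := by decide +kernel

theorem sumTabA_ok : sumTabOK 0 = true := by decide +kernel

theorem sumTabB_ok : sumTabOK 1 = true := by decide +kernel

theorem gen_ok : genOK = true := by decide +kernel

theorem pair_ok : pairAcc pairList 0 = true := by decide +kernel

end H91.Ru
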