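/- Generated tables: images of the basis of the Rudvalis lattice under two isometries. -/
import Mathlib.Data.Int.Basic

set_option autoImplicit false
set_option maxRecDepth 100000

namespace H91.Ru

def imgRowsA : List (List Int) :=
  [[1, 0, 0, 0, 1, 0, 1, -1, 1, 0, -2, -1, 2, 1, -1, 0, -1, 0, 0, 0, -1, -1, 0, 1, 1, 0, 0, -1, 0, 0, 1, 1, 0, 0, -1, 1, -1, 0, 0, 1, -2, -1, 0, 0, 0, 1, 0, 0, 1, 0, 2, 0, 0, 0, 0, 1],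
    [1, 1, 0, -1, 0, 1, 0, 0, 1, 0, -1, -2, 2, 0, 0, 0, -1, 0, -1, 0, 0, -2, -1, 1, 0, -1, 0, -2, -1, -4, -1, 3, -1, -1, -1, 2, 0, 1, -2, 0, -1, -1, 1, -2, 1, 1, -1, 0, 1, 0, 2, 1, 0, -1, -1, 2],
    [1, 0, -1, 0, 0, 0, 1, -1, 1, 0, -2, -2, 1, 0, 2, 0, 0, 1, 0, 0, -1, -1, 0, 1, 1, -1, -1, -2, -2, -2, 0, 3, 0, 0, -1, 1, -1, -1, -1, 1, 0, -1, 0, -2, 0, 0, 0, 1, 1, 1, 1, 1, -1, 0, 0, 1],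
    [0, 1, 0, -1, 1, 0, 1, 0, 1, 1, -1, -2, 2, 1, 1, -1, 0, 1, -1, 0, 0, -2, -1, 1, 0, 0, 0, -2, -1, -2, -1, 2, 0, -1, -2, 2, -1, 2, -1, -1, -1, -2, 1, -1, 0, 0, -1, 0, 0, -2, 1, 0, -1, 1, 0, 1],
    [1, -1, 1, 0, 1, 2, 0, 0, 1, -1, -1, -1, 1, 0, 2, -1, 0, 0, 0, 0, 0, -1, 0, 1, -1, 0, 1, -1, 0, -1, 0, 2, 0, 0, -1, 2, -1, 2, -2, 0, 0, -1, 0, -2, 0, 1, -1, -1, 0, 0, 1, 1, 0, 0, 0, 2],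
    [1, 1, 0, 0, 0, 0, 0, 0, 0, 0, -1, -2, 2, -1, 0, 0, 0, 0, -1, 1, 0, -1, 0, 1, 0, -2, -1, -1, 0, -3, -1, 2, 1, -1, -1, 2, 0, 0, -1, 0, -2, -1, 1, -1, 1, 1, -1, 0, 1, 0, 2, 0, 0, -1, 0, 2],
    [2, 0, -2, 1, 0, 1, 1, -1, 0, 0, -2, -2, 1, 0, 2, -1, 0, 1, -1, 0, -1, -1, -1, 1, 1, -1, -1, -2, -2, -2, -1, 2, 0, -1, -1, 1, -1, 1, -1, 0, -1, -1, 0, -3, 0, 2, -1, 0, 1, -1, 2, 0, -2, 0, 0, 2],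
    [2, 0, -1, 1, 0, 1, 0, -1, 1, -1, -1, -1, 2, -1, 0, -1, 0, 0, -1, 0, 0, -2, 0, 1, -1, -2, 0, -2, -1, -1, -1, 2, 0, 0, -2, 1, 0, 0, 0, 1, -2, -2, 0, 0, -1, 1, 0, 0, 1, 0, 2, 0, -1, 1, 0, 1],
    [0, 0, -1, 0, 1, 0, 1, -1, 1, 0, -1, 0, 2, 0, 2, 0, 0, 0, -1, -1, 0, -1, -1, 0, 1, -2, 1, -3, 0, -1, 0, 2, 0, 0, -1, 0, 0, 1, -1, 1, -2, -1, 0, -2, 1, 0, 0, 0, 1, 2, 2, 1, -1, 0, 0, 1],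
    [1, 0, -1, 1, 1, 1, 0, -1, 0, -1, -1, -1, 2, -1, 0, 0, 0, 1, -2, -1, -2, -1, 0, 1, 0, -2, 0, -1, 0, -1, -1, 1, -1, 0, 0, 3, 1, 1, 0, 0, -2, 0, 1, -1, 0, 1, -1, 0, 0, 0, 1, 0, 0, 0, 0, 1],
    [1, 1, 0, 1, 1, -1, 0, -1, 1, 0, 0, -1, 1, 0, 2, -1, -1, 1, 0, -1, 1, -2, -1, 1, 0, 0, 0, -2, 0, -1, -1, 2, -2, -1, -3, 0, 0, 2, 0, 0, -1, 0, -1, -1, 1, 0, -1, -1, 1, 0, 1, 1, -1, 1, 0, 1],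
    [1, 0, 0, -1, 1, 1, 0, -2, 1, -1, -1, -1, 2, -1, 2, -1, -1, 0, -1, -1, -1, -2, -1, 1, 0, -1, 2, 0, -1, -1, 0, 1, -1, 0, -2, 2, 0, 1, 0, 0, -2, -2, -1, -1, 0, 0, 0, 0, 0, 0, 3, 0, -1, 0, 1, 1],
    [1, 0, 0, 0, 0, 1, 0, 0, 0, 0, -1, -1, 3, -1, 1, -1, 0, 1, -1, -1, -2, -2, -1, 0, 0, -2, -1, -3, 0, -1, 0, 3, 0, 0, 0, 2, 0, 1, -2, 1, -1, -1, 0, -1, 1, 1, -1, 0, 1, 1, 2, 1, 1, 0, 0, 2],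
    [1, 1, 0, -1, 0, 2, 0, -1, 2, 0, 0, -1, 2, -1, 2, -2, 1, 0, -1, -1, 0, -1, -1, -1, -1, -1, 1, -1, 0, -2, -1, 1, 0, 0, -1, 2, 0, 1, 0, 0, -1, -2, 0, -3, 1, 1, 0, 0, 1, -1, 2, 0, -2, -1, 1, 2],
    [1, 2, -1, 0, 0, 0, 0, -2, 2, 0, 0, 0, 3, -2, 1, -2, 0, 1, -1, -1, -1, -2, 0, 0, -1, -1, 0, -1, 0, -1, -1, 1, -1, 0, -2, 2, 1, 2, 1, 1, -1, -1, 0, -2, 0, 0, 0, 0, 0, -1, 2, 0, -1, -1, 1, 2],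
    [1, 1, -1, -1, 1, 1, 1, -1, 2, 0, -1, -1, 3, -1, 2, -2, -1, 0, -1, -2, 0, -3, -1, 0, 0, -2, 2, -2, -1, -1, -1, 1, 0, 0, -2, 2, 0, 2, 0, 0, -2, -2, 0, -2, 0, 0, 0, 0, 0, -1, 3, 0, -1, 0, 1, 2],
    [1, 1, 0, 0, 1, 1, 0, 0, 1, -1, 0, -2, 3, -1, 0, 0, -1, 0, 0, -1, 1, -2, -1, 0, 0, -1, 2, -1, 0, -1, -1, 2, -1, 0, -2, 1, 1, 2, -1, 0, -2, -2, 0, -2, 0, 0, -2, 0, 0, 1, 2, 1, 0, 1, 1, 2],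
    [1, 0, 0, 0, 0, -1, 0, 0, 1, 0, 0, -1, 2, -1, 1, 0, -1, 0, 0, 0, 0, -2, -1, 0, 0, -2, 0, -2, 0, -1, -1, 2, 1, 0, 0, 1, 0, 0, 0, 0, -1, -1, 1, -2, 1, 1, 0, 1, 1, 1, 1, 0, -1, 0, 1, 1],
    [1, 0, -2, 0, 0, 0, -1, -2, 1, -1, -1, -1, 2, -1, 1, 0, 0, 0, 0, 0, 1, -2, -1, 2, 0, -1, 0, -2, 0, -1, 0, 2, 0, 0, -4, 1, 0, 1, 0, 0, -2, -1, -1, -1, -1, 0, 1, 1, 2, 1, 2, 1, 0, 1, 0, 1],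
    [2, 0, 0, -1, 0, 1, 1, -1, 1, -1, 0, -2, 2, -1, 0, -1, -1, 0, -1, 0, 0, -2, -1, 1, -1, -2, 1, -1, -1, -2, -1, 3, 0, 0, -1, 2, 1, 0, 0, 0, -2, -1, 0, -2, 0, -1, -1, 1, 0, 1, 2, 1, 1, 0, 1, 2],
    [1, 0, 1, 0, 0, 2, 0, 0, 1, 0, 0, 1, 1, -1, 1, -1, 1, 0, -1, -1, 0, -1, 0, 0, -1, -1, 1, 0, -1, 0, -1, 1, 0, 1, -1, 1, 0, 1, 0, 0, -1, -1, 0, 0, 0, 0, 0, 0, 0, 0, 1, 0, -1, 0, 1, 1],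
    [1, 1, -1, 0, 0, 1, 1, -1, 1, 1, -1, -1, 1, 0, 0, -1, 0, -1, -1, 0, 1, -1, -1, 1, -1, -1, 0, -1, -1, -1, -1, 2, 0, 0, -2, 1, 0, -1, 0, 0, -1, -1, 0, -1, -1, 1, 0, 1, 1, 0, 2, 1, -1, 0, 0, 1],
    [1, -1, -1, 0, 0, 1, 1, -1, 1, -1, -1, -1, 1, 0, 2, -1, -2, 0, -1, -1, -1, -2, 0, 1, 0, -2, 1, -2, -2, 0, 0, 3, 0, 0, -1, 2, 0, 1, -1, 1, -1, -1, -1, -2, 0, 0, 0, 1, 0, 0, 3, 1, -1, 1, 1, 1],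
    [0, 0, 0, -1, 0, 0, 0, -1, 1, 0, 0, 1, 0, -1, 1, 0, 0, -1, 0, 0, 0, 0, 0, 1, -1, 0, 1, 0, 0, 0, 0, 0, 0, 1, -1, 0, 0, 0, 0, 0, 0, 0, 0, -1, 0, 0, 1, 0, 0, 0, 0, 1, 0, -1, 0, 0],
    [1, 0, -1, 1, 1, 0, 0, 0, 1, 0, -1, -2, 1, 0, 1, 0, 0, 2, 0, -1, 0, -1, -1, 1, 0, -1, -1, -2, -1, -1, 0, 4, -2, 0, -1, 1, 0, 1, -1, 0, -1, 0, 0, -2, -1, 0, 0, 0, 0, 0, 1, 0, -1, 0, 0, 2],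
    [1, 0, -1, 0, 1, 1, 1, -1, 1, 0, -1, -2, 2, 0, 1, -1, -1, 1, -1, 0, -1, -1, -2, 1, 1, -2, 0, -2, -1, -1, -1, 2, 0, -1, -1, 3, 0, 1, 0, 0, -1, -1, 1, -1, -1, 1, 0, 2, 1, -1, 3, 0, 0, 1, -1, 1],
    [0, 0, -2, 0, 1, 1, 1, -1, 1, 0, -1, -2, 2, 1, 1, 0, -1, 1, -2, 0, 0, -2, -1, 1, 0, -2, 0, -2, -1, -1, -1, 3, -1, 0, -1, 2, 0, 1, -1, 0, -2, 0, 1, -1, -2, 0, -1, 1, 0, 0, 2, 0, -1, 1, -1, 1],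
    [0, -1, 0, 0, 0, 1, 0, 0, 0, 1, -1, -1, 1, 1, 1, 0, -1, 1, 0, -1, -1, -1, 0, 1, 1, 0, 0, -1, 0, 1, 1, 2, -1, 0, -1, 1, -1, 1, -1, 0, 0, -1, 0, -1, 0, 0, 0, 0, 0, -1, 1, 0, 0, 0, 0, 0],
    [1, 1, -2, 0, 1, 0, 2, -1, 1, 0, 0, -2, 2, 1, 1, -1, -1, 1, -1, 0, 0, -1, -2, 0, 1, -1, 1, -2, -1, -1, -1, 2, -1, 0, 0, 1, 1, 2, 0, 1, -2, 0, 1, -2, -1, 0, -1, 1, 0, 0, 2, 0, -1, 0, 0, 1],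
    [0, 0, -1, 0, 1, 1, -1, 0, 0, 0, -1, 0, 1, 0, 0, 0, 0, 1, 0, 0, -1, 0, 0, 0, 0, 0, 0, 0, 0, 0, 1, 1, -1, 0, -1, 1, -1, 1, -1, 0, -1, -1, 0, 0, -1, 0, 1, 0, 0, 0, 1, -1, 1, 0, 0, 1],
    [1, 1, -1, 0, 1, 1, 1, 0, 1, 0, -1, -2, 3, 0, 1, -2, 0, 1, -1, -1, 0, -2, -1, 0, 1, -2, 1, -2, -1, -1, -1, 3, -1, 0, -1, 2, 2, 2, -1, 1, -2, -1, 0, -2, -1, 0, -1, 1, -1, 0, 2, 0, -1, 1, 1, 2],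
    [0, 0, 0, 0, 1, 0, -1, 0, 0, 0, 0, -1, 0, 0, 1, 0, 0, 1, 0, 0, 0, 0, -1, 0, 0, 1, 0, 0, 1, 0, 0, 0, -1, 0, -1, 0, 0, 1, 0, -1, 0, 0, 0, -1, -1, 0, 0, 0, 0, -1, 0, -1, 0, 0, 0, 0],
    [1, 1, -1, 0, -1, 1, 1, 0, 1, 0, -1, -2, 2, -1, 0, -1, 0, 0, 0, -1, -1, -2, 0, 0, 0, 0, 0, 0, -2, -1, 1, 2, -1, -1, -1, 1, 0, 1, 0, 1, -1, -1, 0, -1, 1, -1, -1, 0, 0, -1, 1, 1, -1, 1, 1, 2],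
    [1, 0, -2, 0, 0, 1, 1, -1, 1, 1, -1, -2, 3, 0, 1, -1, 0, 0, -1, 0, 0, -2, -1, 0, 1, -3, 0, -2, -1, -1, -1, 3, 1, -1, -1, 2, 0, 1, -1, 1, -2, -2, 1, -1, 0, 1, 0, 1, 1, 0, 3, 0, -1, 1, 0, 2],
    [1, 0, 1, 0, 0, 1, 0, 1, 0, 0, 0, -1, 1, 0, 0, 0, 0, -1, 0, -1, 0, -2, 0, 0, 0, 0, 0, 0, -1, 0, 1, 2, 0, 0, -2, 1, 0, 0, -1, 0, 0, -1, 0, 0, 0, 0, -1, 0, 1, 0, 1, 1, 0, 1, 1, 1],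
    [0, 0, 0, 0, 0, 1, -1, 0, 0, 0, 0, 0, 1, 0, -1, 0, 1, 0, 0, 0, 1, 0, 0, 0, -1, 0, 0, 0, 0, 0, 0, 1, 0, 0, -1, 0, 0, 0, -1, 0, -1, 0, 0, 1, -1, 0, 0, -1, 0, 1, 0, 0, 0, 0, 0, 1],
    [1, 1, -1, -1, 0, 1, 2, -1, 0, 0, -1, -2, 2, 0, 0, -1, -1, 0, -2, 0, -1, -1, -1, 0, 1, -1, 1, -2, -1, -1, -1, 2, 0, 0, 0, 2, 1, 1, 0, 0, -2, -1, 1, -1, 0, 0, -1, 2, 0, 0, 3, 1, 0, 1, 0, 1],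
    [0, 1, -1, 0, 0, 0, 2, 0, 1, 0, 0, -2, 2, 1, 1, -1, -1, 0, -1, -1, 0, -2, -1, 0, 0, -2, 1, -2, -1, -1, -2, 3, 0, -1, 0, 1, 0, 1, 0, 1, -1, -1, 1, -2, 0, 1, -1, 1, 0, 0, 1, 1, -2, 1, 0, 1],
    [0, 0, 1, 0, 0, 1, 0, 0, 0, 0, 0, 0, 1, 0, 0, -1, 0, 0, 0, 0, -1, 0, 1, 0, 0, 0, 0, 1, 0, 0, 1, 0, 0, 0, 0, 1, 0, 1, 0, 0, 0, -1, 0, 0, 1, 0, 0, 0, 0, -1, 1, 0, 1, 0, 0, 1],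
    [0, 0, 0, 1, -1, 0, 0, 0, 0, 0, 0, 0, 0, 1, 1, 0, 0, 0, 0, 0, 0, -1, 0, 1, 0, 0, -1, 0, 0, 0, 0, 1, 0, 0, -1, 0, -1, 0, 0, 0, 1, 0, 0, 0, 0, 1, 0, 0, 1, 0, 0, 1, 0, 1, -1, 0],
    [0, 0, -1, -1, 0, 0, 1, -1, 0, 0, -1, -1, 1, 1, 0, 0, -1, 0, -1, 0, 0, -1, -1, 0, 1, -1, 1, -1, -1, -1, -1, 1, 0, 0, 0, 2, 0, 0, 0, 0, -1, 0, 1, 0, -1, 0, 0, 1, 0, 0, 2, 0, 0, 0, 0, 0],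
    [1, -1, -1, 1, 0, 1, 1, 0, 0, 0, -1, -1, 0, -1, 1, 0, 0, 1, -1, -1, -1, 0, 0, 0, 0, -2, 0, -1, -1, 0, -1, 1, 0, 0, 0, 1, 0, 0, 0, 1, -1, 0, 0, -1, -1, 0, 0, 1, 0, 0, 1, 0, -1, 0, 1, 1],
    [1, 0, -1, 0, 0, 0, 0, 0, 0, -1, 0, -1, 1, -1, 0, 0, -1, 0, 0, 0, 0, -1, -1, 1, 0, -2, 0, -1, -1, -2, -1, 1, 0, -1, 0, 0, 1, 0, 0, 0, -1, 0, 0, -1, 1, 0, 0, 1, 1, 0, 1, -1, 0, 0, 0, 1],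
    [0, -1, 0, 0, 0, 1, 0, 0, 0, -1, 0, 0, 0, 0, 1, 0, 0, 0, -1, 0, 0, 0, -1, 0, 0, -1, 1, 0, 0, -1, -1, 0, 0, 0, 1, 0, 0, 1, 0, 0, 0, 0, 0, 0, 0, 1, -1, 0, 0, 1, 1, 0, 0, 0, 0, 0],
    [1, 1, -1, 0, 0, 0, 1, 0, 1, 1, 0, -1, 1, 0, 0, 0, -1, 0, 0, 0, 0, -1, 0, 0, 0, -1, 0, -1, -1, 0, -1, 2, 0, -1, 1, 1, 0, 0, -1, 0, -1, 0, 1, -2, 0, 0, 0, 0, -1, -1, 0, 0, -1, 0, 0, 1],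
    [0, 1, -1, 0, 0, 1, 1, 0, 0, 1, 0, 0, 0, 0, 0, -1, 1, 0, -1, 0, 0, 0, 0, 0, 0, 0, 0, 0, -1, 0, -1, 0, 0, 0, 0, 1, 0, 0, 1, 0, 0, 0, 1, 0, -1, 0, 0, 0, 0, -1, 0, 0, -1, 0, 0, 0],
    [1, 0, 0, 0, -1, 0, 0, 0, 0, 0, 0, -1, 0, -1, 0, 0, 0, 1, 0, 0, -1, 0, 0, 0, -1, 0, -1, 0, 0, -1, 0, 1, 0, 0, 1, 0, 0, -1, 0, 0, 0, 1, 0, -1, 0, 0, 0, 0, 0, 0, 0, 0, 0, -1, 0, 1],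
    [0, 1, 0, 0, 0, -1, 0, 0, 0, 0, 1, 0, 1, 0, 0, 0, -1, 0, 0, 0, 0, -1, 0, 0, 0, -1, 0, -1, 1, 0, -1, 0, 0, 0, 0, 1, 1, 0, 0, 0, -1, 0, 1, 0, 0, 0, 0, 0, 0, 0, 0, 0, 1, 0, -1, 0],
    [1, 0, -1, -1, 0, 0, 1, 0, 1, 0, -1, -1, 1, 0, 0, 0, -1, 0, 0, -1, 0, -1, -1, 0, 1, -1, 0, -1, -1, 0, 1, 1, 0, -1, -1, 0, 0, 0, -1, 1, -1, -1, -1, -1, 0, -1, 0, 1, 0, 0, 1, 0, -1, 1, 1, 0],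
    [0, 0, 1, 0, 0, 0, 0, 1, 0, 1, 0, 0, 0, 0, 1, 0, 0, 0, 0, -1, 0, 0, 0, -1, 0, -1, 0, -1, 0, 1, 0, 1, 1, 0, 0, 0, 0, 0, -1, 0, 0, -1, 0, -1, 0, 0, 0, 0, 0, 0, 0, 0, -1, 0, 1, 0],
    [0, -1, -1, 0, 0, 0, 0, 0, 0, 0, -1, 0, 0, 0, 0, 1, -1, 0, 0, 0, 0, 0, 0, 1, 0, -1, 0, 0, -1, 0, 0, 0, 0, -1, 0, 1, -1, 0, -1, 0, -1, 0, 0, 0, 0, 0, 1, 0, 0, -1, 0, -1, 0, 0, 0, 0],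
    [1, 0, 0, -1, 0, 0, 0, 0, 0, 0, 0, -1, 0, 0, -1, 0, 0, -1, 0, 0, 0, 0, -1, 0, 1, 0, 0, 0, 0, -1, 0, 0, 1, 0, -1, 0, 0, -1, 0, -1, 0, -1, 0, 0, 0, 0, 0, 1, 1, 0, 1, 0, 0, 0, 0, 0],
    [1, 0, 0, 1, 0, 0, 0, 0, 0, -1, 0, 0, 0, -1, 0, 0, 0, 0, 0, -1, 0, -1, 0, 0, 0, -1, 0, 0, -1, 0, 0, 0, -1, 0, -1, 0, 1, 0, 1, 0, 0, 0, -1, 0, 0, -1, 0, 0, 0, 0, 0, 0, 0, 1, 1, 0],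
    [0, 1, -1, 0, 0, 0, 0, 0, 1, 0, 0, 0, 1, 0, 0, 0, 0, 0, 1, 0, 1, 0, 0, 0, 1, 0, 0, 0, 0, -1, 0, 0, 0, -1, 0, -1, 0, 1, 0, 1, 0, 0, 0, -1, 1, 0, 0, 0, 0, 0, 0, 0, -1, 0, 0, 1],
    [0, 0, -1, 0, 0, 0, 0, -1, 0, 0, -1, 0, 1, 0, 0, 0, 0, 1, 0, 0, -1, 0, 0, 0, 1, 0, 0, -1, 0, 1, 1, 0, 0, 1, 0, 0, 0, 0, 0, 1, 0, 0, 0, 0, -1, 0, 0, 1, 0, 1, 1, 0, 0, 0, 0, 0],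
    [0, 0, 0, -1, 0, 0, 1, 0, 0, 0, 0, -1, 0, 1, 0, 0, -1, 0, 0, 0, 0, -1, 0, 0, 0, 1, 1, 0, -1, 0, 0, 1, -1, 0, 0, 0, 0, 0, -1, 0, 0, 0, 0, 0, 0, -1, -1, 0, -1, 0, 0, 1, 0, 0, 0, 0]]

def imgCoefA : List (List Int) :=
  [[1, 0, 0, 0, 1, 0, 1, -2, 1, 0, -2, -1, 2, -2, -1, -2, -1, 0, 0, 0, 4, 4, 4, -1, 1, -1, -1, -2, -1, -2, -2, 8, 0, 3, -2, 0, -1, 4, 2, -5, -3, -5, -5, 2, -5, 4, 4, 7, -1, 0, 7, 3, 7, 5, 3, 4],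
    [1, 1, 0, -1, 0, 1, 0, -1, 1, 0, -1, -2, 2, -2, -1, -1, -1, 0, -1, 1, 4, 2, 4, 0, 0, -1, -1, -3, -1, -4, -2, 12, -1, 3, -2, 2, 0, 5, 3, -3, -3, -5, -5, 0, -4, 4, 3, 3, -1, 0, 9, 3, 7, 4, 5, 4],
    [1, 0, -1, 0, 0, 0, 1, -1, 1, 0, -2, -1, 1, -1, 1, -1, 0, 1, 0, 0, 1, 1, 2, 0, 1, 0, -1, -2, -2, -2, -1, 6, 0, 1, -2, 2, -1, 0, 2, 1, 1, 0, 0, 0, -1, 2, -1, 2, 2, 0, 0, 0, 1, 1, 0, 4],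
    [0, 1, 0, -1, 1, 0, 1, -1, 1, 1, -1, -2, 2, -3, -1, -2, 0, 1, -1, 0, 5, 3, 4, 0, 0, -1, -1, -3, -1, -3, -3, 11, 0, 3, -4, 2, -2, 5, 5, -4, 0, -5, -4, -1, -5, 4, 3, 4, 1, 0, 6, 3, 6, 4, 4, 4],
    [1, -1, 1, 0, 1, 2, 0, -2, 1, -1, -1, -2, 1, -1, 1, -2, 0, 0, 0, -2, 3, 2, 3, 0, -1, 0, 0, 0, 0, -1, -1, 5, 0, 1, -2, 2, -1, 4, 1, -4, -2, -4, -3, 2, -2, 2, 3, 3, -1, -1, 5, 4, 7, 1, 2, 3],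
    [1, 1, 0, 0, 0, 0, 0, -1, 0, 0, -1, -1, 2, -2, -1, -1, 0, 0, -1, 1, 3, 2, 4, 0, 0, -2, -1, -2, 0, -3, -2, 9, 1, 2, -3, 2, -1, 2, 2, -1, -1, -2, -2, 0, -2, 3, 0, 3, 0, 0, 4, 2, 3, 2, 3, 1],
    [2, 0, -2, 1, 0, 1, 1, -2, 0, 0, -2, -1, 1, 0, 0, -2, 0, 1, -1, 0, 1, 1, 3, 2, 1, 0, -1, -2, -2, -1, -2, 6, 0, 2, -3, 3, -1, 1, 1, 1, 0, 0, 0, 0, -2, 3, -1, 3, 2, 0, 0, 0, 4, 2, 2, 5],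
    [2, 0, -1, 1, 0, 1, 0, -2, 1, -1, -1, -1, 2, -1, -1, -3, 0, 0, -1, 0, 3, 2, 5, 1, -1, -1, 0, -2, -1, -1, -1, 8, 0, 3, -3, 1, -1, 3, 1, -2, -3, -4, -4, 2, -4, 5, 5, 5, -2, 1, 7, 4, 8, 5, 4, 4],
    [0, 0, -1, 0, 1, 0, 1, -1, 1, 0, -1, 0, 2, -2, 0, -2, 0, 0, -1, 0, 3, 2, 2, 0, 1, -2, 0, -3, -1, -2, -2, 7, 0, 2, -2, 0, -1, 3, 3, -1, 0, -2, -2, -1, -2, 2, 1, 3, 1, 0, 4, 3, 3, 2, 3, 2],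
    [1, 0, -1, 1, 1, 1, 0, -2, 0, -1, -1, 0, 2, -1, -1, -2, 0, 1, -2, -1, 1, 2, 4, 2, 0, -2, 0, -1, 0, -1, -2, 6, -1, 3, -2, 3, 1, 3, 1, -2, -3, -2, -3, 0, -4, 4, 3, 4, -1, -1, 5, 3, 8, 4, 3, 2],
    [1, 1, 0, 1, 1, -1, 0, -2, 1, 0, 0, -1, 1, -2, 0, -3, -1, 1, 0, -1, 3, 3, 3, 0, 0, -2, -1, -3, -1, -2, -2, 8, -2, 3, -2, 2, 0, 5, 6, -4, -3, -3, -5, 3, -3, 4, 5, 5, 0, 0, 8, 5, 8, 4, 5, 4],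
    [1, 0, 0, -1, 1, 1, 0, -2, 1, -1, -1, -1, 2, -2, 1, -2, -1, 0, -1, 0, 3, 2, 3, 0, 0, -1, 1, -1, -1, -2, -1, 7, -1, 3, -2, 1, 1, 5, 1, -4, -5, -6, -6, 2, -5, 4, 5, 4, -3, 1, 11, 6, 9, 5, 4, 4],
    [1, 0, 0, 0, 0, 1, 0, -1, 0, 0, -1, -1, 3, -2, -1, -2, 0, 1, -1, -1, 2, 2, 4, 2, 0, -2, -1, -3, 0, -2, -2, 10, 0, 2, -3, 3, -1, 3, 4, -1, 0, -2, -3, 1, -2, 4, 1, 3, 1, 0, 4, 3, 6, 3, 2, 3],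
    [1, 1, 0, -1, 0, 2, 0, -2, 2, 0, 0, -3, 2, -3, -1, -3, 1, 0, -1, -1, 6, 3, 6, 0, -1, -1, -1, -3, -1, -3, -2, 12, 0, 4, -4, 1, -3, 6, 5, -5, -2, -7, -6, 1, -4, 6, 6, 4, 0, -1, 9, 5, 8, 2, 6, 4],
    [1, 2, -1, 0, 0, 0, 0, -2, 2, 0, 0, -1, 3, -4, -2, -4, 0, 1, -1, 0, 5, 4, 7, 0, -1, -2, -1, -4, -1, -3, -2, 13, -1, 5, -4, 1, -2, 7, 6, -6, -4, -7, -9, 1, -7, 8, 9, 6, -3, 1, 13, 7, 11, 7, 7, 5],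
    [1, 1, -1, -1, 1, 1, 1, -2, 2, 0, -1, -2, 3, -4, -1, -4, -1, 0, -1, 0, 7, 4, 6, 0, 0, -2, 0, -4, -2, -3, -3, 14, 0, 5, -4, 0, -2, 8, 5, -7, -3, -8, -8, 1, -7, 6, 7, 7, -2, 1, 12, 7, 11, 7, 7, 6],
    [1, 1, 0, 0, 1, 1, 0, -2, 1, -1, 0, -2, 3, -3, -2, -3, -1, 0, 0, -1, 6, 4, 5, 0, 0, -3, 0, -3, -1, -3, -3, 12, -1, 4, -3, 0, -1, 8, 6, -8, -4, -7, -8, 3, -5, 6, 7, 7, -2, 0, 12, 7, 12, 6, 8, 4],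
    [1, 0, 0, 0, 0, -1, 0, 0, 1, 0, 0, -1, 2, -2, 0, -2, -1, 0, 0, 1, 2, 2, 2, 0, 0, -2, 0, -3, -1, -2, -1, 8, 1, 1, -1, 0, -1, 2, 4, -2, 0, -2, -2, 2, -1, 3, 1, 3, -1, 2, 5, 3, 2, 3, 3, 2],
    [1, 0, -2, 0, 0, 0, -1, 0, 1, -1, -1, 1, 2, 0, 1, -1, 0, 0, 0, 1, 0, -1, 0, 0, 0, 0, 1, -2, 0, -1, 1, 2, 0, 0, -3, 0, 0, 0, 0, 4, -2, 0, -1, -1, -1, 2, 1, -1, -2, 3, 5, 4, 2, 2, 1, 4],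
    [2, 0, 0, -1, 0, 1, 1, -2, 1, -1, 0, -3, 2, -2, -1, -3, -1, 0, -1, 1, 5, 3, 5, 1, -1, -1, 1, -2, -2, -2, -1, 11, 0, 4, -2, 0, 0, 6, 2, -7, -5, -8, -8, 3, -7, 5, 7, 7, -4, 2, 13, 6, 11, 7, 6, 5],
    [1, 0, 1, 0, 0, 2, 0, -2, 1, 0, 0, -2, 1, -2, -1, -2, 1, 0, -1, -2, 4, 2, 5, 1, -1, -1, -1, -1, -1, -1, -2, 8, 0, 3, -3, 2, -2, 4, 3, -4, -1, -4, -3, 2, -2, 4, 4, 4, 1, -2, 3, 3, 6, 1, 3, 2],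
    [1, 1, -1, 0, 0, 1, 1, -2, 1, 1, -1, -2, 1, -2, -2, -2, 0, -1, -1, 1, 6, 3, 5, 0, -1, 0, -1, -2, -1, -1, -2, 9, 0, 5, -3, -1, -2, 4, 0, -4, -2, -6, -5, -1, -6, 3, 6, 5, -1, 1, 6, 2, 7, 5, 4, 4],
    [1, -1, -1, 0, 0, 1, 1, -1, 1, -1, -1, -1, 1, 0, 1, -2, -2, 0, -1, 1, 1, 1, 2, 1, 0, 0, 1, -1, -2, 0, 0, 5, 0, 1, 0, 1, 1, 3, -1, -2, -3, -3, -4, 2, -3, 1, 2, 4, -3, 1, 7, 4, 6, 5, 3, 4],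
    [0, 0, 0, -1, 0, 0, 0, 0, 1, 0, 0, 0, 0, -1, 1, 0, 0, -1, 0, 1, 1, 0, 0, -1, -1, 1, 1, 0, 0, 0, 1, 0, 0, 1, 0, -2, 0, 1, -2, -1, -2, -3, -2, -1, -2, 0, 3, -1, -3, 2, 4, 2, 1, 1, 0, 1],
    [1, 0, -1, 1, 1, 0, 0, -1, 1, 0, -1, -1, 1, -1, 0, -2, 0, 2, 0, -2, 1, 2, 2, 1, 0, -1, -1, -2, -1, -1, -1, 6, -2, 2, -2, 2, 0, 2, 4, -1, -1, -1, -2, 1, -3, 4, 4, 3, 1, 0, 4, 2, 6, 3, 2, 6],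
    [1, 0, -1, 0, 1, 1, 1, -2, 1, 0, -1, -2, 2, -2, -1, -3, -1, 1, -1, 0, 4, 4, 4, 1, 1, -2, -1, -3, -2, -2, -3, 11, 0, 3, -3, 2, -1, 5, 5, -4, -1, -4, -4, 2, -5, 5, 3, 7, 1, 0, 7, 3, 8, 5, 5, 5],
    [0, 0, -2, 0, 1, 1, 1, -1, 1, 0, -1, -1, 2, -1, -1, -2, -1, 1, -2, 1, 3, 2, 3, 1, 0, -1, 0, -2, -1, -1, -2, 8, -1, 3, -2, 1, 0, 4, 1, -2, -2, -3, -4, -2, -6, 3, 3, 4, -1, 0, 7, 3, 7, 6, 4, 5],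
    [0, -1, 0, 0, 0, 1, 0, 0, 0, 1, -1, -1, 1, 0, 0, 0, -1, 1, 0, -1, 0, 1, 1, 1, 1, 0, -1, -1, 0, 0, -1, 3, -1, 0, -1, 2, 0, 1, 2, 0, 0, -1, -1, 1, -1, 1, 0, 1, 1, 0, 1, 1, 3, 2, 0, 4],
    [1, 1, -2, 0, 1, 0, 2, -2, 1, 0, 0, -2, 2, -2, -2, -4, -1, 1, -1, 1, 5, 4, 4, 1, 1, -2, 0, -4, -3, -2, -3, 11, -1, 5, -2, -1, -1, 7, 5, -7, -3, -6, -7, 1, -8, 6, 6, 8, -1, 1, 11, 4, 10, 7, 8, 6],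
    [0, 0, -1, 0, 1, 1, -1, 0, 0, 0, -1, 1, 1, 0, 0, 0, 0, 1, 0, -1, -1, 0, 0, 0, 0, 0, 0, 0, 1, 0, 0, 0, -1, 0, -2, 1, 0, 0, 0, 2, -1, 0, 0, -1, -1, 2, 1, -1, 0, 1, 1, 1, 3, 1, 0, 3],
    [1, 1, -1, 0, 1, 1, 1, -2, 1, 0, -1, -2, 3, -3, -2, -4, 0, 1, -1, -1, 6, 4, 6, 1, 1, -3, -1, -4, -2, -3, -4, 14, -1, 5, -4, 1, -1, 7, 6, -6, -2, -6, -7, 1, -7, 7, 6, 8, 0, 0, 10, 5, 11, 7, 7, 6],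
    [0, 0, 0, 0, 1, 0, -1, 0, 0, 0, 0, 0, 0, 0, 1, 0, 0, 1, 0, -1, -1, 0, -1, 0, 0, 0, 0, 0, 1, 0, 0, -1, -1, 0, -1, 1, 1, 0, 1, 1, -1, 0, 0, 0, -1, 1, 1, -1, 0, 1, 2, 1, 2, 0, 0, 2],
    [1, 1, -1, 0, -1, 1, 1, -1, 1, 0, -1, -2, 2, -2, -2, -2, 0, 0, 0, 0, 4, 2, 5, 1, 0, 0, -1, -2, -2, -2, -1, 9, -1, 3, -2, 0, -2, 5, 3, -5, -2, -5, -6, 1, -4, 4, 5, 4, -1, -1, 6, 3, 7, 5, 4, 4],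
    [1, 0, -2, 0, 0, 1, 1, -1, 1, 1, -1, -2, 3, -2, -2, -3, 0, 0, -1, 1, 5, 3, 5, 1, 1, -2, -1, -4, -2, -2, -3, 12, 1, 3, -4, 0, -3, 4, 4, -2, 1, -4, -3, 0, -4, 5, 2, 5, 1, 1, 5, 3, 5, 5, 5, 5],
    [1, 0, 1, 0, 0, 1, 0, -1, 0, 0, 0, -2, 1, -1, -1, -1, 0, -1, 0, -1, 3, 1, 3, 1, 0, -1, -1, -1, -1, -1, -1, 6, 0, 2, -2, 1, -1, 3, 2, -3, 0, -3, -2, 2, -1, 2, 2, 3, 1, -1, 2, 2, 4, 1, 2, 1],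
    [0, 0, 0, 0, 0, 1, -1, 0, 0, 0, 0, 0, 1, 0, -1, 0, 1, 0, 0, -1, 1, 0, 1, 0, -1, 0, 0, 0, 1, 0, 0, 1, 0, 0, -2, 0, -1, 0, 0, 1, 0, 0, 0, -1, 0, 1, 1, -1, 0, 0, 0, 1, 1, 0, 0, 1],
    [1, 1, -1, -1, 0, 1, 2, -2, 0, 0, -1, -2, 2, -2, -2, -2, -1, 0, -2, 2, 5, 3, 5, 1, 1, -1, 0, -3, -2, -2, -3, 11, 0, 5, -2, 0, 0, 6, 1, -6, -4, -7, -7, 0, -8, 4, 4, 7, -2, 1, 10, 3, 9, 7, 6, 4],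
    [0, 1, -1, 0, 0, 0, 2, -1, 1, 0, 0, -2, 2, -2, -2, -3, -1, 0, -1, 1, 5, 3, 4, 1, 0, -2, 0, -3, -2, -2, -3, 11, 0, 3, -1, 0, -2, 6, 5, -6, 0, -4, -5, 0, -4, 3, 3, 6, 0, -1, 6, 3, 6, 5, 6, 2],
    [0, 0, 1, 0, 0, 1, 0, -1, 0, 0, 0, -1, 1, -1, -1, -1, 0, 0, 0, -1, 2, 2, 3, 0, 0, -1, -1, 0, 0, -1, -1, 4, 0, 1, -1, 1, -1, 3, 2, -4, -1, -3, -3, 2, -1, 2, 2, 3, 0, -2, 3, 2, 4, 1, 2, 0],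
    [0, 0, 0, 1, -1, 0, 0, 0, 0, 0, 0, 0, 0, 1, 0, 0, 0, 0, 0, 0, -1, -1, 0, 1, 0, 0, -1, 0, 0, 0, 0, 0, 0, -1, 0, 2, -1, -1, 1, 2, 2, 3, 2, 0, 3, -1, -3, -1, 2, -2, -4, -1, -2, -2, -1, -1],
    [0, 0, -1, -1, 0, 0, 1, 0, 0, 0, -1, 0, 1, 0, 0, 0, -1, 0, -1, 2, 1, 0, 0, 0, 1, 0, 1, -1, -1, -1, -1, 3, 0, 1, 0, 0, 1, 1, -1, 0, -1, -1, -1, -2, -3, 0, -1, 1, -1, 1, 3, 0, 1, 3, 1, 2],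
    [1, -1, -1, 1, 0, 1, 1, -1, 0, 0, -1, -1, 0, 0, 0, -1, 0, 1, -1, -1, 0, 1, 2, 2, 0, 0, 0, 0, -1, 1, -1, 2, 0, 1, -1, 2, 0, 0, 0, 0, 0, 0, 0, 1, -2, 1, 1, 3, 1, 0, -1, 0, 3, 2, 0, 3],
    [1, 0, -1, 0, 0, 0, 0, 0, 0, -1, 0, 0, 1, 0, 0, -1, -1, 0, 0, 1, 0, 0, 0, 1, 0, -1, 1, -1, -1, -1, 0, 3, 0, 0, 0, 0, 1, 1, 1, 0, -1, 0, -1, 1, 0, 1, 0, 1, -1, 1, 3, 1, 2, 2, 2, 1],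
    [0, -1, 0, 0, 0, 1, 0, 0, 0, -1, 0, 0, 0, 1, 1, 0, 0, 0, -1, 0, -1, -1, -1, 1, 0, 0, 1, 1, 0, 0, 0, -1, 0, -1, 1, 1, 1, 0, -1, 1, 0, 1, 1, 0, 1, -1, -2, -1, 0, -1, 0, 0, 0, -1, 0, -1],
    [1, 1, -1, 0, 0, 0, 1, -1, 1, 1, 0, -2, 1, -2, -2, -2, -1, 0, 0, 1, 4, 3, 4, 0, 0, -1, -1, -3, -2, -1, -2, 9, 0, 3, -1, -1, -2, 4, 3, -5, -1, -4, -4, 1, -4, 4, 4, 5, -1, 1, 5, 2, 5, 5, 5, 4],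
    [0, 1, -1, 0, 0, 1, 1, -1, 0, 1, 0, -1, 0, -1, -2, -1, 1, 0, -1, 0, 3, 1, 3, 1, 0, 0, -1, -1, -1, 0, -2, 4, 0, 3, -2, 0, -2, 2, 1, -2, 1, -2, -1, -2, -3, 2, 2, 2, 2, -1, -1, -1, 2, 1, 2, 1],
    [1, 0, 0, 0, -1, 0, 0, 0, 0, 0, 0, -1, 0, 0, 0, 0, 0, 1, 0, 0, -1, 0, 1, 1, -1, 1, 0, 0, 0, 0, 1, 1, 0, 0, 0, 1, 0, -1, 0, 0, -1, 0, -1, 1, -1, 1, 1, 0, -1, 1, 1, 0, 1, 1, -1, 2],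
    [0, 1, 0, 0, 0, -1, 0, 0, 0, 0, 1, 0, 1, -1, -1, -1, -1, 0, 0, 1, 1, 1, 1, 0, 0, -2, 0, -2, 0, -1, -1, 4, 0, 1, 0, 0, 0, 2, 3, -2, -1, -1, -2, 1, -1, 2, 1, 2, -1, 1, 4, 2, 2, 2, 3, 0],
    [1, 0, -1, -1, 0, 0, 1, 0, 1, 0, -1, -1, 1, -1, 0, -1, -1, 0, 0, 1, 2, 1, 1, 0, 1, 0, 0, -2, -2, -1, 0, 5, 0, 1, -1, -1, 0, 2, 1, -1, -1, -3, -3, 1, -3, 2, 2, 3, -1, 2, 5, 2, 3, 4, 2, 4],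
    [0, 0, 1, 0, 0, 0, 0, 0, 0, 1, 0, -1, 0, -1, 0, 0, 0, 0, 0, -1, 1, 1, 1, 0, 0, -1, -1, -1, 0, 0, -1, 3, 1, 0, -1, 1, -1, 0, 2, 0, 2, 0, 1, 1, 1, 0, -1, 1, 2, 0, -2, 0, -1, -1, 0, 0],
    [0, -1, -1, 0, 0, 0, 0, 1, 0, 0, -1, 1, 0, 1, 1, 1, -1, 0, 0, 1, -2, -1, -2, 0, 0, 1, 1, 1, 0, 1, 1, -3, 0, -2, 1, 0, 1, -2, -3, 3, 0, 2, 2, -1, 1, -2, -2, -2, -1, 1, -2, -1, -2, 1, -2, 1],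
    [1, 0, 0, -1, 0, 0, 0, 0, 0, 0, 0, -1, 0, 0, 0, 0, 0, -1, 0, 1, 1, 0, 0, 0, 1, 0, 0, -1, -1, -1, 0, 2, 1, 1, -1, -1, 0, 0, 0, 0, 0, -2, 0, 1, -1, 1, 0, 1, 0, 2, 2, 0, 0, 0, 1, 1],
    [1, 0, 0, 1, 0, 0, 0, -1, 0, -1, 0, 0, 0, 0, 0, -1, 0, 0, 0, -1, 0, 0, 1, 1, 0, -1, 0, 0, -1, 0, 0, 1, -1, 1, 0, 1, 1, 1, 1, -1, -1, 0, -1, 2, 0, 1, 2, 2, 0, -1, 1, 1, 3, 1, 1, 0],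
    [0, 1, -1, 0, 0, 0, 0, 0, 1, 0, 0, 0, 1, -1, -1, -1, 0, 0, 1, 0, 2, 1, 1, -1, 1, -1, -1, -2, -1, -2, -1, 4, 0, 0, -1, -1, -2, 2, 4, -1, 1, 0, -1, 0, 1, 2, 0, 1, 1, -1, 1, 1, 0, 0, 3, 1],
    [0, 0, -1, 0, 0, 0, 0, 0, 0, 0, -1, 1, 1, 0, 0, 0, 0, 1, 0, 0, -1, 0, 0, 0, 1, 0, 0, -1, 0, 0, 0, 0, 0, 0, -1, 0, 0, -1, 0, 2, 0, 1, 0, -1, -1, 1, -1, 0, 0, 1, 0, 0, 0, 1, -1, 2],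
    [0, 0, 0, -1, 0, 0, 1, 0, 0, 0, 0, -1, 0, 0, 0, 0, -1, 0, 0, 1, 1, 0, 0, 0, 0, 1, 1, 0, -1, 0, 0, 1, -1, 1, 1, -1, 1, 2, -1, -3, -2, -3, -3, 0, -3, 0, 2, 1, -2, 1, 4, 1, 3, 3, 1, 2]]

def imgRowsB : List (List Int) :=
  [[0, 0, 0, 0, 0, 0, 1, -1, 2, 1, 1, 1, 1, 1, 0, 1, 0, 1, 0, -1, -1, 1, 1, 1, 0, 0, -1, -1, 0, -1, 1, 0, -1, 0, 0, 2, -1, 0, 0, -2, 0, 0, -1, 0, 0, -1, 1, 1, 0, 1, 0, 0, 0, -1, 1, 1],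
    [1, 1, 0, 2, 2, -1, 0, -1, 0, 2, -1, 1, 0, 1, -1, 0, 0, 2, 0, -1, -3, 1, 2, 1, 1, -1, 1, -2, -1, 0, 1, -1, 1, -2, 0, 2, 0, -1, 0, -2, -1, 1, -3, -1, 1, -1, 2, 0, 0, 1, 1, 1, -1, -1, 0, 1],
    [2, 0, 0, 1, 0, 0, 2, 1, 1, 1, -1, 1, 0, 0, -1, 1, 1, 2, 0, 0, -2, 2, 1, 0, 1, -1, 0, -2, -1, 0, -1, 0, 0, -1, 0, 1, -1, -1, 0, -2, 0, 1, -2, 0, 1, -2, 1, 1, 1, 0, 1, -1, -1, -1, 0, 1],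
    [1, 1, 0, 1, 0, 0, 0, -1, 1, 1, -2, 1, 0, 1, 1, 1, 0, 2, 1, -2, -1, 1, 2, 1, 1, -1, 1, -1, -1, -1, 2, 0, 1, -1, -2, 1, 0, -1, 0, -2, -1, 1, -3, -1, 1, -2, 0, -1, 0, 0, 0, 0, 0, -1, 0, 1],
    [2, 1, 0, 2, 2, -1, 1, -1, 1, 1, -1, 1, 0, 2, 1, 1, 0, 1, 0, 0, -1, 1, 1, 0, 1, -1, 1, -1, 0, 1, 1, 0, 0, 0, -2, 0, 0, -1, 0, -1, -1, 0, -1, 1, 0, -1, 2, 0, -1, 0, 1, 1, -1, -1, 0, 1],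
    [1, 1, 0, 2, 1, 0, 0, -1, 0, 1, -1, 1, 1, 0, 0, 0, -1, 1, 0, -1, -2, 1, 1, 1, 1, -1, 1, -2, -1, -1, 1, 0, 1, -1, 2, 2, 0, 0, 0, -2, 0, 0, -3, 0, 0, -1, 2, 0, 0, 1, 1, 0, -1, -1, 0, 0],
    [2, 1, 1, 2, 0, 0, 1, -1, 2, 1, -2, 1, 0, 0, -1, 1, 1, 2, 1, -1, -1, 2, 1, 1, 2, 0, 1, -2, -1, 0, 0, 0, -1, -1, 0, 1, 0, 0, -1, -2, -1, 2, -3, 0, 0, -3, 2, 1, 0, 0, 1, 0, -1, 0, -1, 1],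
    [1, 0, 0, 1, 0, 0, 1, -1, 0, 2, -1, 1, 1, 2, 0, 1, 1, 1, 0, -3, -1, 1, 1, 0, 1, 0, 0, -2, 0, 0, 0, 1, 0, 0, 0, 1, -1, 1, -1, -2, 1, 0, -3, 0, 0, -1, 2, 1, 0, 1, 0, 0, -1, -1, -1, 0],
    [1, -1, 0, 1, 1, -1, 1, 0, 1, 0, 0, 0, 1, 1, 1, 0, 1, 2, 1, -1, -2, 1, 1, 1, 1, -1, 1, -1, 0, 0, -1, 1, 0, 0, 0, 1, -2, -1, -1, -1, -1, 2, -2, -1, 1, -1, 2, 2, 0, 1, 1, 0, 0, -2, 0, 0],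
    [1, 0, -1, 1, 0, -1, 0, -2, 1, 1, -1, 0, 2, 1, 0, 0, 1, 1, -1, -2, -1, 1, 1, 0, 2, -1, 1, 0, -1, 0, 0, -1, 0, 0, 1, 2, 1, 0, -1, -1, 0, 1, -2, 1, -1, -1, 1, 1, 0, 1, 0, 1, -1, -1, 0, 0],
    [0, 0, 1, -1, 1, -1, 1, -1, 0, 0, -1, 0, 0, 1, 0, 0, 1, 2, 1, -2, -1, 1, 3, 1, 2, 0, 1, -1, 0, -1, 1, 0, 1, 0, -2, 0, -1, 0, 0, 0, 0, 1, -2, 0, 1, -1, 2, 1, 0, -1, 2, 0, 0, -1, -1, 1],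
    [2, 0, 0, 0, 1, -2, 1, -2, 1, 1, -1, 0, 1, 3, 0, 1, 0, 1, 0, -2, 0, 2, 3, 0, 1, 0, 1, -1, 0, 1, 1, 1, 0, -1, 0, 1, -1, 0, -1, -2, -1, 1, -1, 0, 0, -1, 1, 1, 0, 1, 0, -1, 0, -2, 0, 0],
    [1, 0, 0, 2, 1, -1, 1, 0, 0, 1, -1, 1, 2, 1, 0, 0, 1, 1, 0, -2, -2, 2, 0, 0, 2, -2, 0, -1, -1, 0, 0, 0, 0, -1, 0, 3, -1, -1, -1, -1, -1, 1, -2, 0, 0, -1, 3, 0, -1, 0, 1, 1, -1, -2, 1, 1],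
    [2, 0, 0, 1, 2, -1, 0, -2, 1, 1, -3, 0, 0, 2, 0, 1, 0, 1, 1, -2, -1, 2, 0, 1, 0, 0, 2, -1, -2, 1, 1, 1, 1, -1, 0, 0, -1, 0, -1, -2, -1, 2, -1, 0, 1, -1, 2, 0, -1, 1, 1, 0, -1, -1, 0, -1],
    [1, 0, 1, 0, 1, -1, 0, -2, 0, 1, -3, -1, 1, 2, 0, 0, 1, 1, 0, -3, -1, 2, 2, 0, 0, 0, 1, 0, -2, 0, 1, 0, 1, 0, 0, 1, -2, 1, -1, -2, 0, 2, -2, 1, 0, -1, 1, 1, -1, 0, 1, 0, -1, -1, 1, -1],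
    [2, 0, 0, 1, 1, -2, 0, -2, 0, 1, -2, -1, 1, 3, 1, 1, 0, 2, 1, -3, -1, 2, 2, 1, 1, 0, 1, -1, -1, 0, 1, 1, 0, -1, -1, 1, -2, 0, -2, -3, -1, 2, -2, 0, 1, -2, 1, 1, -1, 1, 0, 0, 0, -2, 0, 0],
    [1, 1, 0, 1, 2, -2, 0, -1, 0, 1, -1, 1, 1, 3, 1, 0, 0, 2, 1, -2, -1, 1, 2, 1, 2, 0, 1, -1, 0, 0, 0, 0, 1, -1, -1, 2, -1, 0, 0, -2, 0, 1, -2, 1, 1, 1, 1, 1, -1, 1, 1, 1, 1, -2, -1, 0],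
    [2, 0, 0, 1, 0, 0, -1, 0, 0, 0, -1, 0, 1, 0, 0, 0, 0, 2, 0, -1, -2, 2, 0, 1, 1, 0, 0, -1, -1, 0, 0, 1, 1, -1, 0, 1, -1, 0, -1, -1, 0, 0, -2, 0, 1, 0, 2, 1, 0, 1, 1, 0, 0, -2, 0, 0],
    [1, 0, 0, 1, 1, 0, 2, -1, 0, 0, 0, 1, 1, 2, 0, 0, 1, 1, 0, -2, -1, 0, 3, 0, 1, 0, 0, -1, 0, 0, 0, 2, 0, -1, -1, 1, -1, 2, 0, -2, 1, 1, -3, 0, 2, -1, 2, 2, 1, 0, 1, -1, -1, -2, 0, 0],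
    [2, 0, -1, 2, 1, -2, 0, 0, -1, 2, -1, 1, 1, 2, 0, 0, 0, 1, -1, -2, -1, 2, 2, 1, 1, -1, 1, -2, -1, 0, 0, 0, 1, -2, 0, 1, -1, 1, 0, -2, 0, 1, -2, 1, 0, 0, 1, 1, 0, 2, 1, 0, 0, -2, 0, 1],
    [1, 0, 0, 0, 1, -1, 0, -1, 0, 1, -1, 0, 0, 2, 1, 1, 0, 0, 0, -2, 0, 1, 0, -1, 1, -1, 1, 0, -1, 1, 0, 1, 0, 0, 0, -1, -1, 0, -1, -1, 0, 0, -1, 0, 0, 0, 1, 0, -1, 1, 0, 0, 0, 0, 0, 0],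
    [1, 0, 0, 1, 0, 0, 1, -1, 0, 2, -1, 1, 0, 1, -1, 0, 0, 1, 0, -2, -1, 0, 1, 1, 0, 0, 1, -2, -1, 0, 0, 2, 0, -1, 0, 0, -1, 0, 0, -2, 1, 1, -2, 0, 1, -1, 1, 1, 0, 1, 0, 0, 0, 0, 0, 1],
    [3, -1, 0, 1, 0, -2, 1, 0, 0, 1, -1, 0, 1, 2, 0, 1, 2, 2, 0, -1, -1, 2, 2, 0, 1, -1, 0, -2, 0, 1, 0, 1, -1, -1, -1, 1, -1, 0, -1, -2, -1, 1, -2, 1, 0, -2, 2, 1, 0, 1, 0, 0, 1, -1, 0, 1],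
    [1, 0, 0, 0, 1, 0, 0, 0, 0, 0, 0, -1, 0, 1, 0, 0, 0, 0, -1, 0, 0, 0, 1, 0, -1, 0, 1, 0, 0, 1, 0, 1, 0, 0, 0, -1, -1, 0, 0, 0, 0, 0, 0, 0, 1, 0, 0, 1, 0, 0, 0, 0, -1, 0, 1, 0],
    [1, 0, 0, 1, 0, -1, 1, 0, 1, 2, -1, 1, 0, 0, 0, 1, 1, 2, 0, -1, -1, 1, 2, 0, 1, -1, 0, 0, -1, 0, 0, -1, 0, -1, -1, 1, 0, -1, -1, -1, 1, 2, -3, 1, 1, -1, 2, 1, 0, -1, 2, 0, 0, -1, -1, 1],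
    [2, 1, -1, 1, -1, -1, 1, -2, 0, 1, -1, 1, 1, 0, -1, 1, 1, 1, 0, -2, -1, 1, 1, 1, 1, -1, 0, -1, -1, 0, 1, 1, 0, -1, -1, 2, 0, 0, -1, -3, -1, 2, -3, 0, 0, -2, 1, 1, 1, 1, 0, 1, 0, -2, 0, 1],
    [1, 0, -1, 2, -1, -1, 1, -1, 1, 2, -1, 0, 1, 1, 0, 0, 1, 2, 0, -2, -1, 0, 2, 0, 1, -1, 0, -1, -1, 0, 0, 0, 0, -1, -1, 1, 0, -1, 0, -2, 0, 2, -4, 0, 0, -2, 1, 1, 1, 1, 0, 1, 1, -2, -1, 1],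
    [1, 0, 0, 0, 0, 0, 1, 0, 1, 1, 0, 0, 0, 1, 0, 1, 1, 1, 0, 0, 0, 1, 1, 0, 1, -1, -1, 0, 0, 0, 1, 0, -1, 0, -1, 1, 1, -1, 0, -1, -1, 1, -1, 0, 1, -1, 1, 0, -1, -1, 0, 0, 1, -1, 1, 1],
    [1, 0, 0, 1, -1, -2, 0, -1, 1, 1, -1, 0, 1, 0, 0, 0, 1, 2, 1, -2, -1, 1, 1, 1, 0, 0, 1, -1, -1, 0, 0, -1, 0, -1, -1, 1, -1, 0, 0, -2, -1, 3, -3, 0, 0, -1, 0, 2, 0, 1, 1, 1, 1, -2, -1, 1],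
    [0, 0, 0, 1, 1, 0, 1, -1, 1, 1, 0, 1, 1, 1, 0, 1, 0, 0, 0, 0, 0, 0, 1, -1, 0, -1, -1, 1, 0, 0, 1, 0, -1, 0, 0, 1, 0, 0, -1, -1, 0, 1, -1, 0, 0, 0, 0, 0, 0, -1, 0, 0, 0, -1, 0, 0],
    [2, 0, 0, 1, 0, -2, 0, -1, 0, 1, -2, 1, 1, 2, 1, 0, 1, 2, 1, -3, -1, 1, 1, 0, 1, -1, 1, -1, -1, 0, 0, -1, 0, -1, -1, 2, -1, -1, -1, -3, 0, 3, -3, 1, 0, -1, 1, 1, -1, 1, 1, 0, 1, -2, -1, 1],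
    [0, 1, 0, 0, 0, 0, 0, -1, 1, 0, -1, 0, 0, 0, 0, 0, 0, 0, 0, 0, 1, 0, 1, 0, 0, 0, 0, 1, 0, 0, 1, 0, 0, 0, -1, 0, 1, 0, 0, 0, 0, 1, 0, 0, 1, 0, 0, 0, 0, -1, 1, 0, 0, -1, -1, 0],
    [0, 0, 1, 0, 1, -1, 1, 0, 0, 1, -1, 1, 0, 2, 0, 1, 1, 2, 0, -2, -1, 2, 1, 1, 1, 0, 0, -1, -1, 0, 0, -1, 0, -2, 0, 1, -1, 0, 0, -2, -1, 1, -2, 2, 0, -1, 0, -1, -1, 0, 0, -1, 0, 0, 0, 0],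
    [2, 0, 0, 2, 0, 0, 1, -1, 0, 1, -1, 1, 1, 1, 0, 1, 0, 2, 1, -3, -2, 1, 0, 1, 1, -1, 0, -2, -1, 0, 0, 1, 0, -1, 0, 2, -1, 0, -1, -3, -1, 2, -4, 0, 0, -2, 2, 1, 0, 1, 0, 0, 1, -2, 0, 0],
    [0, 1, 0, 0, 1, -1, 1, 0, 0, 1, 0, 1, 0, 2, 0, 0, 0, 1, 0, -1, -1, 1, 0, 0, 1, -1, 0, -1, 0, 0, 0, 1, 0, -1, -1, 1, 0, 0, 0, -1, 0, -1, -1, 1, 1, 0, 1, -1, -1, 0, 0, -1, 1, 0, 0, 1],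
    [-1, 0, 0, 1, 1, 0, 1, 0, 0, 1, 0, 1, 0, 1, 1, 0, -1, 0, 0, -1, 0, -1, 0, -1, 0, 0, 0, 0, 0, 0, 0, 0, 0, 0, 0, 0, 0, 0, 0, 0, 1, 0, -1, 0, 0, 1, 1, 0, 0, 0, 0, 0, 0, 0, 0, 0],
    [1, 0, -1, 1, -1, -1, 0, -1, 0, 1, -1, 1, 2, 1, 0, 0, 1, 1, 0, -2, -1, 1, 1, 1, 1, -1, 1, -2, -1, 0, 0, 0, 0, -2, 0, 2, -1, 0, 0, -3, -2, 2, -2, 0, 0, -1, 0, 1, 0, 2, 0, 1, 1, -1, 0, 1],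
    [2, -1, 0, 1, -1, -1, 0, 0, 0, 1, -2, 0, 0, 1, 0, 0, 1, 3, 1, -2, -2, 1, 0, 2, 1, 0, 1, -1, -1, 0, 0, 0, 1, -1, -1, 1, -1, -1, 0, -2, -1, 1, -3, 0, 0, -1, 1, 1, 0, 1, 0, 1, 1, -1, -1, 1],
    [0, 0, 0, 0, 1, 0, 0, -1, 0, 0, 0, 0, 0, 1, 0, 1, 0, -1, 0, 0, 0, 1, 0, 0, 0, -1, 0, 0, 0, 0, 1, 0, 0, 0, 0, 1, 0, 0, 0, -1, -1, 0, 0, 1, -1, 0, 0, -1, -1, 0, 0, 0, 0, 0, 1, 0],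
    [0, 0, 0, 0, 0, 1, 1, 0, 0, 0, 0, 0, -1, 0, -1, 0, 1, 0, 0, 0, -1, 0, 0, 0, 1, 0, 0, 0, 0, 0, 0, 1, 0, 0, -1, 0, 0, 0, 1, 0, 0, -1, -1, 0, 0, -1, 1, 0, 0, -1, 0, 0, 0, 0, 0, 1],
    [1, 0, -1, 1, -1, -1, 0, -1, 0, 1, 0, 0, 1, 0, 0, 0, 0, 1, 0, -1, -1, 0, 1, 0, 0, 0, 0, -1, -1, 0, 0, 0, 0, -1, 0, 1, 0, 0, 0, -2, -1, 1, -1, -1, 0, -1, 0, 1, 1, 1, -1, 0, 1, -1, 0, 1],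
    [2, 0, 0, 1, -1, -1, 1, 0, 0, 1, -1, 0, 1, 0, 0, 1, 1, 1, 0, -1, 0, 1, 0, 0, 1, -1, 0, 0, -1, 0, -1, 0, -1, 0, 1, 0, 0, 0, -1, -1, 0, 1, -1, 1, 0, -1, 1, 1, 0, 1, 0, 0, 0, 0, -1, 0],
    [1, 0, 0, 1, 0, -1, -1, 0, -1, 0, 0, 0, 0, 0, -1, 0, 0, 1, 0, -1, -1, 1, 1, 1, 1, 0, 0, -1, 0, 0, 0, 0, 0, -1, 1, 1, 0, 1, -1, -1, 0, 1, -2, 0, 0, 0, 1, 0, 1, 1, 1, 0, -1, -1, -1, 0],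
    [1, 0, 0, 1, 0, -1, 0, -1, 0, 0, 0, 0, 0, 0, 0, 0, 0, 0, 0, 0, 0, 0, 0, 0, 1, 0, 1, 0, 0, 1, -1, 0, 0, 0, 0, 0, 0, 0, 0, 0, -1, 0, 0, -1, -1, 0, 1, 0, 0, 1, 0, 1, 0, -1, -1, 0],
    [1, 0, 0, 1, 0, 0, -1, 1, 0, 1, -1, 0, 0, 0, 0, 0, 0, 2, 0, -1, -1, 1, 0, 1, 0, 0, 0, -1, -1, 0, 1, -1, 0, -1, 0, 0, 0, -1, -1, -1, 0, 1, -2, 1, 0, -1, 0, 1, 0, 0, 0, 1, 1, 0, 0, 0],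
    [0, 0, 0, 0, -1, 0, 0, -1, 0, 1, -1, 0, 0, 0, 0, 0, 0, 0, 0, -1, 0, 0, -1, 0, 0, 0, 1, 0, -1, 0, 0, 0, 0, 0, 0, -1, 0, 0, 0, -1, 0, 1, -1, 0, 0, -1, -1, 0, 0, 0, -1, 0, 0, 1, 0, 0],
    [0, 0, 0, 1, 0, 0, 0, 1, 0, 1, -1, 0, 0, -1, -1, 0, 0, 0, -1, 0, 0, 1, 0, 0, 0, 0, 0, 0, -1, 0, 0, -1, 0, -1, 1, 0, 0, 0, 0, 0, 0, 0, 0, 1, 0, 0, 1, 0, 0, 0, 1, 0, -1, 0, 0, 0],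
    [0, 0, -1, 0, 0, 0, -1, 0, -1, 0, 0, -1, 1, 0, 0, -1, 0, 0, 0, -1, -1, 0, 0, 0, 0, 0, 0, 0, 0, -1, 1, 0, 1, 0, 0, 1, 0, 0, 0, 0, 0, 0, -1, 0, 0, 0, 0, 1, 0, 0, 0, 1, 0, -1, 0, 0],
    [1, 0, 0, 0, 0, -1, 1, 1, 0, 0, 0, 1, 0, 1, 0, 0, 1, 2, 1, -1, 0, 1, 1, 1, 0, 0, -1, -1, 0, 0, 0, 0, -1, -1, 0, 1, -1, 0, -1, -1, 0, 1, -1, 0, 1, -1, 0, 0, 0, 1, 0, -1, 1, -1, 0, 0],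
    [1, 0, 0, 0, 0, 0, 0, 1, 0, 0, -1, 0, 0, 0, 1, 0, 0, 1, 1, 0, 0, 1, -1, 0, 0, -1, 0, 0, 0, 0, 0, 1, 0, 0, 0, 0, 0, -1, -1, 0, 0, 0, 0, 0, 1, 0, 1, 0, -1, 0, 0, 0, 1, 0, 0, 0],
    [1, 0, 0, 1, 0, 0, 0, 0, 0, 0, 1, 0, 0, 0, 0, 1, 0, 1, 0, 0, 0, 0, 1, 0, 0, 0, -1, 0, 0, 0, 1, 0, -1, 0, 1, 0, 1, 0, -1, 0, 0, 0, -1, 0, 0, -1, 0, 0, 1, 0, -1, 0, 0, 0, 0, 0],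
    [0, 1, -1, 0, 0, 0, 0, 0, 0, 0, 0, 1, 0, 0, -1, 0, -1, 0, 0, 0, 0, 0, 0, 1, 0, 0, 0, -1, 0, 0, 0, 1, 0, -1, 0, 1, 0, 1, 0, -1, 0, 0, 0, -1, 1, 0, 0, 0, 0, 1, 0, -1, 0, 0, 0, 0],
    [0, 0, 0, -1, 0, -1, 0, 0, -1, 0, 0, 0, 0, 1, 0, 0, 1, 0, 0, -1, 0, 1, 1, 0, 1, 0, 0, 0, 0, 0, -1, 0, 0, 0, 0, 0, 0, 1, -1, 0, 1, 0, 0, 1, 0, 0, 0, 0, 0, 0, 0, -1, 0, 0, -1, 0],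
    [0, 0, 1, 0, 1, 0, 0, 0, 0, -1, 0, 0, -1, 0, 0, 0, 0, 1, 1, 0, -1, 0, 0, 1, 0, 1, 0, 0, 0, 0, 0, -1, 0, 0, 0, 0, -1, 0, 0, -1, 0, 1, -1, 0, 0, 0, 0, 0, 0, 0, 1, 0, 0, 0, 0, -1],
    [0, 0, 0, 0, -1, 0, 1, 0, 1, 0, 0, 0, 1, 0, 0, 0, 1, 0, 0, 0, 0, 0, 0, -1, 0, 0, -1, 0, 0, 0, -1, 0, -1, 0, 0, 1, -1, 0, 0, -1, 0, 1, 0, 0, 0, 0, 0, 1, 0, 0, 0, 0, 0, -1, 1, 0],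
    [0, 0, 0, 0, 0, -1, 0, 1, 0, 1, 0, 0, 0, 1, 0, 0, 0, 1, 0, 0, 0, 0, 1, 0, 0, 0, 0, -1, 0, 0, 0, -1, 0, -1, -1, 0, 0, -1, 1, 0, -1, 0, 0, 0, 0, 0, -1, 0, 0, 0, 0, 0, 1, 0, 0, 1]]

def imgCoefB : List (List Int) :=
  [[0, 0, 0, 0, 0, 0, 1, -1, 2, 1, 1, -2, 1, -2, -2, -2, 0, 1, 0, -1, 3, 4, 4, 0, 0, -1, -2, -3, -2, -2, -1, 8, -1, 2, -1, 1, -3, 4, 7, -6, 0, -4, -5, 3, -3, 5, 6, 6, 1, -1, 6, 3, 5, 3, 5, 4],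
    [1, 1, 0, 2, 2, -1, 0, -3, 0, 2, -1, 0, 0, -2, -2, -2, 0, 2, 0, -3, 1, 5, 5, 0, 1, -3, -2, -3, -1, -1, -3, 6, 1, 2, -4, 4, -2, 0, 6, -2, 1, 1, -1, 3, -1, 4, 2, 8, 4, 0, -2, 2, 4, 2, 2, 2],
    [2, 0, 0, 1, 0, 0, 2, -2, 1, 1, -1, -2, 0, -2, -2, -2, 1, 2, 0, -2, 2, 4, 5, 1, 1, -1, -2, -3, -3, -1, -3, 8, 0, 2, -3, 3, -3, 1, 7, -4, 2, -1, -2, 4, -2, 5, 3, 8, 5, -1, -2, -1, 4, 2, 1, 4],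
    [1, 1, 0, 1, 0, 0, 0, -2, 1, 1, -2, 0, 0, -1, 0, 0, 0, 2, 1, -3, 0, 2, 3, -1, 1, -1, -2, -2, -1, -2, -1, 4, 1, -1, -4, 5, -2, -2, 5, 2, 1, 4, 1, 2, 3, 1, -3, 3, 4, -2, -5, 1, 0, -2, -1, 3],
    [2, 1, 0, 2, 2, -1, 1, -4, 1, 1, -1, -1, 0, -2, -1, -3, 0, 1, 0, -2, 3, 5, 5, -1, 1, -3, -2, -3, -2, -1, -3, 7, 0, 4, -4, 2, -2, 2, 5, -4, -1, -2, -2, 4, -3, 5, 4, 9, 2, 0, 2, 3, 7, 2, 4, 4],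
    [1, 1, 0, 2, 1, 0, 0, -3, 0, 1, -1, 0, 1, -2, -2, -2, -1, 1, 0, -2, 2, 5, 5, 0, 1, -3, -2, -3, -1, -2, -3, 8, 1, 2, -2, 3, -2, 2, 5, -4, 0, 0, -3, 4, -1, 3, 2, 8, 2, -1, 1, 2, 5, 3, 4, 1],
    [2, 1, 1, 2, 0, 0, 1, -4, 2, 1, -2, -2, 0, -3, -2, -2, 1, 2, 1, -4, 4, 6, 7, -1, 2, -2, -4, -4, -3, -3, -4, 11, -1, 3, -3, 4, -3, 3, 9, -6, -1, -1, -4, 6, -2, 6, 5, 11, 5, -4, 1, 1, 6, 2, 3, 5],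
    [1, 0, 0, 1, 0, 0, 1, -2, 0, 2, -1, -1, 1, -1, -2, -1, 1, 1, 0, -3, 2, 3, 4, 1, 1, -1, -2, -3, -1, -1, -3, 6, 0, 2, -3, 3, -3, 1, 5, -2, 3, 0, -1, 1, -1, 2, 2, 5, 4, -1, -3, 0, 3, 1, 0, 3],
    [1, -1, 0, 1, 1, -1, 1, -1, 1, 0, 0, -1, 1, -1, 0, -3, 1, 2, 1, -3, 0, 3, 2, 1, 1, -2, 0, -2, -2, -1, -2, 4, 0, 0, -2, 2, -3, 0, 8, -3, 3, 2, 0, 4, 1, 4, 1, 6, 4, -1, -2, 2, 2, 0, 0, 3],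
    [1, 0, -1, 1, 0, -1, 0, -1, 1, 1, -1, 0, 2, -1, -1, -2, 1, 1, -1, -1, 1, 3, 4, 0, 2, -2, -1, -3, -2, -2, -2, 6, 0, 2, -2, 1, -1, 0, 3, -1, 1, 0, -2, 1, -3, 4, 2, 5, 1, 0, 2, 2, 2, 4, 1, 3],
    [0, 0, 1, -1, 1, -1, 1, -1, 0, 0, -1, 0, 0, -1, 1, 0, 1, 2, 1, -3, 0, 1, 1, -1, 2, -1, 0, -1, -1, -2, -1, 1, 1, -1, -3, 3, -1, -1, 5, 0, 2, 2, 1, 1, 1, 1, -2, 3, 4, -2, -3, 1, -2, -3, -3, 1],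
    [2, 0, 0, 0, 1, -2, 1, -2, 1, 1, -1, -1, 1, -1, 0, -2, 0, 1, 0, -1, 2, 4, 4, -2, 1, -1, 0, -3, -2, -1, -1, 5, 0, 2, -2, 0, -1, 1, 2, -4, -2, -3, -3, 2, -5, 4, 4, 7, -1, 2, 5, 3, 4, 4, 1, 5],
    [1, 0, 0, 2, 1, -1, 1, -2, 0, 1, -1, 0, 2, -2, -2, -3, 1, 1, 0, -3, 2, 5, 4, 1, 2, -4, -2, -3, -2, -2, -4, 8, 0, 2, -3, 3, -3, 1, 8, -3, 4, 2, 0, 3, 0, 4, 1, 8, 5, -2, -3, 1, 3, 2, 2, 2],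
    [2, 0, 0, 1, 2, -1, 0, -3, 1, 1, -3, 0, 0, -1, 1, -1, 0, 1, 1, -3, 1, 4, 2, -2, 0, 0, 0, -1, -1, 0, -1, 2, 1, 1, -3, 1, -1, -1, 0, -1, -1, 1, 1, 1, -1, 0, 1, 4, 0, 1, -2, 1, 3, 1, -2, 4],
    [1, 0, 1, 0, 1, -1, 0, -2, 0, 1, -3, 0, 1, -1, 1, 0, 1, 1, 0, -3, 1, 3, 3, -2, 0, 0, 0, 0, 0, -1, -1, 2, 1, 1, -3, 2, -1, -1, -1, -1, 0, 1, 0, -1, -2, -1, 0, 3, 0, -1, -2, 1, 1, 1, -4, 2],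
    [2, 0, 0, 1, 1, -2, 0, -2, 0, 1, -2, 0, 1, 0, 1, -1, 0, 2, 1, -3, -1, 3, 2, -1, 1, -1, 0, -2, -1, -1, -1, 2, 0, 0, -3, 3, -1, -2, 3, 0, 0, 3, 1, 2, 0, 1, -1, 4, 1, 1, -2, 2, 2, 1, -2, 5],
    [1, 1, 0, 1, 2, -2, 0, -2, 0, 1, -1, 1, 1, -1, 0, -2, 0, 2, 1, -3, 0, 3, 2, -1, 2, -3, -1, -3, -1, -2, -3, 4, 1, 0, -4, 4, -2, -1, 7, 0, 3, 4, 2, 2, 2, 3, -3, 5, 4, 0, -4, 2, 1, -1, 0, 2],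
    [2, 0, 0, 1, 0, 0, -1, -1, 0, 0, -1, 0, 1, 0, 0, -1, 0, 2, 0, -2, -2, 2, 2, 1, 1, -1, -1, -2, -1, -1, -1, 4, 1, -1, -3, 4, -1, -2, 4, 2, 1, 3, 1, 4, 2, 3, -2, 3, 2, 1, -2, 1, 2, 0, 0, 3],
    [1, 0, 0, 1, 1, 0, 2, -3, 0, 0, 0, -1, 1, -1, -2, -3, 1, 1, 0, -3, 3, 3, 5, 1, 1, -2, -1, -2, -2, -1, -3, 6, 0, 2, -3, 3, -3, 4, 6, -6, 2, -1, -3, 2, -1, 3, 3, 8, 4, -4, -1, 2, 5, 0, 2, 0],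
    [2, 0, -1, 2, 1, -2, 0, -1, -1, 2, -1, 1, 1, 0, -1, -2, 0, 1, -1, -1, -1, 3, 3, 1, 1, -2, 0, -3, -1, 0, -2, 3, 1, 1, -3, 2, -1, -2, 2, 1, 2, 2, 1, 1, -2, 2, 0, 5, 1, 4, -2, 1, 2, 4, 0, 3],
    [1, 0, 0, 0, 1, -1, 0, -1, 0, 1, -1, 0, 0, 0, 1, 0, 0, 0, 0, -1, 0, 1, 0, -1, 1, -1, 0, -1, -1, 0, -1, 1, 0, 1, -1, 0, 0, -1, 0, 1, 1, 1, 2, 0, 0, 0, -1, 1, 1, 1, -2, 0, 0, 0, -1, 2],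
    [1, 0, 0, 1, 0, 0, 1, -2, 0, 2, -1, -1, 0, -1, -2, -1, 0, 1, 0, -2, 2, 3, 4, 1, 0, 0, -1, -2, -1, 0, -2, 5, 0, 2, -2, 2, -2, 1, 3, -3, 1, -1, -2, 1, -2, 1, 3, 5, 2, 0, -2, 0, 4, 3, 0, 3],
    [3, -1, 0, 1, 0, -2, 1, -1, 0, 1, -1, -1, 1, 0, 0, -2, 2, 2, 0, -2, -1, 2, 3, 1, 1, -1, 0, -3, -2, 0, -1, 3, -1, 1, -3, 2, -1, -2, 4, 0, 1, 0, 0, 3, -3, 5, 3, 5, 2, 3, 0, 1, 3, 3, -2, 6],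
    [1, 0, 0, 0, 1, 0, 0, -1, 0, 0, 0, -1, 0, 0, 0, -1, 0, 0, -1, 0, 1, 1, 2, 0, -1, 0, 1, 0, 0, 1, 0, 1, 0, 2, -1, -1, 0, 1, -2, -2, -2, -3, -2, 0, -3, 1, 3, 2, -2, 1, 3, 2, 4, 2, 1, 1],
    [1, 0, 0, 1, 0, -1, 1, -1, 1, 2, -1, -1, 0, -2, -1, -1, 1, 2, 0, -2, 1, 3, 4, 0, 1, -1, -2, -2, -2, -1, -2, 5, 0, 1, -3, 3, -2, -1, 5, -1, 3, 1, -1, 2, -1, 3, 2, 5, 4, -1, -3, 0, 1, 2, -2, 3],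
    [2, 1, -1, 1, -1, -1, 1, -2, 0, 1, -1, 0, 1, -1, -2, -1, 1, 1, 0, -1, 1, 2, 4, 1, 1, -1, -1, -3, -2, -1, -1, 5, 0, 2, -3, 2, -2, 0, 3, -1, 0, 1, -2, 1, -2, 3, 2, 5, 2, 0, -1, 1, 2, 2, 0, 3],
    [1, 0, -1, 2, -1, -1, 1, -1, 1, 2, -1, -1, 1, -1, -2, -2, 1, 2, 0, -2, 1, 3, 5, 1, 1, -1, -2, -3, -2, -1, -2, 6, 0, 1, -3, 3, -3, -1, 6, -1, 3, 2, -2, 2, -1, 3, 2, 6, 4, -1, -3, 1, 2, 3, -1, 4],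
    [1, 0, 0, 0, 0, 0, 1, -1, 1, 1, 0, -2, 0, -1, -1, -1, 1, 1, 0, -1, 2, 2, 3, 0, 1, -1, -2, -2, -2, -1, -1, 5, -1, 2, -2, 1, -1, 1, 4, -2, 0, -2, -2, 2, -2, 4, 3, 4, 2, -1, 2, 1, 3, 1, 2, 4],
    [1, 0, 0, 1, -1, -2, 0, 0, 1, 1, -1, 0, 1, -1, 0, -1, 1, 2, 1, -2, -1, 2, 2, 0, 0, 0, 0, -2, -1, -1, 0, 2, 0, -1, -2, 2, -2, -2, 5, 0, 1, 3, -1, 2, 0, 2, 1, 3, 1, 1, -1, 2, 0, 2, -3, 4],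
    [0, 0, 0, 1, 1, 0, 1, -2, 1, 1, 0, -1, 1, -2, -2, -2, 0, 0, 0, -1, 4, 4, 4, -1, 0, -2, -2, -1, -1, -1, -2, 6, -1, 3, -1, 0, -2, 4, 3, -6, 0, -3, -4, 1, -3, 3, 5, 6, 1, -3, 3, 2, 5, 3, 3, 1],
    [2, 0, 0, 1, 0, -2, 0, -1, 0, 1, -2, 1, 1, 0, 1, -1, 1, 2, 1, -3, -2, 1, 1, 0, 1, -1, 0, -2, -1, -1, -1, 1, 0, -1, -3, 4, -1, -4, 4, 3, 3, 6, 3, 1, 2, 1, -3, 2, 3, 1, -6, 0, -1, 0, -5, 4],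
    [0, 1, 0, 0, 0, 0, 0, -1, 1, 0, -1, 0, 0, -1, 0, 0, 0, 0, 0, 0, 2, 1, 2, -2, 0, 0, -1, 0, 0, -1, 0, 2, 0, 1, -1, 0, 0, 1, -1, -1, -2, -1, -2, -1, -1, 0, 1, 1, -1, -2, 2, 1, 1, 0, 0, 0],
    [0, 0, 1, 0, 1, -1, 1, -1, 0, 1, -1, 0, 0, -1, 0, 0, 1, 2, 0, -3, 0, 2, 1, 0, 1, -1, -1, -1, -1, -1, -2, 2, 0, -1, -2, 4, -1, -1, 5, 0, 3, 3, 2, 1, 1, 1, -2, 3, 5, -2, -5, -1, -1, -1, -2, 1],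
    [2, 0, 0, 2, 0, 0, 1, -3, 0, 1, -1, -1, 1, -1, -2, -2, 0, 2, 1, -4, 1, 4, 4, 2, 1, -2, -2, -3, -2, -1, -3, 7, 0, 1, -3, 5, -3, 1, 8, -3, 2, 3, -1, 5, 1, 3, 1, 8, 5, -2, -4, 1, 5, 1, 1, 4],
    [0, 1, 0, 0, 1, -1, 1, -1, 0, 1, 0, 0, 0, -1, -1, -1, 0, 1, 0, -1, 1, 2, 1, 0, 1, -2, -1, -2, -1, -1, -2, 4, 0, 1, -2, 2, -1, 1, 5, -1, 2, 0, 0, 1, 0, 2, 0, 3, 3, 0, -1, 0, 2, 0, 2, 1],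
    [-1, 0, 0, 1, 1, 0, 1, -1, 0, 1, 0, 0, 0, -1, -1, -1, -1, 0, 0, -1, 2, 2, 1, 0, 0, -1, -1, 0, 0, 0, -2, 2, 0, 1, 0, 1, -1, 2, 2, -3, 2, 0, -1, 0, 0, -1, 1, 3, 2, -2, -2, 0, 2, 1, 1, -1],
    [1, 0, -1, 1, -1, -1, 0, 0, 0, 1, -1, 1, 2, 0, -1, -1, 1, 1, 0, -1, -1, 1, 2, 1, 1, -1, 0, -3, -1, -1, -1, 3, 0, -1, -2, 2, -2, -2, 4, 2, 2, 4, 1, 0, 1, 2, -2, 2, 2, 1, -3, 1, -1, 2, -1, 3],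
    [2, -1, 0, 1, -1, -1, 0, 0, 0, 1, -2, 0, 0, 1, 1, 0, 1, 3, 1, -3, -4, 0, 0, 2, 1, 1, 0, -1, -1, 0, 0, -1, 1, -3, -3, 5, -1, -6, 4, 5, 3, 6, 4, 3, 3, 1, -4, 1, 4, 2, -8, -1, -2, -1, -6, 5],
    [0, 0, 0, 0, 1, 0, 0, -1, 0, 0, 0, 0, 0, 0, 0, 0, 0, -1, 0, 0, 1, 1, 0, -1, 0, -1, 0, 0, 0, 0, 0, 0, 0, 1, 0, -1, 0, 1, -1, -1, -1, -1, 0, 0, -1, 0, 1, 1, -1, 0, 2, 1, 1, 0, 2, 0],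
    [0, 0, 0, 0, 0, 1, 1, -1, 0, 0, 0, -1, -1, 0, -1, 0, 1, 0, 0, -1, 1, 0, 1, 1, 1, 0, -1, 0, -1, 0, -1, 1, 0, 1, -1, 1, -1, 1, 2, -1, 1, -1, 0, 1, 0, 1, 1, 2, 3, -2, -2, -1, 1, -2, 1, 0],
    [1, 0, -1, 1, -1, -1, 0, 0, 0, 1, 0, 0, 1, 0, -1, -1, 0, 1, 0, 0, -1, 1, 2, 1, 0, 0, 0, -2, -1, 0, 0, 2, 0, 0, -1, 1, -1, -1, 2, 0, 0, 1, -1, 1, -1, 2, 1, 2, 0, 2, 0, 1, 1, 3, 0, 3],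
    [2, 0, 0, 1, -1, -1, 1, -1, 0, 1, -1, -1, 1, -1, -1, -1, 1, 1, 0, -1, 1, 2, 3, 1, 1, -1, -1, -2, -2, -1, -2, 5, -1, 2, -1, 1, -1, 0, 3, -2, 1, 0, -1, 2, -2, 3, 2, 4, 2, 0, -1, -1, 2, 3, -1, 3],
    [1, 0, 0, 1, 0, -1, -1, 0, -1, 0, 0, 1, 0, 1, 0, 0, 0, 1, 0, -1, -3, 0, 0, 1, 1, -1, 0, -1, 0, 0, 0, -1, 0, -1, 0, 2, 1, -2, 1, 2, 0, 3, 1, 2, 1, 1, -1, 1, 1, 1, -1, 0, -1, 0, -1, 0],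
    [1, 0, 0, 1, 0, -1, 0, -1, 0, 0, 0, 0, 0, 0, 0, -1, 0, 0, 0, 0, 0, 1, 1, 0, 1, -1, 0, -1, -1, 0, -1, 1, 0, 1, 0, 0, 0, 0, 1, -1, -1, 0, 0, 2, -1, 2, 1, 3, 0, 1, 1, 1, 1, 1, 1, 1],
    [1, 0, 0, 1, 0, 0, -1, 0, 0, 1, -1, 0, 0, 0, 0, 0, 0, 2, 0, -2, -2, 1, 1, 1, 0, 0, -1, -1, 0, 0, 0, 1, 0, -1, -2, 3, 0, -3, 2, 3, 1, 3, 1, 2, 1, 1, -1, 1, 2, 1, -3, 0, 1, 1, -2, 3],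
    [0, 0, 0, 0, -1, 0, 0, 0, 0, 1, -1, 0, 0, 0, 0, 1, 0, 0, 0, 0, 0, 0, 0, 0, 0, 1, 0, 0, 0, 0, 0, 0, 0, 0, 0, 0, 0, -1, -1, 1, 0, 1, 0, -1, 0, -2, -1, -1, 0, 0, -2, -1, -1, 1, -2, 1],
    [0, 0, 0, 1, 0, 0, 0, 0, 0, 1, -1, 0, 0, -1, -1, 0, 0, 0, -1, 0, 1, 2, 2, 0, 0, 0, -1, 0, 0, 0, -1, 2, 0, 1, 0, 0, 0, 0, -1, -1, 0, -1, -1, 0, -2, 0, 2, 2, 0, 0, 0, -1, 1, 3, 0, 0],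
    [0, 0, -1, 0, 0, 0, -1, 1, -1, 0, 0, 1, 1, 1, 0, 0, 0, 0, 0, 0, -2, -1, -1, 1, 0, 0, 1, 0, 1, 0, 1, -2, 1, -1, -1, 0, 0, -2, -1, 3, 1, 2, 1, -1, 1, -1, -2, -2, -1, 2, -1, 1, -1, 0, -1, 0],
    [1, 0, 0, 0, 0, -1, 1, 0, 0, 0, 0, 0, 0, 0, 0, -1, 1, 2, 1, -2, -1, 0, 0, 1, 0, 0, 0, -1, -1, 0, 0, 0, -1, -1, -1, 2, -1, -1, 4, 0, 2, 2, 1, 1, 1, 2, 0, 1, 3, 0, -3, -1, 0, -1, -2, 2],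
    [1, 0, 0, 0, 0, 0, 0, 0, 0, 0, -1, 0, 0, 0, 1, 0, 0, 1, 1, -1, -1, 0, -1, 0, 0, 0, 0, 0, 0, 0, 0, 0, 0, -1, -1, 1, 0, -2, 1, 2, 1, 2, 2, 1, 2, 0, -2, -1, 1, 1, -3, -1, 0, -1, -2, 2],
    [1, 0, 0, 1, 0, 0, 0, -1, 0, 0, 1, -1, 0, 0, -1, -1, 0, 1, 0, -1, 0, 1, 2, 1, 0, -1, -1, -1, -1, 0, 0, 2, -1, 1, 0, 1, 0, 1, 2, -2, -1, -1, -2, 3, -1, 3, 3, 3, 1, -1, 2, 1, 3, 1, 2, 1],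
    [0, 1, -1, 0, 0, 0, 0, 0, 0, 0, 0, 1, 0, 0, -1, 0, -1, 0, 0, 1, 0, 0, 0, 0, 0, 0, 0, -1, 0, 0, 0, 1, 0, 0, 0, 0, 0, 1, 0, 0, -1, 0, -1, -1, 0, 0, 0, 0, -1, 1, 1, 0, 1, 1, 2, 0],
    [0, 0, 0, -1, 0, -1, 0, 1, -1, 0, 0, 1, 0, 1, 1, 1, 1, 0, 0, 0, -2, -2, -2, 0, 1, 0, 1, 0, 0, 0, 0, -3, 0, -1, 0, 0, 1, -2, -1, 3, 2, 2, 3, -2, 1, -1, -3, -3, 1, 1, -3, -2, -4, -2, -3, -1],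
    [0, 0, 1, 0, 1, 0, 0, -1, 0, -1, 0, 0, -1, 0, 1, 0, 0, 1, 1, -2, -1, 0, -1, 0, 0, 0, 0, 1, 0, 0, 0, -2, 0, -1, 0, 2, 0, 0, 2, -1, 0, 2, 1, 2, 2, 0, -1, 1, 2, -2, -2, 0, 0, -3, -1, -1],
    [0, 0, 0, 0, -1, 0, 1, 0, 1, 0, 0, -1, 1, -1, -1, -1, 1, 0, 0, 0, 2, 1, 2, 0, 0, 0, -1, -1, -1, -1, -1, 4, -1, 1, 0, 0, -2, 2, 3, -3, 1, -1, -2, 0, -1, 2, 2, 2, 1, -2, 1, 0, 1, 1, 1, 1],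
    [0, 0, 0, 0, 0, -1, 0, 1, 0, 1, 0, 0, 0, 0, 0, 0, 0, 1, 0, 0, -1, 0, 0, 0, 0, 0, 0, -1, 0, 0, 0, 0, 0, -1, -1, 1, 0, -2, 2, 2, 1, 1, 1, 0, 0, 1, -1, 0, 1, 2, -1, 0, -1, 1, -1, 2]]

def planeTop : List Nat :=
  [0x0, 0x0, 0x0, 0x0, 0x0, 0x0, 0x0, 0x0, 0x0, 0x0, 0x0, 0x0, 0x0, 0x0, 0x0, 0x0, 0x0, 0x0, 0x0, 0x0, 0x0, 0x0, 0x0, 0x800000, 0x0, 0x0, 0x0, 0x0, 0x0, 0x0, 0x0, 0x80000000, 0x0, 0x0, 0x0, 0x800000000, 0x0, 0x0, 0x4000000000, 0x8000000000, 0x0, 0x0, 0x0, 0x80000000000, 0x0, 0x200000000000, 0x400000000000, 0x800000000000, 0x0, 0x2000000000000, 0x4000000000000, 0x8000000000000, 0x10000000000000, 0x20000000000000, 0x40000000000000, 0x80000000000000]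

def orbitRec : List Nat :=
  [16128, 16129, 16131, 16133, 16176, 16177, 16135, 16179, 16181, 16168, 16130, 16134, 16132, 16169, 16183, 16171, 16173, 16160, 16178, 16182, 16180, 16161, 16175, 16163, 16165, 16152, 16170, 16174, 16172, 16153, 16167, 16155, 16157, 16144, 16162, 16166, 16164, 16145, 16159, 16147, 16149, 16136, 16154, 16158, 16156, 16137, 16151, 16139, 16141, 16146, 16150, 16148, 16143, 16138, 16142, 16140, 6225, 13063, 12649, 13018, 5198, 15728, 15670, 3140, 4594, 12252, 6492, 13422, 1328, 12713, 14846, 7999, 768, 8462, 2944, 1610, 3258, 3245, 300, 3582, 1939, 175, 2058, 718, 378, 11533, 15490, 15499, 3985, 2784, 8355, 15730, 13406, 3242, 11859, 8888, 2846, 2854,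 12018, 11662]

end H91.Ru
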