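/- Meaning of the packed records of lattice vectors. -/
import Mathlib
import Cfsg.Agent.H62.RuLatticeNorm
import Cfsg.Agent.H91.Ru.Defs

set_option autoImplicit false
set_option exponentiation.threshold 1000

noncomputable section

namespace H91.Ru

open Cfsg.Spor

/-- an entry -/
def entry (r j : ℕ) : ℤ := (mag r : ℤ) * ((bitN (posM r) j : ℤ) - (bitN (negM r) j : ℤ))

/-- the coordinates as integers -/
def coord (v : RuVec) (j : Fin 56) : ℤ :=
  if j.val % 2 = 0 then (v (⟨j.val / 8, by omega⟩, ⟨j.val / 2 % 4, by omega⟩)).re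
  else (v (⟨j.val / 8, by omega⟩, ⟨j.val / 2 % 4, by omega⟩)).im

/-- the vector with given coordinates -/
def ofInt (f : Fin 56 → ℤ) : RuVec := fun p =>
  ⟨f ⟨8 * p.1.val + 2 * p.2.val, by omega⟩, f ⟨8 * p.1.val + 2 * p.2.val + 1, by omega⟩⟩

theorem coord_ofInt (f : Fin 56 → ℤ) (j : Fin 56) : coord (ofInt f) j = f j := by
  unfold coord ofInt
  split_ifs with h
  · exact congrArg f (Fin.ext (show 8 * (j.val / 8) + 2 * (j.val / 2 % 4) = j.val by omega))
  · exact congrArg f (Fin.ext (show 8 * (j.val / 8) + 2 * (j.val / 2 % 4) + 1 = j.val by omega))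

theorem ofInt_coord (v : RuVec) : ofInt (coord v) = v := by
  funext ⟨n, t⟩
  have e : ((⟨(8 * n.val + 2 * t.val) / 8, by omega⟩ : Fin 7), (⟨(8 * n.val + 2 * t.val) / 2 % 4, by omega⟩ : Fin 4)) = (n, t) :=
    Prod.ext (Fin.ext (show (8 * n.val + 2 * t.val) / 8 = n.val by omega))
      (Fin.ext (show (8 * n.val + 2 * t.val) / 2 % 4 = t.val by omega))
  have e' : ((⟨(8 * n.val + 2 * t.val + 1) / 8, by omega⟩ : Fin 7), (⟨(8 * n.val + 2 * t.val + 1) / 2 % 4, by omega⟩ : Fin 4)) = (n, t) :=
    Prod.ext (Fin.ext (show (8 * n.val + 2 * t.val + 1) / 8 = n.val by omega))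
      (Fin.ext (show (8 * n.val + 2 * t.val + 1) / 2 % 4 = t.val by omega))
  refine Zsqrtd.ext ?_ ?_
  · show coord v _ = _
    rw [coord, if_pos (show (8 * n.val + 2 * t.val) % 2 = 0 by omega)]
    exact congrArg (fun p => (v p).re) e
  · show coord v _ = _
    rw [coord, if_neg (show ¬ (8 * n.val + 2 * t.val + 1) % 2 = 0 by omega)]
    exact congrArg (fun p => (v p).im) e'

theorem coord_injective : Function.Injective coord := fun u v h => by
  rw [← ofInt_coord u, ← ofInt_coord v, h]

theorem coord_add (u v : RuVec) (j : Fin 56) : coord (u + v) j = coord u j + coord v j := by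
  unfold coord; split_ifs <;> simp

theorem coord_zero (j : Fin 56) : coord 0 j = 0 := by unfold coord; split_ifs <;> simp

theorem coord_neg (u : RuVec) (j : Fin 56) : coord (-u) j = -coord u j := by
  unfold coord; split_ifs <;> simp

/-- the vector of a record -/
def vecOf (r : ℕ) : RuVec := ofInt fun j => entry r j.val

theorem coord_vecOf (r : ℕ) (j : Fin 56) : coord (vecOf r) j = entry r j.val := coord_ofInt _ j

theorem coord_ofList (l : List ℤ) (j : Fin 56) : coord (H62.Ru.ofList l) j = l.getD j.val 0 := by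
  unfold coord H62.Ru.ofList
  split_ifs with h
  · exact congrArg (fun t => l.getD t 0) (show 8 * (j.val / 8) + 2 * (j.val / 2 % 4) = j.val by omega)
  · exact congrArg (fun t => l.getD t 0) (show 8 * (j.val / 8) + 2 * (j.val / 2 % 4) + 1 = j.val by omega)

theorem dot_coord (u v : RuVec) : H62.Ru.dot u v = ∑ j : Fin 56, coord u j * coord v j := by
  conv_lhs => rw [← H62.Ru.ofList_toList u, ← H62.Ru.ofList_toList v]
  rw [H62.Ru.dot_ofList, ← Fin.sum_univ_eq_sum_range]
  exact Finset.sum_congr rfl fun j _ => by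
    rw [← coord_ofList, ← coord_ofList, H62.Ru.ofList_toList, H62.Ru.ofList_toList]

/-! ### bits -/

theorem bitN_le (x j : ℕ) : bitN x j ≤ 1 := Bool.toNat_le _

theorem bitN_and (x y j : ℕ) : bitN (Nat.land x y) j = bitN x j * bitN y j := by
  show ((x &&& y).testBit j).toNat = _
  rw [Nat.testBit_and, bitN, bitN]
  cases x.testBit j <;> cases y.testBit j <;> rfl

theorem bitN_or (x y j : ℕ) : bitN (Nat.lor x y) j = max (bitN x j) (bitN y j) := by
  show ((x ||| y).testBit j).toNat = _
  rw [Nat.testBit_or, bitN, bitN]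
  cases x.testBit j <;> cases y.testBit j <;> rfl

theorem bitN_eq_div (x j : ℕ) : bitN x j = x / 2 ^ j % 2 := by
  rw [bitN, Nat.testBit_eq_decide_div_mod_eq]
  rcases Nat.mod_two_eq_zero_or_one (x / 2 ^ j) with h | h <;> rw [h] <;> rfl

theorem bitN_zero (j : ℕ) : bitN 0 j = 0 := by simp [bitN]

theorem bitN_M56 {j : ℕ} (h : j < 56) : bitN M56 j = 1 := by
  have : ∀ j : Fin 56, bitN M56 j.val = 1 := by decide +kernel
  exact this ⟨j, h⟩

theorem bitN_posM (r : ℕ) {j : ℕ} (h : j < 56) : bitN (posM r) j = bitN r j := by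
  rw [posM, bitN_and, bitN_M56 h, mul_one]

theorem bitN_negM (r : ℕ) {j : ℕ} (h : j < 56) : bitN (negM r) j = bitN r (56 + j) := by
  rw [negM, bitN_and, bitN_M56 h, mul_one]
  simp [bitN, Nat.testBit_shiftRight, add_comm]

theorem popTab_ok : ∀ b : Fin 256, Nat.land (popTab >>> (4 * b.val)) 15 =
    bitN b.val 0 + bitN b.val 1 + bitN b.val 2 + bitN b.val 3 + bitN b.val 4 + bitN b.val 5 + bitN b.val 6 + bitN b.val 7 := by
  decide +kernel

theorem nib_eq (x k : ℕ) : nib x k = ∑ t ∈ Finset.range 8, bitN x (8 * k + t) := by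
  have hb : Nat.land (x >>> (8 * k)) 255 < 256 := Nat.lt_of_le_of_lt Nat.and_le_right (by norm_num)
  have h : ∀ t < 8, bitN (Nat.land (x >>> (8 * k)) 255) t = bitN x (8 * k + t) := fun t ht => by
    have : bitN 255 t = 1 := by
      have : ∀ t : Fin 8, bitN 255 t.val = 1 := by decide +kernel
      exact this ⟨t, ht⟩
    rw [bitN_and, this, mul_one]
    simp [bitN, Nat.testBit_shiftRight]
  have e := popTab_ok ⟨_, hb⟩
  rw [nib, e]
  simp only [Finset.sum_range_succ, Finset.sum_range_zero, zero_add]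
  rw [h 0 (by norm_num), h 1 (by norm_num), h 2 (by norm_num), h 3 (by norm_num), h 4 (by norm_num),
    h 5 (by norm_num), h 6 (by norm_num), h 7 (by norm_num)]

/-- the number of bits below 56 -/
theorem pop_eq (x : ℕ) : pop x = ∑ j : Fin 56, bitN x j.val := by
  rw [Fin.sum_univ_eq_sum_range (fun j => bitN x j) 56]
  simp only [pop, nib_eq, Finset.sum_range_succ, Finset.sum_range_zero, zero_add]
  ring

theorem pop_le (x : ℕ) : pop x ≤ 56 := by
  rw [pop_eq]
  exact (Finset.sum_le_sum fun j _ => bitN_le x j.val).trans (by simp)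

/-! ### valid records -/

structure Val (r : ℕ) : Prop where
  disj : ∀ j, bitN (posM r) j * bitN (negM r) j = 0
  small : mag r ≤ 4
  norm : mag r * mag r * pop (Nat.lor (posM r) (negM r)) = 16
  unit : flag r = 0 → pop (Nat.lor (posM r) (negM r)) = 16

theorem val_of_chk {r : ℕ} (h : valOK r = true) : Val r := by
  simp only [valOK, H93.Coset.force_eq, Bool.and_eq_true, Bool.or_eq_true, Nat.beq_eq] at h
  obtain ⟨h0, h1⟩ := h
  refine ⟨fun j => by rw [← bitN_and, h0, bitN_zero], ?_, ?_, fun hf => ?_⟩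
  · rcases h1 with h1 | h1 <;> simp [mag, h1.1]
  · rcases h1 with h1 | h1 <;> rw [h1.2] <;> simp [mag, h1.1]
  · rcases h1 with h1 | h1
    · exact h1.2
    · omega

theorem Val.sum_sq {r : ℕ} (h : Val r) : ∑ j : Fin 56, entry r j.val * entry r j.val = 16 := by
  have e : ∀ j : Fin 56, entry r j.val * entry r j.val =
      ((mag r * mag r * bitN (Nat.lor (posM r) (negM r)) j.val : ℕ) : ℤ) := fun j => by
    rw [entry, bitN_or]
    have := h.disj j.val
    rcases Nat.le_one_iff_eq_zero_or_eq_one.mp (bitN_le (posM r) j.val) with a | a <;>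
      rcases Nat.le_one_iff_eq_zero_or_eq_one.mp (bitN_le (negM r) j.val) with b | b <;>
        simp [a, b] at this ⊢
  rw [Finset.sum_congr rfl fun j _ => e j, ← Nat.cast_sum, ← Finset.mul_sum, ← pop_eq, h.norm]
  rfl

theorem dotC_spec {r s : ℕ} (hr : Val r) (hs : Val s) :
    (dotC r s : ℤ) = 4096 + ∑ j : Fin 56, entry r j.val * entry s j.val := by
  rw [dotC]
  simp only [H93.Coset.force_eq]
  set m := mag r * mag s with hm
  set A := Nat.lor (Nat.land (posM r) (posM s)) (Nat.land (negM r) (negM s))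
  set B := Nat.lor (Nat.land (posM r) (negM s)) (Nat.land (negM r) (posM s))
  have hb : m * pop B ≤ 4096 := by
    have h1 := pop_le B
    have h2 : m ≤ 16 := Nat.mul_le_mul hr.small hs.small
    exact (Nat.mul_le_mul h2 h1).trans (by norm_num)
  have e : ∀ j : Fin 56, entry r j.val * entry s j.val =
      (m : ℤ) * ((bitN A j.val : ℤ) - (bitN B j.val : ℤ)) := fun j => by
    have h1 := hr.disj j.val
    have h2 := hs.disj j.val
    rw [entry, entry, hm]
    simp only [A, B, bitN_or, bitN_and]
    rcases Nat.le_one_iff_eq_zero_or_eq_one.mp (bitN_le (posM r) j.val) with a | a <;>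
      rcases Nat.le_one_iff_eq_zero_or_eq_one.mp (bitN_le (negM r) j.val) with b | b <;>
      rcases Nat.le_one_iff_eq_zero_or_eq_one.mp (bitN_le (posM s) j.val) with c | c <;>
      rcases Nat.le_one_iff_eq_zero_or_eq_one.mp (bitN_le (negM s) j.val) with d | d <;>
        simp [a, b, c, d] at h1 h2 ⊢ <;> ring
  rw [Finset.sum_congr rfl fun j _ => e j, ← Finset.mul_sum, Finset.sum_sub_distrib, ← Nat.cast_sum,
    ← Nat.cast_sum, ← pop_eq, ← pop_eq, Nat.cast_sub (by omega)]
  push_cast
  ring

theorem dotC_dot {r s : ℕ} (hr : Val r) (hs : Val s) :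
    (dotC r s : ℤ) = 4096 + H62.Ru.dot (vecOf r) (vecOf s) := by
  rw [dotC_spec hr hs, dot_coord]
  simp only [coord_vecOf]

theorem dot_vecOf_self {r : ℕ} (hr : Val r) : H62.Ru.dot (vecOf r) (vecOf r) = 16 := by
  rw [dot_coord]
  simp only [coord_vecOf]
  exact hr.sum_sq

theorem turn_bits (r : ℕ) : ∀ j : Fin 56,
    bitN (posM (turn r)) j.val = (if j.val % 2 = 0 then bitN (negM r) (j.val + 1) else bitN (posM r) (j.val - 1)) ∧
    bitN (negM (turn r)) j.val = (if j.val % 2 = 0 then bitN (posM r) (j.val + 1) else bitN (negM r) (j.val - 1)) := by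
  intro j
  have hj := j.isLt
  have he : ∀ k, k < 56 → evenBits.testBit k = decide (k % 2 = 0) := fun k hk => by
    have : ∀ k : Fin 56, evenBits.testBit k.val = decide (k.val % 2 = 0) := by decide +kernel
    exact this ⟨k, hk⟩
  have hbig : ∀ k, 56 ≤ k → evenBits.testBit k = false := fun k hk =>
    Nat.testBit_lt_two_pow (Nat.lt_of_lt_of_le (by decide +kernel : evenBits < 2 ^ 56) (Nat.pow_le_pow_right (by norm_num) hk))
  have hM : ∀ k, M56.testBit k = decide (k < 56) := fun k => by
    rw [show M56 = 2 ^ 56 - 1 from rfl, Nat.testBit_two_pow_sub_one]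
  constructor <;> by_cases hp : j.val % 2 = 0
  all_goals
    simp only [bitN, posM, negM, turn, flag, if_pos, hp, ↓reduceIte, Nat.testBit_and, Nat.testBit_or,
      Nat.testBit_shiftRight, Nat.testBit_shiftLeft, hM,
      show ∀ a b : ℕ, Nat.land a b = a &&& b from fun _ _ => rfl, show ∀ a b : ℕ, Nat.lor a b = a ||| b from fun _ _ => rfl]
    simp (disch := omega) [he, hbig, hp, hj]
  all_goals
    rcases Nat.eq_zero_or_pos j.val with hz | hz <;>
      simp (disch := omega) only [decide_eq_true, decide_eq_false, Bool.and_true, Bool.true_and,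
        Bool.and_false, Bool.false_and, Bool.or_false, Bool.false_or, hbig, Nat.add_comm 1 j.val]
  all_goals first | omega | simp (disch := omega) [hz, he]

theorem entry_turn (r : ℕ) (j : Fin 56) :
    entry (turn r) j.val = if j.val % 2 = 0 then -entry r (j.val + 1) else entry r (j.val - 1) := by
  obtain ⟨a, b⟩ := turn_bits r j
  have hm : mag (turn r) = mag r := by
    have e : flag (turn r) = flag r := by
      apply Nat.eq_of_testBit_eq
      intro k
      have hbig : ∀ k, 56 ≤ k → evenBits.testBit k = false := fun k hk =>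
        Nat.testBit_lt_two_pow (Nat.lt_of_lt_of_le (by decide +kernel : evenBits < 2 ^ 56) (Nat.pow_le_pow_right (by norm_num) hk))
      simp only [flag, turn, posM, negM, Nat.testBit_shiftRight, Nat.testBit_shiftLeft, Nat.testBit_and, Nat.testBit_or,
        show M56 = 2 ^ 56 - 1 from rfl, Nat.testBit_two_pow_sub_one,
        show ∀ a b : ℕ, Nat.land a b = a &&& b from fun _ _ => rfl, show ∀ a b : ℕ, Nat.lor a b = a ||| b from fun _ _ => rfl]
      simp (disch := omega) [hbig]
      intro _ _ _ hk he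
      obtain rfl : k = 0 := by omega
      exact absurd he (by decide +kernel)
    rw [mag, mag, e]
  rw [entry, a, b, hm]
  split_ifs <;> simp only [entry] <;> ring

theorem vecOf_turn (r : ℕ) : vecOf (turn r) = gI • vecOf r := by
  funext ⟨n, t⟩
  have h0 := entry_turn r ⟨8 * n.val + 2 * t.val, by omega⟩
  have h1 := entry_turn r ⟨8 * n.val + 2 * t.val + 1, by omega⟩
  rw [if_pos (show (8 * n.val + 2 * t.val) % 2 = 0 by omega)] at h0
  rw [if_neg (show ¬ (8 * n.val + 2 * t.val + 1) % 2 = 0 by omega)] at h1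
  refine Zsqrtd.ext ?_ ?_
  · show entry (turn r) _ = (gI * vecOf r (n, t)).re
    rw [h0]; simp [vecOf, ofInt, gI]
  · show entry (turn r) _ = (gI * vecOf r (n, t)).im
    rw [h1]; simp [vecOf, ofInt, gI]

end H91.Ru
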