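/- Checks on two linear maps of the Rudvalis lattice given by columns. -/
import Mathlib
import Cfsg.Agent.H91.Ru.Pop
import Cfsg.Agent.H91.Ru.MapsData

set_option autoImplicit false
set_option exponentiation.threshold 1000

noncomputable section

namespace H91.Ru

open H62.Ru (basisData)
open H93.Coset (allRange)

/-- entry of the image of coordinate `j` (times four) at `k` -/
def colC (g : ℕ) (j k : ℕ) : ℤ := entry (recOf ((colList g).getD j 0)) k

def rowsImg : ℕ → List (List ℤ)
  | 0 => imgRowsA
  | _ => imgRowsB

def coefImg : ℕ → List (List ℤ)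
  | 0 => imgCoefA
  | _ => imgCoefB

/-- the coordinates of a record -/
def cvec (r : ℕ) : List ℤ := (List.range 56).map fun j => entry r j

/-- radix packing -/
def packW (W : ℤ) : List ℤ → ℤ
  | [] => 0
  | x :: l => x + W * packW W l

/-- combination of packed rows -/
def combW (W : ℤ) : List ℤ → List (List ℤ) → ℤ
  | c :: cs, b :: bs => c * packW W b + combW W cs bs
  | _, _ => 0

def small (B : ℕ) (l : List ℤ) : Bool := l.all fun x => Nat.ble x.natAbs B

/-- row `i` of the basis: its image is `rowsImg` and this is the combination `coefImg` -/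
def imgRowOK (g i : ℕ) : Bool :=
  ((rowsImg g).getD i []).length == 56 && small 16 ((rowsImg g).getD i []) &&
  ((coefImg g).getD i []).length == 56 && small 16 ((coefImg g).getD i []) &&
  (((bitSum (sumTab g) (planeLo.getD i 0) + 2 * bitSum (sumTab g) (planeHi.getD i 0) + 4 * bitSum (sumTab g) (planeTop.getD i 0) : ℕ) : ℤ) -
      (((pop (planeLo.getD i 0) + 2 * pop (planeHi.getD i 0) + 4 * pop (planeTop.getD i 0)) * offAll : ℕ) : ℤ) ==
    4 * packW 256 ((rowsImg g).getD i [])) &&
  (packW 65536 ((rowsImg g).getD i []) == combW 65536 ((coefImg g).getD i []) basisData)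

/-- the entries of the basis are their two bit planes -/
def planesOK : Bool :=
  (List.range 56).all fun i =>
    ((basisData.getD i []).length == 56) && small 4 (basisData.getD i []) &&
    (List.range 56).all fun j =>
      (basisData.getD i []).getD j 0 == ((bitN (planeLo.getD i 0) j + 2 * bitN (planeHi.getD i 0) j + 4 * bitN (planeTop.getD i 0) j : ℕ) : ℤ)

/-- the columns are orthogonal of norm sixteen -/
def colsOK (g : ℕ) : Bool :=
  allRange 0 56 fun i => Nat.blt ((colList g).getD i 0) 16240 && allRange 0 56 fun j =>
    Nat.beq (dotC (recOf ((colList g).getD i 0)) (recOf ((colList g).getD j 0))) (4096 + if i = j then 16 else 0)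

/-- rows of the transposed table -/
def transOK (g : ℕ) : Bool :=
  (List.range 56).all fun j => Nat.blt ((colTList g).getD j 0) 16240 &&
    (List.range 56).all fun k => entry (recOf ((colTList g).getD k 0)) j == colC g j k

def commChk (i : ℕ) : Bool :=
  Nat.beq (permT 0 (permT 2 i)) (permT 2 (permT 0 i)) && Nat.beq (permT 1 (permT 2 i)) (permT 2 (permT 1 i))

end H91.Ru
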