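/- Kernel checks for the two maps of the Rudvalis lattice. -/
import Cfsg.Agent.H91.Ru.MapsDef

set_option autoImplicit false
set_option maxRecDepth 100000
set_option exponentiation.threshold 1000

namespace H91.Ru

open H93.Coset (allRange)

theorem imgRows_A : allRange 0 56 (imgRowOK 0) = true := by decide +kernel

theorem imgRows_B : allRange 0 56 (imgRowOK 1) = true := by decide +kernel

theorem planes_ok : planesOK = true := by decide +kernel

theorem cols_A : colsOK 0 = true := by decide +kernel

theorem cols_B : colsOK 1 = true := by decide +kernel

theorem trans_A : transOK 0 = true := by decide +kernel

theorem trans_B : transOK 1 = true := by decide +kernel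

theorem comm_ok : allRange 0 16240 commChk = true := by decide +kernel

end H91.Ru
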