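/- Generated table: the parities of the basis of the Rudvalis lattice as selections of code generators. -/
import Mathlib.Data.List.Basic
import Mathlib.Data.Nat.Notation

set_option autoImplicit false

namespace H91.Ru

def rowCode : List ℕ :=
  [0x1, 0x3, 0x7, 0xe, 0x1d, 0x34, 0x222, 0x250, 0x2e0, 0x6b0, 0xe20, 0x1050, 0x2820, 0x1050, 0x1050, 0x1050, 0x330, 0x651b, 0xda2b, 0x1ae00, 0x0, 0x1ae00, 0x1ae00, 0x0, 0x21200, 0x1ae00, 0x1ae00, 0x0, 0x1ae00, 0x0, 0x1ae00, 0x0, 0x5bc00, 0x1ae00, 0x0, 0x0, 0x1ae00, 0x1ae00, 0x0, 0x0, 0x0, 0x0, 0x0, 0x0, 0x0, 0x0, 0x0, 0x0, 0x0, 0x0, 0x0, 0x0, 0x0, 0x0, 0x0, 0x0]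

end H91.Ru
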