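/- The Rudvalis lattice is the span of the triangular basis; its parity code. -/
import Mathlib
import Cfsg.Agent.H91.Ru.Pop
import Cfsg.Agent.H91.Ru.RowCode
import Cfsg.Agent.H91.Ru.ChkSmall

set_option autoImplicit false

noncomputable section

namespace H91.Ru

open Cfsg.Spor H62.Ru

/-- the five maps closing the lattice -/
def opV : ℕ → RuVec → RuVec
  | 0, v => gI • v
  | 1, v => ruRj v
  | 2, v => ruRk v
  | 3, v => ruSign v
  | _, v => ruShift v

/-- vector number `j` of the orbit list -/
def orbitVec (j : ℕ) : RuVec :=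
  ((orbitWords.getD j (0, [])).2).foldl (fun v o => opV o v) (ruTable.getD (orbitWords.getD j (0, [])).1 0)

/-- a combination of orbit vectors -/
def combVec : List (ℕ × ℤ) → RuVec
  | [] => 0
  | (j, z) :: l => (fun p => ⟨z * (orbitVec j p).re, z * (orbitVec j p).im⟩) + combVec l

theorem opV_mem {v : RuVec} (hv : v ∈ ruLattice) (o : ℕ) : opV o v ∈ ruLattice := by
  rw [ruLattice, AddSubgroup.mem_sInf] at hv ⊢
  intro L hL
  obtain ⟨h0, h1, h2, h3, h4⟩ := hL.2 v (hv L hL)
  match o with
  | 0 => exact h0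
  | 1 => exact h1
  | 2 => exact h2
  | 3 => exact h3
  | _ + 4 => exact h4

theorem table_mem (k : ℕ) : ruTable.getD k 0 ∈ ruLattice := by
  rw [ruLattice, AddSubgroup.mem_sInf]
  intro L hL
  by_cases h : k < ruTable.length
  · rw [List.getD_eq_getElem _ _ h]; exact hL.1 _ (List.getElem_mem h)
  · rw [List.getD_eq_default _ _ (by omega)]; exact zero_mem L

theorem foldl_mem : ∀ (w : List ℕ) {v : RuVec}, v ∈ ruLattice →
    w.foldl (fun v o => opV o v) v ∈ ruLattice
  | [], _, h => h
  | o :: w, _, h => foldl_mem w (opV_mem h o)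

theorem combVec_mem : ∀ l : List (ℕ × ℤ), combVec l ∈ ruLattice
  | [] => zero_mem _
  | (j, z) :: l => by
    refine add_mem ?_ (combVec_mem l)
    have e : (fun p => (⟨z * (orbitVec j p).re, z * (orbitVec j p).im⟩ : GaussianInt)) = z • orbitVec j := by
      funext p; ext <;> simp
    rw [e]
    exact AddSubgroup.zsmul_mem _ (foldl_mem _ (table_mem _)) z

theorem comb_check : ∀ i : Fin 56, toList (combVec (basisCoef.getD i.val [])) = basisData.getD i.val [] := by
  decide +kernel

theorem basis_len56 : basisData.length = 56 := by decide +kernel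

theorem span_le : spanLattice ≤ ruLattice := (AddSubgroup.closure_le _).2 <| by
  rintro _ ⟨b, hb, rfl⟩
  obtain ⟨i, hi, rfl⟩ := List.getElem_of_mem hb
  have h := comb_check ⟨i, by rw [← basis_len56]; exact hi⟩
  have e : combVec (basisCoef.getD i []) = ofList basisData[i] := by
    rw [← ofList_toList (combVec _), h, List.getD_eq_getElem _ _ hi]
  rw [← e]
  exact combVec_mem _

theorem span_eq : spanLattice = ruLattice := le_antisymm span_le ruLattice_le

/-- induction along the basis -/
theorem lattice_induction {P : RuVec → Prop} (h0 : P 0) (hb : ∀ b ∈ basisData, P (ofList b))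
    (hadd : ∀ x y, x ∈ ruLattice → y ∈ ruLattice → P x → P y → P (x + y))
    (hneg : ∀ x, x ∈ ruLattice → P x → P (-x)) {v : RuVec} (hv : v ∈ ruLattice) : P v := by
  induction ruLattice_le hv using AddSubgroup.closure_induction with
  | mem x hx => obtain ⟨b, hb', rfl⟩ := hx; exact hb b hb'
  | zero => exact h0
  | add x y hx hy px py => exact hadd x y (span_le hx) (span_le hy) (px (span_le hx)) (py (span_le hy))
  | neg x hx px => exact hneg x (span_le hx) (px (span_le hx))

theorem mem_of_inSpanL {l : List ℤ} (hl : l.length = 56) (h : reduce basisData 0 l = true) :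
    ofList l ∈ ruLattice :=
  span_le (reduce_sound basisData 0 l (fun b hb => ⟨hb, basis_length b hb⟩) hl h)

theorem four_dvd {v w : RuVec} (hv : v ∈ ruLattice) (hw : w ∈ ruLattice) : (4 : ℤ) ∣ dot v w :=
  four_dvd_dot (ruLattice_le hv) (ruLattice_le hw)

theorem basis_mem {b : List ℤ} (hb : b ∈ basisData) : ofList b ∈ ruLattice :=
  span_le (basis_mem_span hb)

/-- selected rows of a list -/
def selVec : List (List ℤ) → ℕ → RuVec
  | [], _ => 0
  | b :: l, s => (if s % 2 = 1 then ofList b else 0) + selVec l (s / 2)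

theorem selVec_mem : ∀ (l : List (List ℤ)), (∀ b ∈ l, b ∈ basisData) → ∀ s, selVec l s ∈ ruLattice
  | [], _, _ => zero_mem _
  | b :: l, h, s => by
    refine add_mem ?_ (selVec_mem l (fun c hc => h c (List.mem_cons_of_mem _ hc)) _)
    split
    · exact basis_mem (h b (List.mem_cons_self ..))
    · exact zero_mem _

theorem selXor_bit_add : ∀ (L : List ℕ) (a b : ℕ),
    selXor L (Nat.xor a b) = Nat.xor (selXor L a) (selXor L b)
  | [], _, _ => (Nat.xor_self 0).symm
  | g :: L, a, b => by
    show Nat.xor ((a ^^^ b) % 2 * g) (selXor L ((a ^^^ b) / 2)) = _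
    have h2 : (a ^^^ b) / 2 = Nat.xor (a / 2) (b / 2) := by
      show _ = (a / 2) ^^^ (b / 2)
      simp only [← Nat.shiftRight_one, Nat.shiftRight_xor_distrib]
    have h1 : (a ^^^ b) % 2 = (a % 2) ^^^ (b % 2) := by
      have e : ∀ x : ℕ, x % 2 = x &&& 1 := fun x => (Nat.and_one_is_mod x).symm
      rw [e, e, e, Nat.and_xor_distrib_right]
    rw [h2, selXor_bit_add L, h1]
    show ((a % 2) ^^^ (b % 2)) * g ^^^ (selXor L (a / 2) ^^^ selXor L (b / 2)) =
      ((a % 2) * g ^^^ selXor L (a / 2)) ^^^ ((b % 2) * g ^^^ selXor L (b / 2))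
    rcases Nat.mod_two_eq_zero_or_one a with x | x <;> rcases Nat.mod_two_eq_zero_or_one b with y | y <;>
      rw [x, y] <;> simp [Nat.xor_assoc, Nat.xor_comm, Nat.xor_left_comm]

theorem selXor_zero : ∀ L : List ℕ, selXor L 0 = 0
  | [] => rfl
  | g :: L => by simp [selXor, selXor_zero L]

/-- the parities of a vector are those of a mask -/
def IsPar (v : RuVec) (m : ℕ) : Prop := ∀ j : Fin 56, coord v j % 2 = (bitN m j.val : ℤ)

theorem par_basis : ∀ i : Fin 56, ∀ j : Fin 56,
    ((basisData.getD i.val []).getD j.val 0) % 2 = (bitN (selXor codeGen (rowCode.getD i.val 0)) j.val : ℤ) := by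
  decide +kernel

theorem rowCode_small : ∀ i : Fin 56, rowCode.getD i.val 0 < 2 ^ 19 := by decide +kernel

theorem bitN_xor (x y j : ℕ) : bitN (Nat.xor x y) j = (bitN x j + bitN y j) % 2 := by
  show ((x ^^^ y).testBit j).toNat = _
  rw [Nat.testBit_xor, bitN, bitN]
  cases x.testBit j <;> cases y.testBit j <;> rfl

theorem exists_par {v : RuVec} (hv : v ∈ ruLattice) : ∃ n < 2 ^ 19, IsPar v (selXor codeGen n) := by
  refine lattice_induction (P := fun v => ∃ n < 2 ^ 19, IsPar v (selXor codeGen n)) ?_ ?_ ?_ ?_ hv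
  · exact ⟨0, by norm_num, fun j => by rw [selXor_zero, coord_zero, bitN_zero]; rfl⟩
  · intro b hb
    obtain ⟨i, hi, rfl⟩ := List.getElem_of_mem hb
    have hi' : i < 56 := by rw [← basis_len56]; exact hi
    refine ⟨_, rowCode_small ⟨i, hi'⟩, fun j => ?_⟩
    rw [coord_ofList, ← par_basis ⟨i, hi'⟩ j]
    show _ = (basisData.getD i []).getD j.val 0 % 2
    rw [List.getD_eq_getElem basisData _ hi]
  · rintro x y - - ⟨n, hn, hx⟩ ⟨n', hn', hy⟩
    refine ⟨Nat.xor n n', Nat.xor_lt_two_pow hn hn', fun j => ?_⟩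
    rw [coord_add, selXor_bit_add, bitN_xor, Int.add_emod, hx j, hy j]
    norm_cast
  · rintro x - ⟨n, hn, hx⟩
    refine ⟨n, hn, fun j => ?_⟩
    rw [coord_neg, ← hx j]
    omega

end H91.Ru
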