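/- Sums over bit masks of packed records. -/
import Mathlib
import Cfsg.Agent.H91.Ru.Lattice
import Cfsg.Agent.H91.Ru.ChkRec

set_option autoImplicit false
set_option maxRecDepth 100000
set_option exponentiation.threshold 1000

noncomputable section

namespace H91.Ru

open Cfsg.Spor H62.Ru
open H93.Coset (allRange allRange_spec force_eq)

theorem val_rec {i : ℕ} (h : i < 16240) : Val (recOf i) := by
  have e := recChk_ok i h
  simp only [recChk, force_eq, Bool.and_eq_true] at e
  exact val_of_chk e.1.1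

theorem turn_rec {i : ℕ} (h : i < 16240) : permT 2 i < 16240 ∧ recOf (permT 2 i) = turn (recOf i) := by
  have e := recChk_ok i h
  simp only [recChk, force_eq, Bool.and_eq_true, Nat.blt_eq, Nat.beq_eq] at e
  exact e.2

theorem recOf_mono {i : ℕ} (h : i + 1 < 16240) : recOf i < recOf (i + 1) := by
  have e := recChk_ok i (by omega)
  simp only [recChk, force_eq, Bool.and_eq_true, Bool.or_eq_true, Nat.blt_eq, Nat.beq_eq] at e
  exact e.1.2.resolve_left (by omega)

/-! ### packed sums -/

theorem bitN_shift4 (x q : ℕ) {t : ℕ} (ht : t < 4) :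
    Nat.land (x >>> (4 * q)) 15 / 2 ^ t % 2 = bitN x (4 * q + t) := by
  rw [← bitN_eq_div, bitN_and]
  have : bitN 15 t = 1 := by interval_cases t <;> rfl
  rw [this, mul_one]
  simp [bitN, Nat.testBit_shiftRight]

theorem bitSum_spec {tab : List ℕ} {f : ℕ → ℕ}
    (h : ∀ q < 14, ∀ v < 16, Nat.land ((tab.getD q 0) >>> (448 * v)) m448 = tabEntry f q v) (x : ℕ) :
    bitSum tab x = ∑ j : Fin 56, bitN x j.val * f j.val := by
  have e : ∀ q < 14, nibSum tab x q = bitN x (4 * q) * f (4 * q) + bitN x (4 * q + 1) * f (4 * q + 1) +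
      bitN x (4 * q + 2) * f (4 * q + 2) + bitN x (4 * q + 3) * f (4 * q + 3) := fun q hq => by
    rw [nibSum, h q hq (Nat.land (x >>> (4 * q)) 15) (Nat.lt_of_le_of_lt Nat.and_le_right (by norm_num)), tabEntry]
    rw [← bitN_shift4 x q (by norm_num : 1 < 4), ← bitN_shift4 x q (by norm_num : 2 < 4),
      ← bitN_shift4 x q (by norm_num : 3 < 4),
      show bitN x (4 * q) = Nat.land (x >>> (4 * q)) 15 % 2 by
        rw [← Nat.add_zero (4 * q), ← bitN_shift4 x q (by norm_num : 0 < 4)]; simp]
    rfl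
  rw [Fin.sum_univ_eq_sum_range (fun j => bitN x j * f j) 56, bitSum, e 0 (by norm_num), e 1 (by norm_num),
    e 2 (by norm_num), e 3 (by norm_num), e 4 (by norm_num), e 5 (by norm_num), e 6 (by norm_num),
    e 7 (by norm_num), e 8 (by norm_num), e 9 (by norm_num), e 10 (by norm_num), e 11 (by norm_num),
    e 12 (by norm_num), e 13 (by norm_num)]
  simp only [Finset.sum_range_succ, Finset.sum_range_zero]
  ring

theorem expSum (x : ℕ) : bitSum expTab x = ∑ j : Fin 56, bitN x j.val * 256 ^ j.val := by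
  refine bitSum_spec (fun q hq v hv => ?_) x
  exact Nat.eq_of_beq_eq_true (allRange_spec (allRange_spec expTab_ok q (Nat.zero_le _) (by omega)) v (Nat.zero_le _) (by omega))

theorem sumTab_spec (g : ℕ) (hg : sumTabOK g = true) (x : ℕ) :
    bitSum (sumTab g) x = ∑ j : Fin 56, bitN x j.val * colP (recOf ((colList g).getD j.val 0)) := by
  refine bitSum_spec (f := fun j => colP (recOf ((colList g).getD j 0))) (fun q hq v hv => ?_) x
  exact Nat.eq_of_beq_eq_true (allRange_spec (allRange_spec hg q (Nat.zero_le _) (by omega)) v (Nat.zero_le _) (by omega))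

theorem offAll_eq : offAll = ∑ j : Fin 56, 8 * 256 ^ j.val := by decide +kernel

theorem colP_cast {c : ℕ} (h : Val c) :
    (colP c : ℤ) = ∑ k : Fin 56, (8 + entry c k.val) * 256 ^ k.val := by
  have hle : mag c * bitSum expTab (negM c) ≤ offAll + mag c * bitSum expTab (posM c) := by
    refine Nat.le_trans ?_ (Nat.le_add_right _ _)
    rw [expSum, offAll_eq, Finset.mul_sum]
    refine Finset.sum_le_sum fun k _ => ?_
    rw [← mul_assoc]
    refine Nat.mul_le_mul_right _ ?_
    have := bitN_le (negM c) k.val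
    have := h.small
    nlinarith
  rw [colP, Nat.cast_sub hle]
  push_cast [expSum, offAll_eq, Finset.mul_sum]
  rw [← Finset.sum_add_distrib, ← Finset.sum_sub_distrib]
  refine Finset.sum_congr rfl fun k _ => ?_
  rw [entry]
  ring

theorem digits_zero {W : ℤ} (hW : 0 < W) : ∀ (n : ℕ) (d : ℕ → ℤ), (∀ k < n, |d k| < W) →
    ∑ k ∈ Finset.range n, d k * W ^ k = 0 → ∀ k < n, d k = 0
  | 0, _, _, _ => fun k hk => absurd hk (by omega)
  | n + 1, d, hb, h => by
    rw [Finset.sum_range_succ'] at h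
    simp only [pow_succ, ← mul_assoc, ← Finset.sum_mul, pow_zero, mul_one] at h
    have h0 : d 0 = 0 := Int.eq_zero_of_abs_lt_dvd ((dvd_add_right (Dvd.intro_left _ rfl)).1 (h ▸ dvd_zero W)) (hb 0 (by omega))
    rw [h0, add_zero] at h
    have h' : ∑ k ∈ Finset.range n, d (k + 1) * W ^ k = 0 := (mul_eq_zero.1 h).resolve_right hW.ne'
    intro k hk
    match k with
    | 0 => exact h0
    | k + 1 => exact digits_zero hW n (fun k => d (k + 1)) (fun k hk => hb (k + 1) (by omega)) h' k (by omega)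

theorem abs_dot_le {x y : RuVec} (hx : dot x x = 16) (hy : dot y y = 16) : |dot x y| ≤ 16 := by
  rw [dot_coord] at hx hy ⊢
  rw [abs_le]
  constructor
  · have : ∑ j : Fin 56, -(2 * (coord x j * coord y j)) ≤ ∑ j : Fin 56, (coord x j * coord x j + coord y j * coord y j) :=
      Finset.sum_le_sum fun j _ => by nlinarith [mul_self_nonneg (coord x j + coord y j)]
    rw [Finset.sum_add_distrib, hx, hy, Finset.sum_neg_distrib, ← Finset.mul_sum] at this
    linarith
  · have : ∑ j : Fin 56, 2 * (coord x j * coord y j) ≤ ∑ j : Fin 56, (coord x j * coord x j + coord y j * coord y j) :=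
      Finset.sum_le_sum fun j _ => by nlinarith [mul_self_nonneg (coord x j - coord y j)]
    rw [Finset.sum_add_distrib, hx, hy, ← Finset.mul_sum] at this
    linarith

theorem packed_eq {ι κ : Type} [Fintype ι] [Fintype κ] (a b : ι → ℤ) (C : ι → κ → ℤ) (p q W : κ → ℤ) (m m' : ℤ) :
    (m * (∑ j, a j * ∑ k, (8 + C j k) * W k) + 4 * m' * (∑ k, q k * W k) + m * (∑ j, b j) * ∑ k, 8 * W k) -
      (m * (∑ j, b j * ∑ k, (8 + C j k) * W k) + 4 * m' * (∑ k, p k * W k) + m * (∑ j, a j) * ∑ k, 8 * W k) =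
    ∑ k, (∑ j, m * (a j - b j) * C j k - 4 * (m' * (p k - q k))) * W k := by
  have hP : ∀ f : ι → ℤ, ∑ j, f j * ∑ k, (8 + C j k) * W k = ∑ k, ((∑ j, f j) * 8 + ∑ j, f j * C j k) * W k := fun f => by
    simp only [Finset.mul_sum]
    rw [Finset.sum_comm]
    refine Finset.sum_congr rfl fun k _ => ?_
    rw [Finset.sum_mul, ← Finset.sum_add_distrib, Finset.sum_mul]
    exact Finset.sum_congr rfl fun j _ => by ring
  have hC : ∀ k, ∑ j, m * (a j - b j) * C j k = m * ∑ j, a j * C j k - m * ∑ j, b j * C j k := fun k => by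
    simp only [mul_sub, sub_mul, mul_assoc, Finset.sum_sub_distrib, Finset.mul_sum]
  have key : ∀ (A B : ℤ) (Ca Cb : κ → ℤ),
      (m * (∑ k, (A * 8 + Ca k) * W k) + 4 * m' * (∑ k, q k * W k) + m * B * ∑ k, 8 * W k) -
        (m * (∑ k, (B * 8 + Cb k) * W k) + 4 * m' * (∑ k, p k * W k) + m * A * ∑ k, 8 * W k) =
      ∑ k, (m * Ca k - m * Cb k - 4 * (m' * (p k - q k))) * W k := fun A B Ca Cb => by
    simp only [Finset.mul_sum, ← Finset.sum_add_distrib, ← Finset.sum_sub_distrib]
    exact Finset.sum_congr rfl fun k _ => by ring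
  rw [hP, hP, key]
  exact Finset.sum_congr rfl fun k _ => by rw [hC]

end H91.Ru
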