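/- Two isometries of the Rudvalis lattice given by orthogonal frames of minimal vectors. -/
import Mathlib
import Cfsg.Agent.H91.Ru.Packed
import Cfsg.Agent.H91.Ru.MapsChk
import Cfsg.Agent.H91.Ru.ChkSmall

set_option autoImplicit false
set_option maxRecDepth 100000
set_option exponentiation.threshold 1000

noncomputable section

namespace H91.Ru

open Cfsg.Spor H62.Ru
open H93.Coset (allRange allRange_spec)

/-- four times a coordinate of the image -/
def num (g : ℕ) (v : RuVec) (k : ℕ) : ℤ := ∑ j : Fin 56, coord v j * colC g j.val k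

/-- the map with the given columns -/
def TV (g : ℕ) (v : RuVec) : RuVec := ofInt fun k => num g v k.val / 4

theorem num_add (g : ℕ) (x y : RuVec) (k : ℕ) : num g (x + y) k = num g x k + num g y k := by
  simp only [num, coord_add, add_mul, Finset.sum_add_distrib]

theorem num_neg (g : ℕ) (x : RuVec) (k : ℕ) : num g (-x) k = -num g x k := by
  simp only [num, coord_neg, neg_mul, Finset.sum_neg_distrib]

theorem num_zero (g k : ℕ) : num g 0 k = 0 := by simp [num, coord_zero]

theorem ofList_cvec (r : ℕ) : ofList (cvec r) = vecOf r := by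
  refine coord_injective (funext fun j => ?_)
  rw [coord_ofList, coord_vecOf, cvec, List.getD_eq_getElem _ _ (by simp)]
  simp

theorem packW_sum (W : ℤ) : ∀ l : List ℤ, packW W l = ∑ k ∈ Finset.range l.length, l.getD k 0 * W ^ k
  | [] => rfl
  | x :: l => by
    rw [packW, packW_sum W l, List.length_cons, Finset.sum_range_succ', Finset.mul_sum]
    simp only [List.getD_cons_succ, List.getD_cons_zero, pow_zero, mul_one]
    rw [add_comm]
    congr 1
    exact Finset.sum_congr rfl fun k _ => by ring

theorem packW_coord (W : ℤ) {l : List ℤ} (h : l.length = 56) :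
    packW W l = ∑ k : Fin 56, coord (ofList l) k * W ^ k.val := by
  rw [packW_sum, h, ← Fin.sum_univ_eq_sum_range (fun k => l.getD k 0 * W ^ k) 56]
  simp only [coord_ofList]

theorem small_getD {B : ℕ} {l : List ℤ} (h : small B l = true) (j : ℕ) : |l.getD j 0| ≤ B := by
  simp only [small, List.all_eq_true, Nat.ble_eq] at h
  by_cases hj : j < l.length
  · rw [List.getD_eq_getElem _ _ hj]
    have := h _ (List.getElem_mem hj)
    rw [Int.abs_eq_natAbs]; omega
  · rw [List.getD_eq_default _ _ (by omega)]; simp

/-- combination of rows -/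
def combV : List ℤ → List (List ℤ) → RuVec
  | c :: cs, b :: bs => c • ofList b + combV cs bs
  | _, _ => 0

theorem combV_spec (W : ℤ) : ∀ (cs : List ℤ) (bs : List (List ℤ)),
    (∀ b ∈ bs, b ∈ basisData ∧ b.length = 56 ∧ small 4 b = true) → small 16 cs = true →
    combV cs bs ∈ ruLattice ∧ combW W cs bs = ∑ k : Fin 56, coord (combV cs bs) k * W ^ k.val ∧
      ∀ k, |coord (combV cs bs) k| ≤ 64 * bs.length
  | [], bs, _, _ => by simp [combV, combW, coord_zero]
  | c :: cs, [], _, _ => by simp [combV, combW, coord_zero]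
  | c :: cs, b :: bs, hb, hc => by
    simp only [small, List.all_cons, Bool.and_eq_true, Nat.ble_eq] at hc
    obtain ⟨i1, i2, i3⟩ := combV_spec W cs bs (fun x hx => hb x (List.mem_cons_of_mem _ hx)) hc.2
    obtain ⟨hm, hl, hs⟩ := hb b (List.mem_cons_self ..)
    have hco : ∀ k, coord (c • ofList b) k = c * coord (ofList b) k := fun k => by
      unfold coord; split_ifs <;> simp
    refine ⟨add_mem (AddSubgroup.zsmul_mem _ (basis_mem hm) c) i1, ?_, fun k => ?_⟩
    · rw [combW, i2, packW_coord W hl, Finset.mul_sum, ← Finset.sum_add_distrib]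
      exact Finset.sum_congr rfl fun k _ => by rw [combV, coord_add, hco]; ring
    · rw [combV, coord_add, hco, List.length_cons]
      have h1 : |c| ≤ 16 := by rw [Int.abs_eq_natAbs]; omega
      have h2 : |coord (ofList b) k| ≤ 4 := by rw [coord_ofList]; exact small_getD hs k.val
      have h3 := i3 k
      calc |c * coord (ofList b) k + coord (combV cs bs) k|
          ≤ |c * coord (ofList b) k| + |coord (combV cs bs) k| := abs_add_le _ _
        _ ≤ 64 + 64 * bs.length := by
          rw [abs_mul]; exact add_le_add (by nlinarith [abs_nonneg c, abs_nonneg (coord (ofList b) k)]) h3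
        _ = _ := by push_cast; ring

theorem basis_planes {i : ℕ} (hi : i < 56) :
    (basisData.getD i []).length = 56 ∧ small 4 (basisData.getD i []) = true ∧
      ∀ j < 56, (basisData.getD i []).getD j 0 = ((bitN (planeLo.getD i 0) j + 2 * bitN (planeHi.getD i 0) j + 4 * bitN (planeTop.getD i 0) j : ℕ) : ℤ) := by
  have h := planes_ok
  simp only [planesOK, List.all_eq_true, List.mem_range, Bool.and_eq_true, beq_iff_eq] at h
  exact ⟨(h i hi).1.1, (h i hi).1.2, (h i hi).2⟩

/-- what is checked about a map -/
structure MapCert (g : ℕ) : Prop where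
  img : allRange 0 56 (imgRowOK g) = true
  cols : colsOK g = true
  trans : transOK g = true
  sums : sumTabOK g = true

theorem certA : MapCert 0 := ⟨imgRows_A, cols_A, trans_A, sumTabA_ok⟩

theorem certB : MapCert 1 := ⟨imgRows_B, cols_B, trans_B, sumTabB_ok⟩

theorem MapCert.col {g : ℕ} (h : MapCert g) (j : Fin 56) :
    (colList g).getD j.val 0 < 16240 ∧ Val (recOf ((colList g).getD j.val 0)) := by
  have := allRange_spec h.cols j.val (Nat.zero_le _) (by omega)
  simp only [Bool.and_eq_true, Nat.blt_eq] at this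
  exact ⟨this.1, val_rec this.1⟩

theorem MapCert.row {g : ℕ} (h : MapCert g) (k : Fin 56) :
    Val (recOf ((colTList g).getD k.val 0)) ∧
      ∀ j : Fin 56, entry (recOf ((colTList g).getD k.val 0)) j.val = colC g j.val k.val := by
  have ht := h.trans
  simp only [transOK, List.all_eq_true, List.mem_range, Bool.and_eq_true, Nat.blt_eq, beq_iff_eq] at ht
  exact ⟨val_rec (ht k k.isLt).1, fun j => (ht j j.isLt).2 k k.isLt⟩

theorem MapCert.row_sq {g : ℕ} (h : MapCert g) (k : Fin 56) :
    ∑ j : Fin 56, colC g j.val k.val * colC g j.val k.val = 16 := by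
  rw [← (h.row k).1.sum_sq]
  exact Finset.sum_congr rfl fun j _ => by rw [(h.row k).2 j]

theorem MapCert.basis {g : ℕ} (h : MapCert g) {b : List ℤ} (hb : b ∈ basisData) :
    (∀ k : Fin 56, (4 : ℤ) ∣ num g (ofList b) k.val) ∧ TV g (ofList b) ∈ ruLattice := by
  obtain ⟨i, hi', rfl⟩ : ∃ i < 56, basisData.getD i [] = b := by
    obtain ⟨i, hi, rfl⟩ := List.getElem_of_mem hb
    exact ⟨i, by rw [← basis_len56]; exact hi, List.getD_eq_getElem basisData [] hi⟩
  obtain ⟨-, -, hpl⟩ := basis_planes hi'
  have e := allRange_spec h.img i (Nat.zero_le _) (by omega)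
  simp only [imgRowOK, Bool.and_eq_true, beq_iff_eq] at e
  obtain ⟨⟨⟨⟨⟨x56, xs⟩, -⟩, cs⟩, eA⟩, eB⟩ := e
  set x := (rowsImg g).getD i []
  set c := (coefImg g).getD i []
  set lo := planeLo.getD i 0
  set hi2 := planeHi.getD i 0
  set top := planeTop.getD i 0
  have hbij : ∀ j : Fin 56, coord (ofList (basisData.getD i [])) j = ((bitN lo j.val : ℤ) + 2 * (bitN hi2 j.val : ℤ) + 4 * (bitN top j.val : ℤ)) := fun j => by
    rw [coord_ofList, hpl j j.isLt]; push_cast; rfl
  have hnum : ∀ k : Fin 56, num g (ofList (basisData.getD i [])) k.val = 4 * x.getD k.val 0 := by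
    let d : ℕ → ℤ := fun k => num g (ofList (basisData.getD i [])) k - 4 * x.getD k 0
    have hd : ∑ k ∈ Finset.range 56, d k * 256 ^ k = 0 := by
      rw [sumTab_spec g h.sums, sumTab_spec g h.sums, sumTab_spec g h.sums] at eA
      push_cast [pop_eq, colP_cast (h.col _).2] at eA
      rw [show (offAll : ℤ) = ∑ k : Fin 56, 8 * 256 ^ k.val by rw [offAll_eq]; push_cast; rfl, packW_sum, x56] at eA
      rw [← sub_eq_zero] at eA
      refine Eq.trans ?_ eA
      have hA : ∀ f : Fin 56 → ℤ, ∑ j : Fin 56, f j * ∑ k : Fin 56, (8 + entry (recOf ((colList g).getD j.val 0)) k.val) * (256 : ℤ) ^ k.val =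
          (∑ j, f j) * (∑ k : Fin 56, 8 * (256 : ℤ) ^ k.val) + ∑ k : Fin 56, (∑ j : Fin 56, f j * colC g j.val k.val) * 256 ^ k.val := fun f => by
        simp only [Finset.sum_mul, colC]
        rw [Finset.sum_comm (γ := Fin 56) (α := Fin 56) (f := fun k j => f j * entry (recOf ((colList g).getD j.val 0)) k.val * (256 : ℤ) ^ k.val),
          ← Finset.sum_add_distrib]
        refine Finset.sum_congr rfl fun j _ => ?_
        simp only [Finset.mul_sum, ← Finset.sum_add_distrib]
        exact Finset.sum_congr rfl fun k _ => by ring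
      rw [hA, hA, hA, ← Fin.sum_univ_eq_sum_range (fun k => d k * 256 ^ k) 56,
        ← Fin.sum_univ_eq_sum_range (fun k => x.getD k 0 * (256 : ℤ) ^ k) 56]
      have hn : ∀ k : Fin 56, d k.val * (256 : ℤ) ^ k.val =
          (∑ j : Fin 56, (bitN lo j.val : ℤ) * colC g j.val k.val) * 256 ^ k.val +
          2 * ((∑ j : Fin 56, (bitN hi2 j.val : ℤ) * colC g j.val k.val) * 256 ^ k.val) +
          4 * ((∑ j : Fin 56, (bitN top j.val : ℤ) * colC g j.val k.val) * 256 ^ k.val) -
          4 * (x.getD k.val 0 * 256 ^ k.val) := fun k => by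
        simp only [d, num, hbij, add_mul, mul_assoc, Finset.sum_add_distrib, ← Finset.mul_sum]
        ring
      rw [Finset.sum_congr rfl fun k _ => hn k, Finset.sum_sub_distrib, Finset.sum_add_distrib, Finset.sum_add_distrib, ← Finset.mul_sum, ← Finset.mul_sum, ← Finset.mul_sum]
      ring
    have hbd : ∀ k < 56, |d k| < 256 := fun k hk => by
      have hx := small_getD xs k
      have hn : |num g (ofList (basisData.getD i [])) k| ≤ 112 := by
        have h1 : |num g (ofList (basisData.getD i [])) k| ≤ ∑ j : Fin 56, 7 * (colC g j.val k * colC g j.val k) := by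
          refine (Finset.abs_sum_le_sum_abs _ _).trans (Finset.sum_le_sum fun j _ => ?_)
          rw [abs_mul]
          have hb3 : |coord (ofList (basisData.getD i [])) j| ≤ 7 := by
            rw [hbij]
            have := bitN_le lo j.val; have := bitN_le hi2 j.val; have := bitN_le top j.val
            rw [abs_le]; constructor <;> omega
          have hc : |colC g j.val k| ≤ colC g j.val k * colC g j.val k := by
            rw [← abs_mul_abs_self (colC g j.val k)]
            rcases eq_or_ne (colC g j.val k) 0 with e | e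
            · rw [e]; simp
            · have := Int.one_le_abs e; nlinarith
          exact mul_le_mul hb3 hc (abs_nonneg _) (by norm_num)
        rw [← Finset.mul_sum, h.row_sq ⟨k, hk⟩] at h1
        simpa using h1
      have h2 : |d k| ≤ |num g (ofList (basisData.getD i [])) k| + |4 * x.getD k 0| := abs_sub _ _
      rw [abs_mul, show |(4 : ℤ)| = 4 from rfl] at h2
      have hx' : |x.getD k 0| ≤ 16 := hx
      linarith
    intro k
    have := digits_zero (by norm_num) 56 d hbd hd k.val k.isLt
    simp only [d] at this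
    omega
  refine ⟨fun k => ⟨_, hnum k⟩, ?_⟩
  have hbs : ∀ b ∈ basisData, b ∈ basisData ∧ b.length = 56 ∧ small 4 b = true := fun b hb => by
    obtain ⟨t, ht, rfl⟩ := List.getElem_of_mem hb
    obtain ⟨a1, a2, -⟩ := basis_planes (show t < 56 by rw [← basis_len56]; exact ht)
    rw [List.getD_eq_getElem basisData [] ht] at a1 a2
    exact ⟨hb, a1, a2⟩
  obtain ⟨c1, c2, c3⟩ := combV_spec 65536 c basisData hbs cs
  rw [c2, packW_coord 65536 x56, ← sub_eq_zero, ← Finset.sum_sub_distrib] at eB
  let e : ℕ → ℤ := fun k => if hk : k < 56 then coord (ofList x) ⟨k, hk⟩ - coord (combV c basisData) ⟨k, hk⟩ else 0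
  have he : ∀ k : Fin 56, e k.val = coord (ofList x) k - coord (combV c basisData) k := fun k => dif_pos k.isLt
  have hz := digits_zero (W := 65536) (by norm_num) 56 e (fun k hk => by
    rw [show e k = coord (ofList x) ⟨k, hk⟩ - coord (combV c basisData) ⟨k, hk⟩ from dif_pos hk]
    have h1 := c3 ⟨k, hk⟩
    have h2 := small_getD xs k
    rw [basis_len56] at h1
    rw [coord_ofList]
    have := abs_sub (x.getD k 0) (coord (combV c basisData) ⟨k, hk⟩)
    norm_num at h1 h2 this ⊢
    linarith) (by
    rw [← Fin.sum_univ_eq_sum_range (fun k => e k * 65536 ^ k) 56, ← eB]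
    exact Finset.sum_congr rfl fun k _ => by rw [he]; ring)
  have : TV g (ofList (basisData.getD i [])) = combV c basisData := coord_injective (funext fun k => by
    have := hz k.val k.isLt
    rw [he, coord_ofList] at this
    rw [TV, coord_ofInt, hnum]
    omega)
  rw [this]; exact c1

theorem MapCert.dvd {g : ℕ} (h : MapCert g) {v : RuVec} (hv : v ∈ ruLattice) : ∀ k : Fin 56, (4 : ℤ) ∣ num g v k.val := by
  refine lattice_induction (P := fun v => ∀ k : Fin 56, (4 : ℤ) ∣ num g v k.val) ?_ (fun b hb => (h.basis hb).1) ?_ ?_ hv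
  · intro k; rw [num_zero]; exact dvd_zero _
  · intro x y _ _ px py k; rw [num_add]; exact dvd_add (px k) (py k)
  · intro x _ px k; rw [num_neg]; exact (px k).neg_right

theorem TV_zero (g : ℕ) : TV g 0 = 0 :=
  coord_injective (funext fun k => by rw [TV, coord_ofInt, num_zero, coord_zero]; rfl)

theorem TV_add {g : ℕ} (h : MapCert g) {x y : RuVec} (hx : x ∈ ruLattice) : TV g (x + y) = TV g x + TV g y :=
  coord_injective (funext fun k => by
    rw [coord_add, TV, coord_ofInt, TV, coord_ofInt, TV, coord_ofInt, num_add, Int.add_ediv_of_dvd_left (h.dvd hx k)])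

theorem TV_neg {g : ℕ} (h : MapCert g) {x : RuVec} (hx : x ∈ ruLattice) : TV g (-x) = -TV g x :=
  coord_injective (funext fun k => by
    rw [coord_neg, TV, coord_ofInt, TV, coord_ofInt, num_neg, Int.neg_ediv_of_dvd (h.dvd hx k)])

theorem TV_mem {g : ℕ} (h : MapCert g) {v : RuVec} (hv : v ∈ ruLattice) : TV g v ∈ ruLattice := by
  refine lattice_induction (P := fun v => TV g v ∈ ruLattice) ?_ (fun b hb => (h.basis hb).2) ?_ ?_ hv
  · rw [TV_zero]; exact zero_mem _
  · intro x y hx _ px py; rw [TV_add h hx]; exact add_mem px py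
  · intro x hx px; rw [TV_neg h hx]; exact neg_mem px

theorem TV_dot {g : ℕ} (h : MapCert g) {v w : RuVec} (hv : v ∈ ruLattice) (hw : w ∈ ruLattice) :
    dot (TV g v) (TV g w) = dot v w := by
  have e : ∀ u ∈ ruLattice, ∀ k : Fin 56, 4 * coord (TV g u) k = num g u k.val := fun u hu k => by
    rw [TV, coord_ofInt, Int.mul_ediv_cancel' (h.dvd hu k)]
  have orth : ∀ i j : Fin 56, ∑ k : Fin 56, colC g i.val k.val * colC g j.val k.val = if i = j then 16 else 0 := fun i j => by
    have := allRange_spec h.cols i.val (Nat.zero_le _) (by omega)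
    simp only [Bool.and_eq_true] at this
    have e2 := Nat.eq_of_beq_eq_true (allRange_spec this.2 j.val (Nat.zero_le _) (by omega))
    have e3 := dotC_spec (h.col i).2 (h.col j).2
    rw [e2] at e3
    simp only [colC]
    push_cast at e3
    by_cases hij : i = j
    · subst hij; simp only [↓reduceIte] at e3 ⊢; linarith
    · rw [if_neg hij]; rw [if_neg (fun hh => hij (Fin.ext hh))] at e3; linarith
  have key : 16 * dot (TV g v) (TV g w) = 16 * dot v w := by
    rw [dot_coord, dot_coord, Finset.mul_sum, Finset.mul_sum,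
      Finset.sum_congr rfl fun k _ => show 16 * (coord (TV g v) k * coord (TV g w) k) = num g v k.val * num g w k.val by
        rw [← e v hv, ← e w hw]; ring]
    simp only [num, Finset.sum_mul, Finset.mul_sum]
    rw [Finset.sum_comm]
    refine Finset.sum_congr rfl fun i _ => ?_
    rw [Finset.sum_comm]
    rw [Finset.sum_congr rfl fun j _ => show ∑ k : Fin 56, coord v j * colC g j.val k.val * (coord w i * colC g i.val k.val) =
        coord v j * coord w i * if j = i then 16 else 0 by
      rw [← orth j i, Finset.mul_sum]; exact Finset.sum_congr rfl fun k _ => by ring]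
    simp only [mul_ite, mul_zero, Finset.sum_ite_eq', Finset.mem_univ, if_true]
    ring
  omega

end H91.Ru
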