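/- The two maps permute the recorded vectors as tabulated; soundness of orbit certificates. -/
import Mathlib
import Cfsg.Agent.H91.Ru.Maps
import Cfsg.Agent.H91.Ru.ChkImgA
import Cfsg.Agent.H91.Ru.ChkImgB

set_option autoImplicit false
set_option maxRecDepth 100000
set_option exponentiation.threshold 1000

noncomputable section

namespace H91.Ru

open Cfsg.Spor H62.Ru
open H93.Coset (allRange allRange_spec pathEnd walk_eq force_eq)

theorem image_rec (g : ℕ) (hM : MapCert g)
    (hi : ∀ i < 16240, imgChk g i = true) {i : ℕ} (h : i < 16240) :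
    permT g i < 16240 ∧ TV g (vecOf (recOf i)) = vecOf (recOf (permT g i)) := by
  have e := hi i h
  simp only [imgChk, force_eq, Bool.and_eq_true, Nat.blt_eq, Nat.beq_eq] at e
  obtain ⟨hj, e⟩ := e
  refine ⟨hj, ?_⟩
  set r := recOf i
  set s := recOf (permT g i)
  have hr : Val r := val_rec h
  have hs' : Val s := val_rec hj
  clear_value r s
  have hcol : ∀ j : Fin 56, Val (recOf ((colList g).getD j.val 0)) := fun j => (hM.col j).2
  have e' : ((mag r * bitSum (sumTab g) (posM r) + 4 * mag s * bitSum expTab (negM s) + mag r * pop (negM r) * offAll : ℕ) : ℤ) =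
      ((mag r * bitSum (sumTab g) (negM r) + 4 * mag s * bitSum expTab (posM s) + mag r * pop (posM r) * offAll : ℕ) : ℤ) :=
    congrArg _ e
  push_cast [sumTab_spec g hM.sums, expSum, pop_eq, colP_cast (hcol _)] at e'
  rw [show (offAll : ℤ) = ∑ k : Fin 56, 8 * 256 ^ k.val by rw [offAll_eq]; push_cast; rfl] at e'
  let d : ℕ → ℤ := fun k => (∑ j : Fin 56, entry r j.val * entry (recOf ((colList g).getD j.val 0)) k) - 4 * entry s k
  have hd : ∑ k ∈ Finset.range 56, d k * 256 ^ k = 0 := by
    rw [← Fin.sum_univ_eq_sum_range (fun k => d k * 256 ^ k) 56]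
    rw [← sub_eq_zero] at e'
    have hp := packed_eq (fun j : Fin 56 => (bitN (posM r) j.val : ℤ)) (fun j : Fin 56 => (bitN (negM r) j.val : ℤ))
      (fun (j : Fin 56) (k : Fin 56) => entry (recOf ((colList g).getD j.val 0)) k.val)
      (fun k : Fin 56 => (bitN (posM s) k.val : ℤ))
      (fun k : Fin 56 => (bitN (negM s) k.val : ℤ)) (fun k : Fin 56 => (256 : ℤ) ^ k.val) (mag r : ℤ) (mag s : ℤ)
    beta_reduce at hp
    rw [hp] at e'
    refine Eq.trans ?_ e'
    refine Finset.sum_congr rfl fun k _ => ?_
    simp only [d, entry]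
  have hdot : ∀ k : Fin 56, dot (vecOf (recOf ((colTList g).getD k.val 0))) (vecOf r) =
      ∑ j : Fin 56, entry r j.val * entry (recOf ((colList g).getD j.val 0)) k.val := fun k => by
    rw [dot_coord]
    refine Finset.sum_congr rfl fun j _ => ?_
    rw [coord_vecOf, coord_vecOf, (hM.row k).2 j, colC, mul_comm]
  have hb : ∀ k < 56, |d k| < 256 := fun k hk => by
    have h1 := abs_le.1 (abs_dot_le (dot_vecOf_self (hM.row ⟨k, hk⟩).1) (dot_vecOf_self hr))
    rw [hdot ⟨k, hk⟩] at h1
    dsimp only at h1
    have h2 : entry s k ≤ 4 ∧ -4 ≤ entry s k := by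
      have := hs'.small
      have := bitN_le (posM s) k
      have := bitN_le (negM s) k
      constructor <;> rw [entry] <;> nlinarith
    rw [abs_lt]
    simp only [d]
    omega
  refine coord_injective (funext fun k => ?_)
  rw [TV, coord_ofInt, coord_vecOf, show num g (vecOf r) k.val = ∑ j : Fin 56, entry r j.val * entry (recOf ((colList g).getD j.val 0)) k.val from
    Finset.sum_congr rfl fun j _ => by rw [coord_vecOf, colC]]
  have := digits_zero (by norm_num) 56 d hb hd k.val k.isLt
  simp only [d] at this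
  omega

/-! ### records are determined by their vectors -/

theorem rec_flag {i : ℕ} (h : i < 16240) : flag (recOf i) ≤ 1 := by
  have e := recChk_ok i h
  simp only [recChk, valOK, force_eq, Bool.and_eq_true, Bool.or_eq_true, Nat.beq_eq] at e
  omega

theorem rec_ext {i j : ℕ} (hi : i < 16240) (hj : j < 16240) (h : vecOf (recOf i) = vecOf (recOf j)) :
    recOf i = recOf j := by
  have hv := val_rec hi
  have hw := val_rec hj
  have he : ∀ k : Fin 56, entry (recOf i) k.val = entry (recOf j) k.val := fun k => by
    rw [← coord_vecOf, ← coord_vecOf, h]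
  have hm : ∀ r, flag r ≤ 1 → mag r = 1 ∨ mag r = 4 := fun r hr => by rw [mag]; omega
  have hfi := rec_flag hi
  have hfj := rec_flag hj
  have hmag : mag (recOf i) = mag (recOf j) := by
    obtain ⟨k, hk⟩ : ∃ k : Fin 56, entry (recOf i) k.val ≠ 0 := by
      by_contra hc
      simp only [not_exists, not_not] at hc
      have := hv.sum_sq
      simp only [hc, mul_zero, Finset.sum_const_zero] at this
      norm_num at this
    have e := he k
    have := hv.disj k.val
    have := hw.disj k.val
    rcases hm _ hfi with a | a <;> rcases hm _ hfj with b | b <;>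
      rcases Nat.le_one_iff_eq_zero_or_eq_one.mp (bitN_le (posM (recOf i)) k.val) with c | c <;>
      rcases Nat.le_one_iff_eq_zero_or_eq_one.mp (bitN_le (negM (recOf i)) k.val) with d | d <;>
      rcases Nat.le_one_iff_eq_zero_or_eq_one.mp (bitN_le (posM (recOf j)) k.val) with u | u <;>
      rcases Nat.le_one_iff_eq_zero_or_eq_one.mp (bitN_le (negM (recOf j)) k.val) with w | w <;>
        simp [entry, a, b, c, d, u, w] at hk e ⊢
  have hb : ∀ k : Fin 56, bitN (posM (recOf i)) k.val = bitN (posM (recOf j)) k.val ∧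
      bitN (negM (recOf i)) k.val = bitN (negM (recOf j)) k.val := fun k => by
    have e := he k
    rw [entry, entry, hmag] at e
    have h4 : (mag (recOf j) : ℤ) ≠ 0 := by rcases hm _ hfj with b | b <;> rw [b] <;> norm_num
    have e' := mul_left_cancel₀ h4 e
    have := hv.disj k.val
    have := hw.disj k.val
    rcases Nat.le_one_iff_eq_zero_or_eq_one.mp (bitN_le (posM (recOf i)) k.val) with c | c <;>
      rcases Nat.le_one_iff_eq_zero_or_eq_one.mp (bitN_le (posM (recOf j)) k.val) with u | u <;>
      rcases Nat.le_one_iff_eq_zero_or_eq_one.mp (bitN_le (negM (recOf i)) k.val) with d | d <;>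
      rcases Nat.le_one_iff_eq_zero_or_eq_one.mp (bitN_le (negM (recOf j)) k.val) with w | w <;>
        simp [c, d, u, w] at * <;> omega
  refine Nat.eq_of_testBit_eq fun k => ?_
  have tb : ∀ r q, (r : ℕ).testBit q = decide (bitN r q = 1) := fun r q => by
    rw [bitN]; cases r.testBit q <;> rfl
  rw [tb, tb]
  by_cases h1 : k < 56
  · have e := (hb ⟨k, h1⟩).1
    dsimp only at e
    rw [bitN_posM _ h1, bitN_posM _ h1] at e
    rw [e]
  by_cases h2 : k < 112
  · obtain ⟨t, rfl⟩ : ∃ t, k = 56 + t := ⟨k - 56, by omega⟩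
    have e := (hb ⟨t, by omega⟩).2
    dsimp only at e
    rw [bitN_negM _ (by omega), bitN_negM _ (by omega)] at e
    rw [e]
  · obtain ⟨t, rfl⟩ : ∃ t, k = 112 + t := ⟨k - 112, by omega⟩
    have ef : flag (recOf i) = flag (recOf j) := by rw [mag, mag] at hmag; omega
    have : ∀ r, bitN r (112 + t) = bitN (flag r) t := fun r => by simp [bitN, flag, Nat.testBit_shiftRight]
    rw [this, this, ef]

theorem recOf_lt : ∀ {i j : ℕ}, i < j → j < 16240 → recOf i < recOf j := by
  intro i j hij
  induction j with
  | zero => omega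
  | succ j ih =>
    intro hj
    rcases Nat.lt_succ_iff_lt_or_eq.mp hij with h | h
    · exact (ih h (by omega)).trans (recOf_mono hj)
    · subst h; exact recOf_mono hj

theorem vec_ext {i j : ℕ} (hi : i < 16240) (hj : j < 16240) (h : vecOf (recOf i) = vecOf (recOf j)) : i = j := by
  have e := rec_ext hi hj h
  rcases Nat.lt_trichotomy i j with h' | h' | h'
  · exact absurd e (recOf_lt h' hj).ne
  · exact h'
  · exact absurd e (recOf_lt h' hi).ne'

/-! ### orbits -/

theorem fillM_sound (ws : List (List ℕ)) (P : ℕ → Prop) (hP : ∀ k < ws.length, ∀ p, P p → P (pathEnd permT (ws.getD k []) p)) :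
    ∀ (l : List (ℕ × ℕ × ℕ)) {m m' : ℕ}, fillM ws l m = some m' → (∀ i, m.testBit i → P i) → ∀ i, m'.testBit i → P i
  | [], m, m', h, hm => by simp only [fillM, Option.some.injEq] at h; exact h ▸ hm
  | (c, p, k) :: l, m, m', h, hm => by
    rw [fillM] at h
    cases hc : (Nat.testBit m p && H93.Coset.walk permT (ws.getD k []) p (fun e => Nat.beq e c) && Nat.blt k ws.length)
    · rw [hc] at h; exact absurd h (by simp)
    · rw [hc] at h
      simp only [walk_eq, Bool.and_eq_true, Nat.beq_eq, Nat.blt_eq] at hc
      refine fillM_sound ws P hP l h fun i hi => ?_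
      have hi' : (m ||| 2 ^ c).testBit i = true := hi
      rw [Nat.testBit_or, Nat.testBit_two_pow, Bool.or_eq_true, decide_eq_true_eq] at hi'
      rcases hi' with hi' | rfl
      · exact hm i hi'
      · rw [← hc.1.2]; exact hP k hc.2 p (hm p hc.1.1)

theorem fillAll_sound (ws : List (List ℕ)) (P : ℕ → Prop) (hP : ∀ k < ws.length, ∀ p, P p → P (pathEnd permT (ws.getD k []) p)) :
    ∀ (ls : List (List (ℕ × ℕ × ℕ))) {m m' : ℕ}, fillAll ws ls m = some m' → (∀ i, m.testBit i → P i) → ∀ i, m'.testBit i → P i
  | [], m, m', h, hm => by simp only [fillAll, Option.some.injEq] at h; exact h ▸ hm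
  | l :: ls, m, m', h, hm => by
    rw [fillAll] at h
    cases hc : fillM ws l m with
    | none => rw [hc] at h; exact absurd h (by simp)
    | some m₁ => rw [hc] at h; exact fillAll_sound ws P hP ls h (fillM_sound ws P hP l hc hm)

/-- what is closed under the words holds on the whole orbit -/
theorem orbOK_sound {ws : List (List ℕ)} {root : ℕ} {cert : List (List (ℕ × ℕ × ℕ))} {mask : ℕ}
    (h : orbOK ws root cert mask = true) (P : ℕ → Prop) (h0 : P root)
    (hP : ∀ k < ws.length, ∀ p, P p → P (pathEnd permT (ws.getD k []) p)) :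
    ∀ i, mask.testBit i → P i := by
  rw [orbOK] at h
  cases hc : fillAll ws cert (2 ^ root) with
  | none => rw [hc] at h; exact absurd h (by simp)
  | some m =>
    rw [hc] at h
    obtain rfl := Nat.eq_of_beq_eq_true h
    refine fillAll_sound ws P hP cert hc fun i hi => ?_
    rw [Nat.testBit_two_pow, decide_eq_true_eq] at hi
    exact hi ▸ h0

end H91.Ru
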