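/- The generators of the automorphism group of the Rudvalis lattice. -/
import Mathlib
import Cfsg.Agent.H91.Ru.Images

set_option autoImplicit false
set_option maxRecDepth 100000

noncomputable section

namespace H91.Ru

open Cfsg.Spor H62.Ru
open H93.Coset (allRange allRange_spec pathEnd force_eq)

theorem root_in : ofList (cvec (recOf (baseI.getD 0 0))) = ruTable.getD 0 0 := by
  refine coord_injective (funext ?_)
  decide +kernel

theorem root_lt : baseI.getD 0 0 < 16240 := by decide +kernel

theorem mask0_full : allRange 0 16240 (fun i => Nat.testBit (levelMasks.getD 0 0) i) = true := by decide +kernel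

theorem frameA_image {i : ℕ} (h : i < 16240) :
    permT 0 i < 16240 ∧ TV 0 (vecOf (recOf i)) = vecOf (recOf (permT 0 i)) :=
  image_rec 0 certA imgA_ok h

theorem frameB_image {i : ℕ} (h : i < 16240) :
    permT 1 i < 16240 ∧ TV 1 (vecOf (recOf i)) = vecOf (recOf (permT 1 i)) :=
  image_rec 1 certB imgB_ok h

theorem permT_lt (g : ℕ) {i : ℕ} (h : i < 16240) : permT g i < 16240 := by
  match g with
  | 0 => exact (frameA_image h).1
  | 1 => exact (frameB_image h).1
  | _ + 2 => exact (turn_rec h).1

theorem pathEnd_lt : ∀ (w : List ℕ) {i : ℕ}, i < 16240 → pathEnd permT w i < 16240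
  | [], _, h => h
  | g :: w, _, h => pathEnd_lt w (permT_lt g h)

theorem level0_orbit : orbOK [[0], [1]] (baseI.getD 0 0) (fillList 0) (levelMasks.getD 0 0) = true := by
  have h := level0_ok
  simp only [levelOK, Bool.and_eq_true] at h
  exact h.1.1

theorem rec_mem {i : ℕ} (h : i < 16240) : vecOf (recOf i) ∈ ruLattice := by
  refine (orbOK_sound level0_orbit (fun i => i < 16240 ∧ vecOf (recOf i) ∈ ruLattice)
    ⟨root_lt, ?_⟩ ?_ i (allRange_spec mask0_full i (Nat.zero_le _) (by omega))).2
  · rw [← ofList_cvec, root_in]; exact table_mem 0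
  · intro k hk p hp
    match k, hk with
    | 0, _ => exact ⟨(frameA_image hp.1).1, (frameA_image hp.1).2 ▸ TV_mem certA hp.2⟩
    | 1, _ => exact ⟨(frameB_image hp.1).1, (frameB_image hp.1).2 ▸ TV_mem certB hp.2⟩

/-- minimal vector number `i` -/
def vec (i : ℕ) : ruLattice := if h : i < 16240 then ⟨vecOf (recOf i), rec_mem h⟩ else 0

theorem vec_val {i : ℕ} (h : i < 16240) : (vec i : RuVec) = vecOf (recOf i) := by rw [vec, dif_pos h]

theorem orbit_check : ∀ j : Fin 100, toList (orbitVec j.val) = cvec (recOf (orbitRec.getD j.val 0)) ∧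
    orbitRec.getD j.val 0 < 16240 := by decide +kernel

theorem comb_idx : ∀ i : Fin 56, ∀ p ∈ basisCoef.getD i.val [], p.1 < 100 := by decide +kernel

theorem zsmul_eq (j : ℕ) (z : ℤ) :
    (fun p => (⟨z * (orbitVec j p).re, z * (orbitVec j p).im⟩ : GaussianInt)) = z • orbitVec j := by
  funext p; ext <;> simp

/-- what holds on the recorded vectors and is additive holds on the lattice -/
theorem vec_induction {P : RuVec → Prop} (h0 : P 0) (hv : ∀ i < 16240, P (vecOf (recOf i)))
    (hadd : ∀ x y, x ∈ ruLattice → y ∈ ruLattice → P x → P y → P (x + y))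
    (hneg : ∀ x, x ∈ ruLattice → P x → P (-x)) {v : RuVec} (h : v ∈ ruLattice) : P v := by
  refine lattice_induction h0 (fun b hb => ?_) hadd hneg h
  obtain ⟨i, hi', rfl⟩ : ∃ i < 56, basisData.getD i [] = b := by
    obtain ⟨i, hi, rfl⟩ := List.getElem_of_mem hb
    exact ⟨i, by rw [← basis_len56]; exact hi, List.getD_eq_getElem basisData [] hi⟩
  have e : combVec (basisCoef.getD i []) = ofList (basisData.getD i []) := by
    rw [← ofList_toList (combVec _), comb_check ⟨i, hi'⟩]
  rw [← e]
  have horb : ∀ j < 100, orbitVec j ∈ ruLattice ∧ P (orbitVec j) := fun j hj => by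
    obtain ⟨e1, e2⟩ := orbit_check ⟨j, hj⟩
    rw [← ofList_toList (orbitVec j), e1, ofList_cvec]
    exact ⟨rec_mem e2, hv _ e2⟩
  have hz : ∀ (z : ℤ) (x : RuVec), x ∈ ruLattice → P x → z • x ∈ ruLattice ∧ P (z • x) := fun z x hx px => by
    induction z using Int.induction_on with
    | zero => rw [zero_smul]; exact ⟨zero_mem _, h0⟩
    | succ n ih => rw [add_smul, one_smul]; exact ⟨add_mem ih.1 hx, hadd _ _ ih.1 hx ih.2 px⟩
    | pred n ih =>
      rw [sub_smul, one_smul, sub_eq_add_neg]
      exact ⟨add_mem ih.1 (neg_mem hx), hadd _ _ ih.1 (neg_mem hx) ih.2 (hneg _ hx px)⟩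
  suffices ∀ l : List (ℕ × ℤ), (∀ p ∈ l, p.1 < 100) → P (combVec l) from this _ (comb_idx ⟨i, hi'⟩)
  intro l
  induction l with
  | nil => intro _; exact h0
  | cons p l ih =>
    intro hp
    obtain ⟨o1, o2⟩ := horb p.1 (hp p (List.mem_cons_self ..))
    show P (_ + combVec l)
    rw [zsmul_eq]
    exact hadd _ _ (hz p.2 _ o1 o2).1 (combVec_mem l) (hz p.2 _ o1 o2).2 (ih fun q hq => hp q (List.mem_cons_of_mem _ hq))

theorem TV_gI (g : ℕ) (hg : g < 2) (hM : MapCert g) {v : RuVec} (hv : v ∈ ruLattice) :
    TV g (gI • v) = gI • TV g v := by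
  refine vec_induction (P := fun v => TV g (gI • v) = gI • TV g v) ?_ (fun i hi => ?_) ?_ ?_ hv
  · rw [smul_zero, TV_zero, smul_zero]
  · obtain ⟨h1, h2⟩ := turn_rec hi
    have e := allRange_spec comm_ok i (Nat.zero_le _) (by omega)
    simp only [commChk, Bool.and_eq_true, Nat.beq_eq] at e
    rw [← vecOf_turn, ← h2]
    match g, hg with
    | 0, _ => rw [(frameA_image h1).2, (frameA_image hi).2, e.1, (turn_rec (frameA_image hi).1).2, vecOf_turn]
    | 1, _ => rw [(frameB_image h1).2, (frameB_image hi).2, e.2, (turn_rec (frameB_image hi).1).2, vecOf_turn]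
  · intro x y hx _ px py
    rw [smul_add, TV_add hM (gI_smul_mem_ruLattice hx), TV_add hM hx, smul_add, px, py]
  · intro x hx px
    rw [smul_neg, TV_neg hM (gI_smul_mem_ruLattice hx), TV_neg hM hx, smul_neg, px]

/-- the map on the lattice -/
def mapL (g : ℕ) (hM : MapCert g) (v : ruLattice) : ruLattice := ⟨TV g v.1, TV_mem hM v.2⟩

theorem mapL_bij (g : ℕ) (hg : g < 2) (hM : MapCert g) : Function.Bijective (mapL g hM) := by
  constructor
  · intro v w h
    have e : TV g v.1 = TV g w.1 := congrArg Subtype.val h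
    have hd : TV g (v.1 + -w.1) = 0 := by rw [TV_add hM v.2, TV_neg hM w.2, e, add_neg_cancel]
    have h1 := TV_dot hM (add_mem v.2 (neg_mem w.2)) (add_mem v.2 (neg_mem w.2))
    rw [hd, show dot 0 (0 : RuVec) = 0 by simp [dot], dot_coord] at h1
    apply Subtype.ext
    refine coord_injective (funext fun j => ?_)
    have := (Finset.sum_eq_zero_iff_of_nonneg fun k _ => mul_self_nonneg (coord (v.1 + -w.1) k)).1 h1.symm j (Finset.mem_univ _)
    rw [mul_self_eq_zero, coord_add, coord_neg] at this
    omega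
  · intro ⟨w, hw⟩
    have hsurj : ∀ i < 16240, ∃ v, ∃ hv : v ∈ ruLattice, TV g v = vecOf (recOf i) := by
      intro i hi
      have hinj : Function.Injective (fun k : Fin 16240 => (⟨permT g k.val, permT_lt g k.isLt⟩ : Fin 16240)) := by
        intro a b hab
        have hab' : permT g a.val = permT g b.val := congrArg Fin.val hab
        have himg : ∀ k : Fin 16240, TV g (vecOf (recOf k.val)) = vecOf (recOf (permT g k.val)) := fun k => by
          match g, hg with
          | 0, _ => exact (frameA_image k.isLt).2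
          | 1, _ => exact (frameB_image k.isLt).2
        have hv : vecOf (recOf a.val) = vecOf (recOf b.val) := by
          have e : TV g (vecOf (recOf a.val)) = TV g (vecOf (recOf b.val)) := by rw [himg, himg, hab']
          have hd : TV g (vecOf (recOf a.val) + -vecOf (recOf b.val)) = 0 := by
            rw [TV_add hM (rec_mem a.isLt), TV_neg hM (rec_mem b.isLt), e, add_neg_cancel]
          have h1 := TV_dot hM (add_mem (rec_mem a.isLt) (neg_mem (rec_mem b.isLt))) (add_mem (rec_mem a.isLt) (neg_mem (rec_mem b.isLt)))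
          rw [hd, show dot 0 (0 : RuVec) = 0 by simp [dot], dot_coord] at h1
          refine coord_injective (funext fun j => ?_)
          have := (Finset.sum_eq_zero_iff_of_nonneg fun k _ => mul_self_nonneg (coord (vecOf (recOf a.val) + -vecOf (recOf b.val)) k)).1 h1.symm j (Finset.mem_univ _)
          rw [mul_self_eq_zero, coord_add, coord_neg] at this
          omega
        exact Fin.ext (vec_ext a.isLt b.isLt hv)
      obtain ⟨k, hk⟩ := Finite.surjective_of_injective hinj ⟨i, hi⟩
      have hk' : permT g k.val = i := congrArg Fin.val hk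
      refine ⟨_, rec_mem k.isLt, ?_⟩
      rw [← hk']
      match g, hg with
      | 0, _ => exact (frameA_image k.isLt).2
      | 1, _ => exact (frameB_image k.isLt).2
    obtain ⟨v, hv, e⟩ : ∃ v, ∃ hv : v ∈ ruLattice, TV g v = w := by
      refine vec_induction (P := fun w => ∃ v, ∃ hv : v ∈ ruLattice, TV g v = w) ⟨0, zero_mem _, TV_zero g⟩ hsurj ?_ ?_ hw
      · rintro x y - - ⟨a, ha, rfl⟩ ⟨b, hb, rfl⟩; exact ⟨a + b, add_mem ha hb, TV_add hM ha⟩
      · rintro x - ⟨a, ha, rfl⟩; exact ⟨-a, neg_mem ha, TV_neg hM ha⟩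
    exact ⟨⟨v, hv⟩, Subtype.ext e⟩

/-- the element of the automorphism group given by a map -/
def mapAut (g : ℕ) (hg : g < 2) (hM : MapCert g) : ↥fourRu :=
  ⟨Equiv.ofBijective (mapL g hM) (mapL_bij g hg hM),
   fun v w => Subtype.ext (TV_add hM v.2),
   fun v => Subtype.ext (TV_gI g hg hM v.2),
   fun v => by
     show ruNorm (TV g v.1) = ruNorm v.1
     rw [ruNorm_eq_dot, ruNorm_eq_dot, TV_dot hM v.2 v.2]⟩

theorem mapAut_val (g : ℕ) (hg : g < 2) (hM : MapCert g) (v : ruLattice) :
    ((mapAut g hg hM).1 v : RuVec) = TV g v.1 := rfl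

def s0 : ↥fourRu := mapAut 0 (by norm_num) certA
def s1 : ↥fourRu := mapAut 1 (by norm_num) certB

theorem ruI_four (v : ruLattice) : ruI (ruI (ruI (ruI v))) = v := by
  refine Subtype.ext (funext fun p => ?_)
  show gI * (gI * (gI * (gI * (v : RuVec) p))) = (v : RuVec) p
  simp only [← mul_assoc]
  rw [show gI * gI * gI * gI = 1 from by decide +kernel, one_mul]

theorem ruI_add (v w : ruLattice) : ruI (v + w) = ruI v + ruI w := Subtype.ext (smul_add _ _ _)

theorem norm_gI (v : RuVec) : ruNorm (gI • v) = ruNorm v := by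
  refine Finset.sum_congr rfl fun p _ => ?_
  show (gI * v p).norm = (v p).norm
  rw [Zsqrtd.norm_mul, show gI.norm = 1 from rfl, one_mul]

/-- multiplication by the unit -/
def sI : ↥fourRu :=
  ⟨{ toFun := ruI, invFun := fun v => ruI (ruI (ruI v)), left_inv := ruI_four, right_inv := ruI_four },
   ruI_add, fun _ => rfl, fun v => norm_gI v.1⟩

/-- generator number `g` -/
def genF : ℕ → ↥fourRu
  | 0 => s0
  | 1 => s1
  | _ => sI

theorem genF_vec (g : ℕ) {i : ℕ} (h : i < 16240) : (genF g).1 (vec i) = vec (permT g i) := by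
  apply Subtype.ext
  rw [vec_val (permT_lt g h)]
  match g with
  | 0 =>
    show (s0.1 (vec i) : RuVec) = _
    rw [s0, mapAut_val, vec_val h, (frameA_image h).2]
  | 1 =>
    show (s1.1 (vec i) : RuVec) = _
    rw [s1, mapAut_val, vec_val h, (frameB_image h).2]
  | g + 2 =>
    show gI • (vec i : RuVec) = _
    rw [vec_val h, show permT (g + 2) i = permT 2 i from rfl, (turn_rec h).2, vecOf_turn]

/-- the element of a word, first letter acting first -/
def wordF : List ℕ → ↥fourRu
  | [] => 1
  | g :: w => wordF w * genF g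

theorem wordF_vec : ∀ (w : List ℕ) {i : ℕ}, i < 16240 → (wordF w).1 (vec i) = vec (pathEnd permT w i)
  | [], _, _ => rfl
  | g :: w, i, h => by
    show (wordF w).1 ((genF g).1 (vec i)) = _
    rw [genF_vec g h, wordF_vec w (permT_lt g h)]
    rfl

end H91.Ru
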