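/- Soundness of the certificates on the code of the Rudvalis lattice. -/
import Mathlib
import Cfsg.Agent.H91.Ru.Lattice

set_option autoImplicit false
set_option maxRecDepth 100000

noncomputable section

namespace H91.Ru

open Cfsg.Spor H62.Ru
open H93.Coset (force_eq)

theorem exists_bits : ∀ (n : ℕ) (P : ℕ → Prop), ∃ f < 2 ^ n, ∀ t < n, (bitN f t = 1 ↔ P t)
  | 0, P => ⟨0, by norm_num, fun t ht => absurd ht (by omega)⟩
  | n + 1, P => by
    classical
    obtain ⟨f, hf, h⟩ := exists_bits n fun t => P (t + 1)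
    refine ⟨(if P 0 then 1 else 0) + 2 * f, by rw [pow_succ]; split_ifs <;> omega, fun t ht => ?_⟩
    match t with
    | 0 =>
      rw [bitN_eq_div]
      split_ifs with h0 <;> simp [h0] <;> omega
    | t + 1 =>
      rw [bitN_eq_div, show ((if P 0 then 1 else 0) + 2 * f) / 2 ^ (t + 1) = f / 2 ^ t by
        rw [pow_succ', ← Nat.div_div_eq_div_mul]; congr 1; split_ifs <;> omega, ← bitN_eq_div]
      exact h t (by omega)

theorem bitN_high {x n : ℕ} (hx : x < 2 ^ n) {j : ℕ} (h : n ≤ j) : bitN x j = 0 := by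
  rw [bitN, Nat.testBit_lt_two_pow (Nat.lt_of_lt_of_le hx (Nat.pow_le_pow_right (by norm_num) h))]; rfl

theorem eq_of_bitN {x y : ℕ} (h : ∀ j, bitN x j = bitN y j) : x = y := by
  refine Nat.eq_of_testBit_eq fun j => ?_
  have := h j
  rw [bitN, bitN] at this
  cases hx : x.testBit j <;> cases hy : y.testBit j <;> simp_all

theorem bitN_two_pow (h j : ℕ) : bitN (2 ^ h) j = if h = j then 1 else 0 := by
  rw [bitN, Nat.testBit_two_pow]
  by_cases e : h = j <;> simp [e]

theorem testBit_iff (x j : ℕ) : x.testBit j = true ↔ bitN x j = 1 := by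
  rw [bitN]; cases x.testBit j <;> simp

theorem selXor_low : ∀ (L : List ℕ) (n : ℕ), selXor L (n % 2 ^ L.length) = selXor L n
  | [], _ => rfl
  | g :: L, n => by
    have h1 : n % 2 ^ (L.length + 1) % 2 = n % 2 := Nat.mod_mod_of_dvd _ (dvd_pow_self 2 (by omega))
    have h2 : n % 2 ^ (L.length + 1) / 2 = n / 2 % 2 ^ L.length := by
      rw [pow_succ']; exact Nat.mod_mul_right_div_self n 2 _
    rw [List.length_cons, selXor, selXor, h1, h2, selXor_low L]

theorem selXor_append : ∀ (L L' : List ℕ) (n : ℕ),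
    selXor (L ++ L') n = Nat.xor (selXor L n) (selXor L' (n / 2 ^ L.length))
  | [], L', n => by simp [selXor]
  | g :: L, L', n => by
    rw [List.cons_append, selXor, selXor, selXor_append L L', List.length_cons,
      pow_succ', ← Nat.div_div_eq_div_mul]
    exact (Nat.xor_assoc _ _ _).symm

theorem xor_lt {x y n : ℕ} (hx : x < 2 ^ n) (hy : y < 2 ^ n) : Nat.xor x y < 2 ^ n := Nat.xor_lt_two_pow hx hy

theorem parWord_xor (a b : ℕ) : parWord (Nat.xor a b) = Nat.xor (parWord a) (parWord b) := by
  refine eq_of_bitN fun j => ?_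
  simp only [parWord, bitN_xor, bitN_and]
  have s : ∀ x, bitN (x >>> 1) j = bitN x (1 + j) := fun x => by simp [bitN, Nat.testBit_shiftRight]
  rw [s, s, s, bitN_xor]
  have := bitN_le evenBits j
  rcases Nat.le_one_iff_eq_zero_or_eq_one.mp (bitN_le evenBits j) with e | e <;> rw [e] <;> omega

theorem parWord_zero : parWord 0 = 0 := by decide +kernel

theorem parWord_sel : ∀ (L : List ℕ), (∀ g ∈ L, parWord g = 0) → ∀ s, parWord (selXor L s) = 0
  | [], _, _ => parWord_zero
  | g :: L, h, s => by
    rw [selXor, parWord_xor, parWord_sel L (fun x hx => h x (List.mem_cons_of_mem _ hx))]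
    rcases Nat.mod_two_eq_zero_or_one s with e | e <;> rw [e]
    · rw [zero_mul, parWord_zero]; exact Nat.xor_self 0
    · rw [one_mul, h g (List.mem_cons_self ..)]; exact Nat.xor_self 0

theorem dRec_sound (leaf : ℕ → ℕ → Bool) : ∀ (L : List ℕ) {m d p : ℕ}, dRec leaf L m d p = true →
    ∀ s, leaf (Nat.xor m (selXor L s)) (d + p * (s % 2 ^ L.length)) = true
  | [], m, d, p, h, s => by
    simpa [selXor, dRec, Nat.mod_one] using h
  | g :: L, m, d, p, h, s => by
    simp only [dRec, force_eq, Bool.and_eq_true] at h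
    have hs : s % 2 ^ (L.length + 1) = s % 2 + 2 * (s / 2 % 2 ^ L.length) := by
      rw [pow_succ']; exact Nat.mod_mul
    rw [List.length_cons, hs, selXor]
    rcases Nat.mod_two_eq_zero_or_one s with e | e <;> rw [e]
    · have := dRec_sound leaf L h.1 (s / 2)
      rw [zero_mul]
      have z : Nat.xor 0 (selXor L (s / 2)) = selXor L (s / 2) := Nat.zero_xor _
      rw [z, zero_add, show p * (2 * (s / 2 % 2 ^ L.length)) = 2 * p * (s / 2 % 2 ^ L.length) by ring]
      exact this
    · have := dRec_sound leaf L h.2 (s / 2)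
      rw [one_mul, show d + p * (1 + 2 * (s / 2 % 2 ^ L.length)) = d + p + 2 * p * (s / 2 % 2 ^ L.length) by ring]
      rwa [show Nat.xor (Nat.xor m g) (selXor L (s / 2)) = Nat.xor m (Nat.xor g (selXor L (s / 2))) from
        Nat.xor_assoc _ _ _] at this

theorem clr_sound : ∀ (r x : ℕ), x < 2 ^ 56 → pop x ≤ r → clr r x = 0
  | 0, x, hx, h => by
    refine eq_of_bitN fun j => ?_
    show bitN x j = bitN 0 j
    rw [bitN_zero]
    by_cases hj : j < 56
    · rw [pop_eq] at h
      exact (Finset.sum_eq_zero_iff.1 (Nat.le_zero.1 h)) ⟨j, hj⟩ (Finset.mem_univ _)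
    · exact bitN_high hx (by omega)
  | r + 1, x, hx, h => by
    rw [clr]
    have hle : Nat.land x (x - 1) ≤ x - 1 := Nat.and_le_right
    refine clr_sound r _ (by omega) ?_
    by_cases h0 : x = 0
    · subst h0
      have : pop (Nat.land 0 (0 - 1)) = 0 := by decide +kernel
      omega
    · obtain ⟨j, hj⟩ : ∃ j, bitN (Nat.land x (x - 1)) j ≠ bitN x j := by
        by_contra hc
        simp only [not_exists, not_not] at hc
        have := eq_of_bitN hc
        omega
      have hsub : ∀ k, bitN (Nat.land x (x - 1)) k ≤ bitN x k := fun k => by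
        rw [bitN_and]; exact (Nat.mul_le_mul_left _ (bitN_le _ k)).trans_eq (mul_one _)
      have hj56 : j < 56 := by
        by_contra hc
        have := bitN_high hx (show 56 ≤ j by omega)
        have := hsub j
        omega
      have : pop (Nat.land x (x - 1)) < pop x := by
        rw [pop_eq, pop_eq]
        exact Finset.sum_lt_sum (fun k _ => hsub k.val) ⟨⟨j, hj56⟩, Finset.mem_univ _, lt_of_le_of_ne (hsub j) hj⟩
      omega

theorem pivOK_sound (m free : ℕ) : ∀ (hs ss : List ℕ) (acc : ℕ), pivOK m free hs ss acc = true →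
    ∀ j, bitN m j = 1 → bitN (Nat.lor acc free) j = 1 ∨
      ∃ s, Nat.land (Nat.land (selXor planeLo s) m) (Nat.xor M56 free) = 2 ^ j
  | [], [], acc, h, j, hj => by
    simp only [pivOK, Nat.beq_eq] at h
    left; rwa [h]
  | h0 :: hs, s :: ss, acc, h, j, hj => by
    simp only [pivOK, force_eq, Bool.and_eq_true, Nat.beq_eq] at h
    rcases pivOK_sound m free hs ss _ h.2 j hj with e | e
    · by_cases hh : h0 = j
      · exact Or.inr ⟨s, hh ▸ h.1.1⟩
      · left
        rw [bitN_or, bitN_or, bitN_two_pow, if_neg hh] at e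
        rw [bitN_or]; simpa using e
    · exact Or.inr e
  | [], _ :: _, _, h, _, _ => by simp [pivOK] at h
  | _ :: _, [], _, h, _, _ => by simp [pivOK] at h

theorem freeMask_bit : ∀ (free : List ℕ) (j : ℕ), bitN (freeMask free) j = 1 → j ∈ free
  | [], j, h => by rw [freeMask, bitN_zero] at h; omega
  | i :: l, j, h => by
    rw [freeMask, bitN_or, bitN_two_pow] at h
    by_cases e : i = j
    · exact e ▸ List.mem_cons_self ..
    · rw [if_neg e] at h
      exact List.mem_cons_of_mem _ (freeMask_bit l j (by simpa using h))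

theorem membOK_sound (m : ℕ) (free : List ℕ) : ∀ (l : List ℕ) (f0 : ℕ), membOK m free l f0 = true →
    ∀ f, f0 ≤ f → f < 2 ^ free.length → ∃ i < 16240, flag (recOf i) = 0 ∧
      Nat.lor (posM (recOf i)) (negM (recOf i)) = m ∧
      ∀ t < free.length, bitN (negM (recOf i)) (free.getD t 0) = bitN f t
  | [], f0, h, f, h1, h2 => by
    simp only [membOK, Nat.beq_eq] at h
    omega
  | i :: l, f0, h, f, h1, h2 => by
    simp only [membOK, force_eq, Bool.and_eq_true, Nat.blt_eq, Nat.beq_eq, List.all_eq_true, List.mem_range,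
      beq_iff_eq] at h
    obtain ⟨hi, ⟨⟨ha, hb⟩, hc⟩, hd⟩ := h
    rcases Nat.lt_or_ge f0 f with hf | hf
    · exact membOK_sound m free l _ hd f hf h2
    · obtain rfl : f = f0 := by omega
      exact ⟨i, hi, ha, hb, hc⟩

theorem findCls_sound (d : ℕ) : ∀ (l : List Cls) (e : Cls), findCls d l = some e → e.1 = d
  | [], e, h => by simp [findCls] at h
  | x :: l, e, h => by
    rw [findCls] at h
    cases hx : Nat.beq x.1 d
    · rw [hx] at h; exact findCls_sound d l e h
    · rw [hx] at h
      obtain rfl : x = e := by simpa using h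
      exact Nat.eq_of_beq_eq_true hx

/-! ### selections of rows -/

/-- rows agree with their two bit planes -/
def rowsMatch : List (List ℤ) → List ℕ → List ℕ → Bool
  | b :: B, a :: la, c :: lc =>
    ((List.range 56).all fun j => b.getD j 0 % 4 == ((bitN a j + 2 * bitN c j : ℕ) : ℤ)) && rowsMatch B la lc
  | [], [], [] => true
  | _, _, _ => false

theorem rows_match : rowsMatch basisData planeLo planeHi = true := by decide +kernel

theorem sel_spec (m : ℕ) : ∀ (B : List (List ℤ)) (la lc : List ℕ), rowsMatch B la lc = true → ∀ s,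
    (∀ j : Fin 56, (2 : ℤ) ∣ coord (selVec B s) j - (bitN (selXor la s) j.val : ℤ)) ∧
    (4 : ℤ) ∣ (∑ j : Fin 56, (bitN m j.val : ℤ) * coord (selVec B s) j) - (selDot m la lc s : ℤ)
  | [], [], [], _, s => by
    simp [selVec, selXor, selDot, coord_zero, bitN_zero]
  | b :: B, a :: la, c :: lc, h, s => by
    simp only [rowsMatch, Bool.and_eq_true, List.all_eq_true, List.mem_range, beq_iff_eq] at h
    obtain ⟨ih1, ih2⟩ := sel_spec m B la lc h.2 (s / 2)
    rcases Nat.mod_two_eq_zero_or_one s with e | e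
    · have hv : selVec (b :: B) s = selVec B (s / 2) := by
        rw [selVec, if_neg (by omega), zero_add]
      have hx : selXor (a :: la) s = selXor la (s / 2) := by
        rw [selXor, e, zero_mul]; exact Nat.zero_xor _
      have hd : selDot m (a :: la) (c :: lc) s = selDot m la lc (s / 2) := by
        rw [selDot, e, zero_mul, zero_add]
      rw [hv, hx, hd]
      exact ⟨ih1, ih2⟩
    · have hv : ∀ j, coord (selVec (b :: B) s) j = b.getD j.val 0 + coord (selVec B (s / 2)) j := fun j => by
        rw [selVec, if_pos e, coord_add, coord_ofList]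
      have hx : ∀ j, bitN (selXor (a :: la) s) j = (bitN a j + bitN (selXor la (s / 2)) j) % 2 := fun j => by
        rw [selXor, e, one_mul, bitN_xor]
      have hd : selDot m (a :: la) (c :: lc) s = pop (Nat.land m a) + 2 * pop (Nat.land m c) + selDot m la lc (s / 2) := by
        rw [selDot, e, one_mul]
      refine ⟨fun j => ?_, ?_⟩
      · rw [hv, hx]
        have hb := h.1 j.val j.isLt
        have := ih1 j
        omega
      · rw [hd]
        push_cast [pop_eq, bitN_and]
        have hb : (4 : ℤ) ∣ ∑ j : Fin 56, (bitN m j.val : ℤ) *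
            (b.getD j.val 0 - ((bitN a j.val : ℤ) + 2 * (bitN c j.val : ℤ))) :=
          Finset.dvd_sum fun j _ => Dvd.dvd.mul_left (by
            have := h.1 j.val j.isLt
            push_cast at this
            omega) _
        obtain ⟨u, hu⟩ := ih2
        obtain ⟨w, hw⟩ := hb
        refine ⟨u + w, ?_⟩
        have e2 : ∑ j : Fin 56, (bitN m j.val : ℤ) * (2 * (bitN c j.val : ℤ)) = 2 * ∑ j : Fin 56, (bitN m j.val : ℤ) * (bitN c j.val : ℤ) := by
          rw [Finset.mul_sum]; exact Finset.sum_congr rfl fun j _ => mul_left_comm _ _ _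
        simp only [hv, mul_add, mul_sub, Finset.sum_add_distrib, Finset.sum_sub_distrib, e2] at hw hu ⊢
        linarith

/-- the selected rows as a member of the lattice -/
theorem selBasis_mem (s : ℕ) : selVec basisData s ∈ ruLattice := selVec_mem _ (fun _ h => h) s

theorem selBasis_par (s : ℕ) (j : Fin 56) :
    (2 : ℤ) ∣ coord (selVec basisData s) j - (bitN (selXor planeLo s) j.val : ℤ) :=
  (sel_spec 0 _ _ _ rows_match s).1 j

theorem selBasis_dot (m s : ℕ) :
    (4 : ℤ) ∣ (∑ j : Fin 56, (bitN m j.val : ℤ) * coord (selVec basisData s) j) - (selDot m planeLo planeHi s : ℤ) :=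
  (sel_spec m _ _ _ rows_match s).2

theorem synd_xor (a b c d : ℕ) : ∀ L : List ℕ,
    (∀ g ∈ L, (bitN g a + bitN g b + bitN g c + bitN g d) % 2 = 0) →
    Nat.xor (synd a L) (synd b L) = Nat.xor (synd c L) (synd d L)
  | [], _ => rfl
  | g :: L, h => by
    have ih := synd_xor a b c d L fun x hx => h x (List.mem_cons_of_mem _ hx)
    have key : ∀ b1 b2 x y : ℕ, b1 ≤ 1 → b2 ≤ 1 →
        Nat.xor (b1 + 2 * x) (b2 + 2 * y) = (b1 + b2) % 2 + 2 * Nat.xor x y := fun b1 b2 x y h1 h2 => by
      have e1 : ∀ u : ℕ, u % 2 = bitN u 0 := fun u => by rw [bitN_eq_div]; simp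
      have m2 : Nat.xor (b1 + 2 * x) (b2 + 2 * y) % 2 = (b1 + b2) % 2 := by
        rw [e1, bitN_xor, ← e1, ← e1]; omega
      have d2 : Nat.xor (b1 + 2 * x) (b2 + 2 * y) / 2 = Nat.xor x y := by
        show ((b1 + 2 * x) ^^^ (b2 + 2 * y)) / 2 = x ^^^ y
        rw [← Nat.shiftRight_one, Nat.shiftRight_xor_distrib, Nat.shiftRight_one, Nat.shiftRight_one,
          show (b1 + 2 * x) / 2 = x by omega, show (b2 + 2 * y) / 2 = y by omega]
      omega
    simp only [synd]
    rw [key _ _ _ _ (bitN_le _ _) (bitN_le _ _), key _ _ _ _ (bitN_le _ _) (bitN_le _ _), ih]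
    have := h g (List.mem_cons_self ..)
    omega

theorem pairAcc_sound : ∀ (l : List (ℕ × ℕ)) (acc : ℕ), pairAcc l acc = true →
    (l.map fun p => Nat.xor (synd p.1 codeGen) (synd p.2 codeGen)).Nodup ∧
      ∀ p ∈ l, bitN acc (Nat.xor (synd p.1 codeGen) (synd p.2 codeGen)) = 0
  | [], _, _ => ⟨List.nodup_nil, fun p hp => absurd hp (by simp)⟩
  | (j, k) :: l, acc, h => by
    simp only [pairAcc, force_eq, Bool.and_eq_true, Bool.not_eq_true'] at h
    obtain ⟨hn, hm⟩ := pairAcc_sound l _ h.2
    refine ⟨List.nodup_cons.2 ⟨fun hmem => ?_, hn⟩, fun p hp => ?_⟩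
    · obtain ⟨p, hp, hpe⟩ := List.mem_map.1 hmem
      have := hm p hp
      rw [hpe, bitN_or, bitN_two_pow, if_pos rfl] at this
      omega
    · rcases List.mem_cons.1 hp with rfl | hp
      · rw [bitN, h.1.2]; rfl
      · have := hm p hp
        rw [bitN_or] at this
        omega

end H91.Ru
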