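/- Every lattice vector of norm sixteen is one of the recorded vectors. -/
import Mathlib
import Cfsg.Agent.H91.Ru.Gens
import Cfsg.Agent.H91.Ru.ShapeLemmas
import Cfsg.Agent.H91.Ru.ChkCodeA
import Cfsg.Agent.H91.Ru.ChkCodeB

set_option autoImplicit false
set_option maxRecDepth 100000

noncomputable section

namespace H91.Ru

open Cfsg.Spor H62.Ru
open H93.Coset (allRange_spec force_eq)

theorem le_sq {x : ℤ} {b : ℕ} (hb : b ≤ 1) (h : x % 2 = (b : ℤ)) : (b : ℤ) ≤ x * x := by
  rcases Nat.le_one_iff_eq_zero_or_eq_one.mp hb with rfl | rfl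
  · exact_mod_cast mul_self_nonneg x
  · have : x ≠ 0 := by rintro rfl; norm_num at h
    have := mul_self_pos.2 this
    norm_num; omega

/-- the data of a vector of norm sixteen -/
structure Short (v : RuVec) (m : ℕ) : Prop where
  mem : v ∈ ruLattice
  norm : ∑ j : Fin 56, coord v j * coord v j = 16
  par : IsPar v m

theorem Short.pop_le {v : RuVec} {m : ℕ} (h : Short v m) : pop m ≤ 16 := by
  have : ((pop m : ℕ) : ℤ) ≤ 16 := by
    rw [pop_eq, Nat.cast_sum, ← h.norm]
    exact Finset.sum_le_sum fun j _ => le_sq (bitN_le m j.val) (h.par j)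
  omega

theorem Short.full {v : RuVec} {m : ℕ} (h : Short v m) (hp : pop m = 16) (j : Fin 56) :
    coord v j * coord v j = (bitN m j.val : ℤ) := by
  have hle : ∀ k ∈ Finset.univ, (bitN m k.val : ℤ) ≤ coord v k * coord v k := fun k _ =>
    le_sq (bitN_le m k.val) (h.par k)
  have e : ∑ k : Fin 56, (bitN m k.val : ℤ) = ∑ k : Fin 56, coord v k * coord v k := by
    rw [← Nat.cast_sum, ← pop_eq, hp, h.norm]; rfl
  exact ((Finset.sum_eq_sum_iff_of_le hle).1 e j (Finset.mem_univ _)).symm

theorem Short.sel {v : RuVec} {m : ℕ} (h : Short v m) (s : ℕ) :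
    (4 : ℤ) ∣ ∑ j : Fin 56, coord v j * coord (selVec basisData s) j := by
  rw [← dot_coord]; exact four_dvd h.mem (selBasis_mem s)

theorem sel_even {m s : ℕ} (h : Nat.land (selXor planeLo s) m = 0) (j : Fin 56) (hj : bitN m j.val = 1) :
    (2 : ℤ) ∣ coord (selVec basisData s) j := by
  have e : bitN (Nat.land (selXor planeLo s) m) j.val = 0 := by rw [h, bitN_zero]
  rw [bitN_and, hj, mul_one] at e
  have := selBasis_par s j
  rw [e] at this
  simpa using this

theorem four_dvd_odd_mul {x S : ℤ} (hx : x % 2 = 1) (hS : (2 : ℤ) ∣ S) : (4 : ℤ) ∣ x * S - S := by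
  obtain ⟨a, ha⟩ : (2 : ℤ) ∣ x - 1 := by omega
  obtain ⟨b, rfl⟩ := hS
  exact ⟨a * b, by rw [show x = 2 * a + 1 by omega]; ring⟩

theorem full_zero {v : RuVec} {m : ℕ} (h : Short v m) (hp : pop m = 16) {s : ℕ}
    (hs : Nat.land (selXor planeLo s) m = 0) (hd : selDot m planeLo planeHi s % 4 = 2) : False := by
  have h1 : (4 : ℤ) ∣ ∑ j : Fin 56, (coord v j * coord (selVec basisData s) j -
      (bitN m j.val : ℤ) * coord (selVec basisData s) j) := by
    refine Finset.dvd_sum fun j _ => ?_
    have hq := h.full hp j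
    rcases Nat.le_one_iff_eq_zero_or_eq_one.mp (bitN_le m j.val) with e | e
    · rw [e, Nat.cast_zero, mul_self_eq_zero] at hq
      rw [e, hq]; simp
    · have := h.par j
      rw [e] at this
      rw [e, Nat.cast_one, one_mul]
      exact four_dvd_odd_mul (by exact_mod_cast this) (sel_even hs j e)
  rw [Finset.sum_sub_distrib] at h1
  have h2 := selBasis_dot m s
  have h3 := h.sel s
  omega

theorem full_one {v : RuVec} {m : ℕ} (h : Short v m) (hp : pop m = 16) {hs rows free memb : List ℕ}
    (hpiv : pivOK m (freeMask free) hs rows 0 = true) (hmemb : membOK m free memb 0 = true) :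
    ∃ i < 16240, v = vecOf (recOf i) := by
  obtain ⟨f, hf, hfb⟩ := exists_bits free.length
    (fun t => ∃ hj : free.getD t 0 < 56, coord v ⟨free.getD t 0, hj⟩ < 0)
  obtain ⟨i, hi, hfl, hm, hneg⟩ := membOK_sound m free memb 0 hmemb f (Nat.zero_le _) hf
  refine ⟨i, hi, ?_⟩
  set r := recOf i
  have hr : Val r := val_rec hi
  have hy : ∀ j : Fin 56, entry r j.val = (bitN m j.val : ℤ) * (1 - 2 * (bitN (negM r) j.val : ℤ)) := fun j => by
    have := hr.disj j.val
    rw [← hm, bitN_or, entry, mag, hfl]
    rcases Nat.le_one_iff_eq_zero_or_eq_one.mp (bitN_le (posM r) j.val) with a | a <;>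
      rcases Nat.le_one_iff_eq_zero_or_eq_one.mp (bitN_le (negM r) j.val) with b | b <;>
        simp [a, b] at this ⊢
  refine coord_injective (funext fun j => ?_)
  rw [coord_vecOf, hy j]
  have hq := h.full hp j
  rcases Nat.le_one_iff_eq_zero_or_eq_one.mp (bitN_le m j.val) with e | e
  · rw [e, Nat.cast_zero, mul_self_eq_zero] at hq
    rw [e, hq]; simp
  rw [e, Nat.cast_one, one_mul]
  rw [e, Nat.cast_one] at hq
  rcases pivOK_sound m (freeMask free) hs rows 0 hpiv j.val e with hfree | ⟨s, hsj⟩
  · rw [bitN_or, bitN_zero] at hfree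
    have hmem := freeMask_bit free j.val (by simpa using hfree)
    obtain ⟨t, ht, hte⟩ := List.getElem_of_mem hmem
    have hg : free.getD t 0 = j.val := by rw [List.getD_eq_getElem _ _ ht, hte]
    have h1 := hneg t ht
    rw [hg] at h1
    have h2 := hfb t ht
    rw [← h1] at h2
    rcases mul_self_eq_one_iff.1 hq with hv | hv
    · have : bitN (negM r) j.val = 0 := by
        rcases Nat.le_one_iff_eq_zero_or_eq_one.mp (bitN_le (negM r) j.val) with b | b
        · exact b
        · obtain ⟨hj, hlt⟩ := h2.1 b
          rw [show (⟨free.getD t 0, hj⟩ : Fin 56) = j from Fin.ext hg, hv] at hlt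
          norm_num at hlt
      rw [this, hv]; norm_num
    · have : bitN (negM r) j.val = 1 := h2.2 ⟨by rw [hg]; exact j.isLt, by
        rw [show (⟨free.getD t 0, by rw [hg]; exact j.isLt⟩ : Fin 56) = j from Fin.ext hg, hv]; norm_num⟩
      rw [this, hv]; norm_num
  · by_contra hne
    have h1 : (4 : ℤ) ∣ ∑ k : Fin 56, (coord v k - entry r k.val) * coord (selVec basisData s) k := by
      simp only [sub_mul, Finset.sum_sub_distrib]
      refine dvd_sub (h.sel s) ?_
      have := four_dvd (rec_mem hi) (selBasis_mem s)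
      rw [dot_coord] at this
      simpa only [coord_vecOf] using this
    rw [← Finset.add_sum_erase _ _ (Finset.mem_univ j)] at h1
    have h2 : (4 : ℤ) ∣ ∑ k ∈ Finset.univ.erase j, (coord v k - entry r k.val) * coord (selVec basisData s) k := by
      refine Finset.dvd_sum fun k hk => ?_
      have hkj : k.val ≠ j.val := fun hh => (Finset.mem_erase.1 hk).1 (Fin.ext hh)
      have hb : bitN (Nat.land (Nat.land (selXor planeLo s) m) (Nat.xor M56 (freeMask free))) k.val = 0 := by
        rw [hsj, bitN_two_pow, if_neg (Ne.symm hkj)]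
      rw [bitN_and, bitN_and, bitN_xor, bitN_M56 k.isLt] at hb
      have hqk := h.full hp k
      rcases Nat.le_one_iff_eq_zero_or_eq_one.mp (bitN_le m k.val) with ek | ek
      · rw [ek, Nat.cast_zero, mul_self_eq_zero] at hqk
        rw [hqk, hy k, ek]; simp
      rw [ek, Nat.cast_one] at hqk
      rw [ek] at hb
      by_cases hfk : bitN (freeMask free) k.val = 1
      · obtain ⟨t, ht, hte⟩ := List.getElem_of_mem (freeMask_bit free k.val hfk)
        have hg : free.getD t 0 = k.val := by rw [List.getD_eq_getElem _ _ ht, hte]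
        have h1 := hneg t ht
        rw [hg] at h1
        have h2 := hfb t ht
        rw [← h1] at h2
        suffices coord v k - entry r k.val = 0 by rw [this]; simp
        rw [hy k, ek]
        rcases Nat.le_one_iff_eq_zero_or_eq_one.mp (bitN_le (negM r) k.val) with b | b
        · rcases mul_self_eq_one_iff.1 hqk with hv | hv
          · rw [hv, b]; norm_num
          · have := h2.2 ⟨by rw [hg]; exact k.isLt, by
              rw [show (⟨free.getD t 0, by rw [hg]; exact k.isLt⟩ : Fin 56) = k from Fin.ext hg, hv]; norm_num⟩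
            omega
        · obtain ⟨hj', hlt⟩ := h2.1 b
          rw [show (⟨free.getD t 0, hj'⟩ : Fin 56) = k from Fin.ext hg] at hlt
          rcases mul_self_eq_one_iff.1 hqk with hv | hv
          · omega
          · rw [hv, b]; norm_num
      · have hs0 : bitN (selXor planeLo s) k.val = 0 := by
          have := bitN_le (freeMask free) k.val
          rw [show bitN (freeMask free) k.val = 0 by omega] at hb
          simpa using hb
        have he : (2 : ℤ) ∣ coord (selVec basisData s) k := by
          have := selBasis_par s k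
          rw [hs0] at this
          simpa using this
        have hd : (2 : ℤ) ∣ coord v k - entry r k.val := by
          rw [hy k, ek]
          rcases mul_self_eq_one_iff.1 hqk with hv | hv <;> rw [hv] <;> omega
        exact (show (4 : ℤ) = 2 * 2 by norm_num) ▸ mul_dvd_mul hd he
    have h3 := (dvd_add_left h2).1 h1
    have hb : bitN (Nat.land (Nat.land (selXor planeLo s) m) (Nat.xor M56 (freeMask free))) j.val = 1 := by
      rw [hsj, bitN_two_pow, if_pos rfl]
    rw [bitN_and, bitN_and, e] at hb
    have hS := selBasis_par s j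
    rw [Nat.eq_one_of_mul_eq_one_right (Nat.eq_one_of_mul_eq_one_right hb)] at hS
    rcases Nat.le_one_iff_eq_zero_or_eq_one.mp (bitN_le (negM r) j.val) with b | b <;>
      rw [hy j, e, b] at h3 <;> rw [b] at hne <;>
      rcases mul_self_eq_one_iff.1 hq with hv | hv <;> rw [hv] at h3 hne <;>
      first | (norm_num at hne; done) | (norm_num at h3 hS; omega)

theorem half_eight {v : RuVec} {m : ℕ} (h : Short v m) (hp : pop m = 8) {rows : List ℕ}
    (hrows : ∀ s ∈ rows, Nat.land (selXor planeLo s) m = 0 ∧ selDot m planeLo planeHi s % 2 = 0)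
    (hk0 : killsX m rows 0 = true)
    (hk2 : ∀ j < 56, ∀ k < j, bitN m j = 1 ∨ bitN m k = 1 ∨ killsX m rows (Nat.lor (2 ^ j) (2 ^ k)) = true) :
    False := by
  classical
  let Q : ℕ → Prop := fun t => ∃ ht : t < 56, bitN m t = 0 ∧ coord v ⟨t, ht⟩ % 4 = 2
  obtain ⟨X, hX, hXb⟩ := exists_bits 56 Q
  have hbit : ∀ j : Fin 56, bitN X j.val = 1 ↔ bitN m j.val = 0 ∧ coord v j % 4 = 2 := fun j => by
    rw [hXb j.val j.isLt]; exact ⟨fun ⟨_, a, b⟩ => ⟨a, b⟩, fun ⟨a, b⟩ => ⟨j.isLt, a, b⟩⟩
  have hsq : ∀ j : Fin 56, (8 : ℤ) ∣ coord v j * coord v j - (bitN m j.val : ℤ) - 4 * (bitN X j.val : ℤ) ∧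
      (bitN m j.val : ℤ) + 4 * (bitN X j.val : ℤ) ≤ coord v j * coord v j := fun j => by
    have hpar := h.par j
    rcases Nat.le_one_iff_eq_zero_or_eq_one.mp (bitN_le m j.val) with e | e <;> rw [e] at hpar ⊢
    · by_cases hx : coord v j % 4 = 2
      · rw [(hbit j).2 ⟨e, hx⟩]
        obtain ⟨t, ht⟩ : ∃ t, coord v j = 4 * t + 2 := ⟨coord v j / 4, by omega⟩
        rw [ht]
        refine ⟨⟨2 * (t * t) + 2 * t, by push_cast; ring⟩, ?_⟩
        push_cast
        rcases le_or_gt 0 t with hh | hh <;> nlinarith
      · have : bitN X j.val = 0 := by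
          have := bitN_le X j.val
          by_contra hc
          exact hx ((hbit j).1 (by omega)).2
        rw [this]
        obtain ⟨t, ht⟩ : ∃ t, coord v j = 4 * t := ⟨coord v j / 4, by omega⟩
        rw [ht]
        exact ⟨⟨2 * (t * t), by push_cast; ring⟩, by push_cast; nlinarith [mul_self_nonneg t]⟩
    · have : bitN X j.val = 0 := by
        have := bitN_le X j.val
        by_contra hc
        have := ((hbit j).1 (by omega)).1
        omega
      rw [this]
      obtain ⟨t, ht⟩ : ∃ t, coord v j = 2 * t + 1 := ⟨coord v j / 2, by omega⟩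
      obtain ⟨u, hu⟩ : (2 : ℤ) ∣ t * (t + 1) := by
        rcases Int.even_mul_succ_self t with ⟨u, hu⟩; exact ⟨u, by omega⟩
      rw [ht]
      refine ⟨⟨u, by push_cast; linear_combination 4 * hu⟩, ?_⟩
      push_cast
      rcases le_or_gt 0 t with hh | hh <;> nlinarith
  have hpop : pop X = 0 ∨ pop X = 2 := by
    have h1 : (8 : ℤ) ∣ 16 - 8 - 4 * (pop X : ℤ) := by
      have := Finset.dvd_sum (s := (Finset.univ : Finset (Fin 56))) fun j _ => (hsq j).1
      rwa [Finset.sum_sub_distrib, Finset.sum_sub_distrib, h.norm, ← Nat.cast_sum, ← pop_eq, hp,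
        ← Finset.mul_sum, ← Nat.cast_sum, ← pop_eq] at this
    have h2 : (8 : ℤ) + 4 * (pop X : ℤ) ≤ 16 := by
      have := Finset.sum_le_sum (s := (Finset.univ : Finset (Fin 56))) fun j _ => (hsq j).2
      rwa [Finset.sum_add_distrib, h.norm, ← Nat.cast_sum, ← pop_eq, hp,
        ← Finset.mul_sum, ← Nat.cast_sum, ← pop_eq] at this
    omega
  have hkill : killsX m rows X = true := by
    rcases hpop with h0 | h2
    · have : X = 0 := eq_of_bitN fun t => by
        rw [bitN_zero]
        by_cases ht : t < 56
        · rw [pop_eq] at h0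
          exact (Finset.sum_eq_zero_iff.1 h0) ⟨t, ht⟩ (Finset.mem_univ _)
        · exact bitN_high hX (by omega)
      rw [this]; exact hk0
    · have hc : (Finset.univ.filter fun j : Fin 56 => bitN X j.val = 1).card = 2 := by
        rw [Finset.card_filter, ← h2, pop_eq]
        refine Finset.sum_congr rfl fun j _ => ?_
        have := bitN_le X j.val
        split_ifs <;> omega
      obtain ⟨a, b, hab, heq⟩ := Finset.card_eq_two.1 hc
      have hmem : ∀ j : Fin 56, bitN X j.val = 1 ↔ j = a ∨ j = b := fun j => by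
        have := Finset.ext_iff.1 heq j
        simpa using this
      have key : ∀ a b : Fin 56, b.val < a.val → (∀ j : Fin 56, bitN X j.val = 1 ↔ j = a ∨ j = b) →
          killsX m rows X = true := fun a b hlt hmem => by
        have : X = Nat.lor (2 ^ a.val) (2 ^ b.val) := eq_of_bitN fun t => by
          rw [bitN_or, bitN_two_pow, bitN_two_pow]
          by_cases ht : t < 56
          · have := hmem ⟨t, ht⟩
            have := bitN_le X t
            simp only [Fin.ext_iff] at *
            split_ifs <;> omega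
          · have := bitN_high hX (show 56 ≤ t by omega)
            have := a.isLt
            have := b.isLt
            split_ifs <;> omega
        rw [this]
        rcases hk2 a.val a.isLt b.val hlt with c | c | c
        · have := ((hbit a).1 ((hmem a).2 (Or.inl rfl))).1; omega
        · have := ((hbit b).1 ((hmem b).2 (Or.inr rfl))).1; omega
        · exact c
      rcases Nat.lt_trichotomy a.val b.val with hlt | hlt | hlt
      · exact key b a hlt fun j => (hmem j).trans or_comm
      · exact absurd (Fin.ext hlt) hab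
      · exact key a b hlt hmem
  simp only [killsX, List.any_eq_true, Nat.beq_eq] at hkill
  obtain ⟨s, hs, hodd⟩ := hkill
  obtain ⟨hz, hev⟩ := hrows s hs
  have h1 : (4 : ℤ) ∣ ∑ j : Fin 56, (coord v j * coord (selVec basisData s) j -
      (bitN m j.val : ℤ) * coord (selVec basisData s) j -
      2 * ((bitN X j.val * bitN (selXor planeLo s) j.val : ℕ) : ℤ)) := by
    refine Finset.dvd_sum fun j _ => ?_
    have hpar := h.par j
    rcases Nat.le_one_iff_eq_zero_or_eq_one.mp (bitN_le m j.val) with e | e <;> rw [e] at hpar ⊢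
    · have hS := selBasis_par s j
      obtain ⟨w, hw⟩ := hS
      by_cases hx : coord v j % 4 = 2
      · rw [(hbit j).2 ⟨e, hx⟩]
        obtain ⟨t, ht⟩ : ∃ t, coord v j = 4 * t + 2 := ⟨coord v j / 4, by omega⟩
        exact ⟨t * coord (selVec basisData s) j + w, by rw [ht]; push_cast; linear_combination 2 * hw⟩
      · have : bitN X j.val = 0 := by
          have := bitN_le X j.val
          by_contra hc
          exact hx ((hbit j).1 (by omega)).2
        rw [this]
        obtain ⟨t, ht⟩ : ∃ t, coord v j = 4 * t := ⟨coord v j / 4, by omega⟩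
        exact ⟨t * coord (selVec basisData s) j, by rw [ht]; push_cast; ring⟩
    · have : bitN X j.val = 0 := by
        have := bitN_le X j.val
        by_contra hc
        have := ((hbit j).1 (by omega)).1
        omega
      rw [this]
      simpa using four_dvd_odd_mul (by exact_mod_cast hpar) (sel_even hz j e)
  rw [Finset.sum_sub_distrib, Finset.sum_sub_distrib, ← Finset.mul_sum, ← Nat.cast_sum] at h1
  have hpe : pop (Nat.land X (selXor planeLo s)) = ∑ j : Fin 56, bitN X j.val * bitN (selXor planeLo s) j.val := by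
    rw [pop_eq]; simp only [bitN_and]
  rw [← hpe] at h1
  have h2 := selBasis_dot m s
  have h3 := h.sel s
  omega

theorem gen_spec {k : ℕ} (hk : k < 19) :
    selXor planeLo (codeSel.getD k 0) = codeGen.getD k 0 ∧ (9 ≤ k → parWord (codeGen.getD k 0) = 0) := by
  have h := gen_ok
  simp only [genOK, Bool.and_eq_true] at h
  have e := allRange_spec h.2 k (Nat.zero_le _) (by omega)
  simp only [Bool.and_eq_true, Nat.beq_eq, Bool.or_eq_true, Nat.blt_eq] at e
  exact ⟨e.1, fun h9 => e.2.resolve_left (by omega)⟩

theorem codeGen_len : codeGen.length = 19 := by decide +kernel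

theorem single_pos : ∀ j : Fin 56, ∀ k : Fin 56,
    entry (recOf (16128 + j.val)) k.val = (if k = j then 4 else 0) ∧
      entry (recOf (16184 + j.val)) k.val = (if k = j then -4 else 0) := by decide +kernel

theorem all_even {v : RuVec} (h : Short v 0) : ∃ i < 16240, v = vecOf (recOf i) := by
  classical
  have hev : ∀ j, ∃ u, coord v j = 2 * u := fun j => ⟨coord v j / 2, by
    have := h.par j; rw [bitN_zero] at this; omega⟩
  choose u hu using hev
  have hsum : ∑ j : Fin 56, u j * u j = 4 := by
    have := h.norm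
    have e : ∀ j : Fin 56, coord v j * coord v j = 4 * (u j * u j) := fun j => by rw [hu j]; ring
    rw [Finset.sum_congr rfl fun j _ => e j, ← Finset.mul_sum] at this
    omega
  let U := Finset.univ.filter fun j : Fin 56 => u j % 2 = 1
  have hsq : ∀ j : Fin 56, (4 : ℤ) ∣ u j * u j - (if u j % 2 = 1 then 1 else 0) ∧
      (if u j % 2 = 1 then (1 : ℤ) else 0) ≤ u j * u j := fun j => by
    split_ifs with hj
    · obtain ⟨t, ht⟩ : ∃ t, u j = 2 * t + 1 := ⟨u j / 2, by omega⟩
      rw [ht]
      refine ⟨⟨t * t + t, by ring⟩, ?_⟩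
      rcases le_or_gt 0 t with hh | hh <;> nlinarith
    · obtain ⟨t, ht⟩ : ∃ t, u j = 2 * t := ⟨u j / 2, by omega⟩
      rw [ht]
      exact ⟨⟨t * t, by ring⟩, mul_self_nonneg _⟩
  have hcard : U.card = 0 ∨ U.card = 4 := by
    have e : ∑ j : Fin 56, (if u j % 2 = 1 then (1 : ℤ) else 0) = (U.card : ℤ) := by
      rw [Finset.card_filter]; push_cast; rfl
    have h1 : (4 : ℤ) ∣ 4 - (U.card : ℤ) := by
      have := Finset.dvd_sum (s := (Finset.univ : Finset (Fin 56))) fun j _ => (hsq j).1
      rwa [Finset.sum_sub_distrib, hsum, e] at this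
    have h2 : (U.card : ℤ) ≤ 4 := by
      rw [← e, ← hsum]; exact Finset.sum_le_sum fun j _ => (hsq j).2
    omega
  rcases hcard with h0 | h4
  · have hU : ∀ j, u j % 2 = 0 := fun j => by
      have := Finset.eq_empty_iff_forall_notMem.1 (Finset.card_eq_zero.1 h0) j
      simp only [U, Finset.mem_filter, Finset.mem_univ, true_and] at this
      omega
    choose t ht using fun j => (Int.dvd_of_emod_eq_zero (hU j) : (2 : ℤ) ∣ u j)
    have hts : ∑ j : Fin 56, t j * t j = 1 := by
      have e : ∀ j : Fin 56, u j * u j = 4 * (t j * t j) := fun j => by rw [ht j]; ring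
      rw [Finset.sum_congr rfl fun j _ => e j, ← Finset.mul_sum] at hsum
      omega
    obtain ⟨j, -, hj⟩ := Finset.exists_ne_zero_of_sum_ne_zero (by rw [hts]; norm_num : ∑ j : Fin 56, t j * t j ≠ 0)
    have hj1 : t j * t j = 1 := by
      refine le_antisymm ?_ ?_
      · rw [← hts]; exact Finset.single_le_sum (fun k _ => mul_self_nonneg (t k)) (Finset.mem_univ j)
      · have := mul_self_nonneg (t j); omega
    have hz : ∀ k, k ≠ j → coord v k = 0 := fun k hk => by
      have := hts
      rw [← Finset.add_sum_erase _ _ (Finset.mem_univ j), hj1] at this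
      have := (Finset.sum_eq_zero_iff_of_nonneg fun k _ => mul_self_nonneg (t k)).1 (by omega : _ = (0 : ℤ)) k
        (Finset.mem_erase.2 ⟨hk, Finset.mem_univ k⟩)
      rw [hu k, ht k, mul_self_eq_zero.1 this]; norm_num
    rcases mul_self_eq_one_iff.1 hj1 with hv | hv
    · refine ⟨16128 + j.val, by omega, coord_injective (funext fun k => ?_)⟩
      rw [coord_vecOf, (single_pos j k).1]
      split_ifs with hk
      · rw [hk, hu j, ht j, hv]; norm_num
      · exact hz k hk
    · refine ⟨16184 + j.val, by omega, coord_injective (funext fun k => ?_)⟩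
      rw [coord_vecOf, (single_pos j k).2]
      split_ifs with hk
      · rw [hk, hu j, ht j, hv]; norm_num
      · exact hz k hk
  · exfalso
    obtain ⟨a, b, c, d, hab, hac, had, hbc, hbd, hcd, hU⟩ := Finset.card_eq_four.1 h4
    have hcode : ∀ g ∈ codeGen, (bitN g a.val + bitN g b.val + bitN g c.val + bitN g d.val) % 2 = 0 := by
      intro g hg
      obtain ⟨k, hk', rfl⟩ : ∃ k < 19, codeGen.getD k 0 = g := by
        obtain ⟨k, hk, rfl⟩ := List.getElem_of_mem hg
        exact ⟨k, by rw [← codeGen_len]; exact hk, List.getD_eq_getElem codeGen 0 hk⟩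
      set s := codeSel.getD k 0
      rw [← (gen_spec hk').1]
      have h1 : (2 : ℤ) ∣ ∑ j : Fin 56, (u j * coord (selVec basisData s) j -
          if j ∈ U then (bitN (selXor planeLo s) j.val : ℤ) else 0) := by
        refine Finset.dvd_sum fun j _ => ?_
        obtain ⟨w, hw⟩ := selBasis_par s j
        simp only [U, Finset.mem_filter, Finset.mem_univ, true_and]
        split_ifs with hj
        · obtain ⟨t, ht⟩ : ∃ t, u j = 2 * t + 1 := ⟨u j / 2, by omega⟩
          exact ⟨t * coord (selVec basisData s) j + w, by rw [ht]; linear_combination hw⟩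
        · obtain ⟨t, ht⟩ : ∃ t, u j = 2 * t := ⟨u j / 2, by omega⟩
          exact ⟨t * coord (selVec basisData s) j, by rw [ht]; ring⟩
      have h2 := h.sel s
      have e : ∑ j : Fin 56, coord v j * coord (selVec basisData s) j =
          2 * ∑ j : Fin 56, u j * coord (selVec basisData s) j := by
        rw [Finset.mul_sum]; exact Finset.sum_congr rfl fun j _ => by rw [hu j]; ring
      rw [e] at h2
      rw [Finset.sum_sub_distrib, ← Finset.sum_filter, Finset.filter_univ_mem, hU] at h1
      rw [Finset.sum_insert (by simp [hab, hac, had]), Finset.sum_insert (by simp [hbc, hbd]),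
        Finset.sum_pair hcd] at h1
      simp only [s] at h1 h2 ⊢
      omega
    have hx := synd_xor a.val b.val c.val d.val codeGen hcode
    have hinj := List.inj_on_of_nodup_map (pairAcc_sound pairList 0 pair_ok).1
    have hpair : ∀ p q : Fin 56, p ≠ q → ∃ x ∈ pairList,
        (x = (p.val, q.val) ∨ x = (q.val, p.val)) ∧
        Nat.xor (synd x.1 codeGen) (synd x.2 codeGen) = Nat.xor (synd p.val codeGen) (synd q.val codeGen) := fun p q hpq => by
      have hmem : ∀ j k : ℕ, j < 56 → k < j → (j, k) ∈ pairList := fun j k hj hk => by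
        simp only [pairList, List.mem_flatMap, List.mem_map, List.mem_range]
        exact ⟨j, hj, k, hk, rfl⟩
      rcases Nat.lt_trichotomy p.val q.val with hlt | hlt | hlt
      · exact ⟨_, hmem _ _ q.isLt hlt, Or.inr rfl, Nat.xor_comm _ _⟩
      · exact absurd (Fin.ext hlt) hpq
      · exact ⟨_, hmem _ _ p.isLt hlt, Or.inl rfl, rfl⟩
    obtain ⟨x, hxm, hxe, hxv⟩ := hpair a b hab
    obtain ⟨y, hym, hye, hyv⟩ := hpair c d hcd
    have := hinj hxm hym (by rw [hxv, hyv, hx])
    subst this
    simp only [Prod.ext_iff] at hxe hye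
    simp only [ne_eq, Fin.ext_iff] at hac had hbc hbd
    omega

theorem pair_fold (f : ℕ → ℕ) : ∑ j : Fin 56, f j.val = ∑ k ∈ Finset.range 28, (f (2 * k) + f (2 * k + 1)) := by
  rw [Fin.sum_univ_eq_sum_range f 56]
  simp only [Finset.sum_range_succ, Finset.sum_range_zero]
  ring

theorem pop_split (m : ℕ) :
    pop m = pop (parWord m) + 2 * pop (Nat.land (Nat.land m evenBits) (Nat.xor evenBits (parWord m))) := by
  have he : ∀ k < 28, bitN evenBits (2 * k) = 1 ∧ bitN evenBits (2 * k + 1) = 0 := by decide +kernel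
  rw [pop_eq, pop_eq, pop_eq, pair_fold (fun j => bitN m j), pair_fold (fun j => bitN (parWord m) j),
    pair_fold (fun j => bitN (Nat.land (Nat.land m evenBits) (Nat.xor evenBits (parWord m))) j),
    Finset.mul_sum, ← Finset.sum_add_distrib]
  refine Finset.sum_congr rfl fun k hk => ?_
  obtain ⟨e0, e1⟩ := he k (Finset.mem_range.1 hk)
  have s : ∀ x q, bitN (x >>> 1) q = bitN x (q + 1) := fun x q => by simp [bitN, Nat.testBit_shiftRight, add_comm]
  simp only [parWord, bitN_and, bitN_xor, s, e0, e1]
  rcases Nat.le_one_iff_eq_zero_or_eq_one.mp (bitN_le m (2 * k)) with a | a <;>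
    rcases Nat.le_one_iff_eq_zero_or_eq_one.mp (bitN_le m (2 * k + 1)) with b | b <;> rw [a, b] <;> norm_num

theorem code_ok (c : ℕ) (h : c < 512) : cOK c = true := by
  by_cases h2 : c < 256
  · exact codeA_ok c h2
  · exact codeB_ok c (by omega) h

/-- completeness of the list of minimal vectors -/
theorem short_rec {v : RuVec} (hv : v ∈ ruLattice) (hn : dot v v = 16) : ∃ i < 16240, v = vecOf (recOf i) := by
  obtain ⟨n, hn19, hpar⟩ := exists_par hv
  rw [dot_coord] at hn
  have h : Short v (selXor codeGen n) := ⟨hv, hn, hpar⟩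
  set m := selXor codeGen n with hm
  have hc := code_ok (n % 512) (Nat.mod_lt _ (by norm_num))
  simp only [cOK, force_eq, Bool.or_eq_true, Nat.blt_eq] at hc
  have hd : ∀ s, parWord (selXor (codeGen.drop 9) s) = 0 := parWord_sel _ fun g hg => by
    obtain ⟨k, hk, rfl⟩ := List.getElem_of_mem hg
    rw [List.getElem_drop, ← List.getD_eq_getElem _ 0]
    simp only [List.length_drop, codeGen_len] at hk
    exact (gen_spec (by omega)).2 (by omega)
  have hsplit : m = Nat.xor (selXor (codeGen.take 9) (n % 512)) (selXor (codeGen.drop 9) (n / 512)) := by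
    have hl : (codeGen.take 9).length = 9 := by simp [codeGen_len]
    have e1 := selXor_low (codeGen.take 9) n
    have e2 := selXor_append (codeGen.take 9) (codeGen.drop 9) n
    rw [hl] at e1 e2
    rw [List.take_append_drop] at e2
    rw [hm, e2, ← e1]
    rfl
  have hp : parWord m = parWord (selXor (codeGen.take 9) (n % 512)) := by
    rw [hsplit, parWord_xor, hd]; exact Nat.xor_zero _
  rw [← hp] at hc
  have h16 := h.pop_le
  have hsp := pop_split m
  rcases hc with hc | hc
  · omega
  have hleaf := dRec_sound _ _ hc (n / 512)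
  rw [← hsplit, Nat.zero_add, Nat.one_mul, List.length_drop, codeGen_len,
    Nat.mod_eq_of_lt (show n / 512 < 2 ^ (19 - 9) by rw [Nat.div_lt_iff_lt_mul (by norm_num)]; omega)] at hleaf
  simp only [leafOK, Bool.or_eq_true, Bool.not_eq_true', Bool.and_eq_true, Nat.beq_eq] at hleaf
  have hclr := clr_sound ((16 - pop (parWord m)) / 2)
    (Nat.land (Nat.land m evenBits) (Nat.xor evenBits (parWord m)))
    (Nat.lt_of_le_of_lt (Nat.and_le_left.trans Nat.and_le_right) (by decide +kernel)) (by omega)
  rcases hleaf with (hl | hl) | hl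
  · rw [hclr] at hl; exact absurd hl (by decide)
  · have : n = 0 := by omega
    subst this
    rw [hm, selXor_zero] at h
    exact all_even h
  · cases he : findCls (n / 512) ((classes.getD (n % 512 / 16) []).getD (n % 512 % 16) []) with
    | none => rw [he] at hl; simp at hl
    | some e =>
      rw [he] at hl
      obtain ⟨d', k, hs, rows, free, memb⟩ := e
      match k with
      | 0 =>
        simp only [clsOK, Bool.and_eq_true, Nat.beq_eq, List.any_eq_true] at hl
        obtain ⟨hp16, s, -, hs0, hs2⟩ := hl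
        exact absurd (full_zero h hp16 hs0 hs2) not_false
      | 1 =>
        simp only [clsOK, Bool.and_eq_true, Nat.beq_eq] at hl
        exact full_one h hl.1.1 hl.1.2 hl.2
      | 2 =>
        simp only [clsOK, Bool.and_eq_true, Nat.beq_eq, List.all_eq_true, List.mem_range, Bool.or_eq_true] at hl
        obtain ⟨⟨⟨hp8, hrows⟩, hk0⟩, hk2⟩ := hl
        refine absurd (half_eight h hp8 hrows hk0 fun j hj k hk => ?_) not_false
        rcases hk2 j hj k hk with (c | c) | c
        · exact Or.inl ((testBit_iff m j).1 c)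
        · exact Or.inr (Or.inl ((testBit_iff m k).1 c))
        · exact Or.inr (Or.inr c)
      | k + 3 => simp [clsOK] at hl

end H91.Ru
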