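/- The stabiliser chain: order and generation of the automorphism group. -/
import Mathlib
import Cfsg.Agent.H91.Ru.Shape
import Cfsg.Agent.H91.Ru.ChkOrder

set_option autoImplicit false
set_option maxRecDepth 100000

noncomputable section

namespace H91.Ru

open Cfsg.Spor H62.Ru
open H93.Coset (allRange allRange_spec pathEnd walk_eq force_eq)

theorem aut_zero (φ : ↥fourRu) : φ.1 0 = 0 := by
  have := φ.2.1 0 0
  rw [add_zero] at this
  simpa using this

theorem aut_dot (φ : ↥fourRu) (v w : ruLattice) :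
    dot (φ.1 v : RuVec) (φ.1 w : RuVec) = dot (v : RuVec) (w : RuVec) := by
  have h := φ.2.2.2 (v + w)
  rw [φ.2.1 v w] at h
  have hv := φ.2.2.2 v
  have hw := φ.2.2.2 w
  simp only [ruNorm_eq_dot, AddSubgroup.coe_add, dot_add] at h hv hw
  rw [dot_comm (_ + _) (φ.1 v : RuVec), dot_comm (_ + _) (φ.1 w : RuVec), dot_comm (_ + _) (v : RuVec),
    dot_comm (_ + _) (w : RuVec), dot_add, dot_add, dot_add, dot_add,
    dot_comm (φ.1 w : RuVec) (φ.1 v : RuVec), dot_comm (w : RuVec) (v : RuVec)] at h
  omega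

theorem aut_gI (φ : ↥fourRu) (v : ruLattice) : φ.1 (ruI v) = ruI (φ.1 v) := φ.2.2.1 v

theorem vec_norm {i : ℕ} (h : i < 16240) : dot (vec i : RuVec) (vec i : RuVec) = 16 := by
  rw [vec_val h]; exact dot_vecOf_self (val_rec h)

theorem vec_inj {i j : ℕ} (hi : i < 16240) (hj : j < 16240) (h : vec i = vec j) : i = j := by
  refine vec_ext hi hj ?_
  rw [← vec_val hi, ← vec_val hj, h]

theorem exists_img (φ : ↥fourRu) {i : ℕ} (hi : i < 16240) : ∃ j < 16240, φ.1 (vec i) = vec j := by
  obtain ⟨j, hj, e⟩ := short_rec (φ.1 (vec i)).2 ((aut_dot φ _ _).trans (vec_norm hi))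
  exact ⟨j, hj, Subtype.ext (e.trans (vec_val hj).symm)⟩

theorem span_spec {t : ℕ} (ht : t < 28) : spanI.getD t 0 < 16240 ∧ recOf (spanI.getD t 0) = spanRec.getD t 0 ∧
    recOf (permT 2 (spanI.getD t 0)) = spanTurn.getD t 0 ∧ (t < 6 → spanI.getD t 0 = baseI.getD t 0) := by
  have e := allRange_spec span_ok t (Nat.zero_le _) (by omega)
  simp only [Bool.and_eq_true, Bool.or_eq_true, Nat.beq_eq, Nat.blt_eq, Nat.ble_eq] at e
  exact ⟨e.1.2, e.1.1.1, e.1.1.2, fun h6 => e.2.resolve_left (by omega)⟩

theorem base_lt {t : ℕ} (ht : t < 6) : baseI.getD t 0 < 16240 := by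
  have := span_spec (show t < 28 by omega)
  rw [← this.2.2.2 ht]; exact this.1

/-- spanning vector number `t` -/
def sv (t : ℕ) : ruLattice := vec (spanI.getD t 0)

theorem vec_turn {i : ℕ} (h : i < 16240) : vec (permT 2 i) = ruI (vec i) := (genF_vec 2 h).symm

theorem dotC_lt {r s : ℕ} (hr : Val r) (hs : Val s) : dotC r s < 8192 := by
  have h := dotC_dot hr hs
  have := abs_le.1 (abs_dot_le (dot_vecOf_self hr) (dot_vecOf_self hs))
  omega

theorem hC_dot {i t : ℕ} (hi : i < 16240) (ht : t < 28) :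
    (hC (recOf i) t : ℤ) = 4096 + dot (vec i : RuVec) (sv t : RuVec) +
      8192 * (4096 + dot (vec i : RuVec) (ruI (sv t) : RuVec)) := by
  obtain ⟨h1, h2, h3, -⟩ := span_spec ht
  rw [hC, ← h2, ← h3, sv, ← vec_turn h1, vec_val hi, vec_val h1, vec_val (permT_lt 2 h1)]
  push_cast
  rw [dotC_dot (val_rec hi) (val_rec h1), dotC_dot (val_rec hi) (val_rec (permT_lt 2 h1))]

theorem hT_eq {k t : ℕ} (hk : k < 28) : hT k t = hC (recOf (spanI.getD k 0)) t := by
  rw [hT, (span_spec hk).2.1]

theorem hC_fixed {φ : ↥fourRu} {i j t : ℕ} (hi : i < 16240) (hj : j < 16240) (ht : t < 28)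
    (hm : φ.1 (vec i) = vec j) (hf : φ.1 (sv t) = sv t) : hC (recOf j) t = hC (recOf i) t := by
  have e : (hC (recOf j) t : ℤ) = hC (recOf i) t := by
    rw [hC_dot hj ht, hC_dot hi ht, ← hm]
    conv_lhs => rw [← hf, ← aut_gI, aut_dot, aut_dot]
  exact_mod_cast e

theorem prefEq_of (r k : ℕ) : ∀ len t : ℕ, (∀ u, t ≤ u → u < t + len → hC r u = hT k u) → prefEq r k t len = true
  | 0, _, _ => rfl
  | len + 1, t, h => by
    rw [prefEq, prefEq_of r k len (t + 1) fun u h1 h2 => h u (by omega) (by omega), h t le_rfl (by omega)]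
    simp

theorem baseI_sv {t : ℕ} (ht : t < 6) : vec (baseI.getD t 0) = sv t := by
  rw [sv, (span_spec (show t < 28 by omega)).2.2.2 ht]

/-- pointwise stabiliser of the first base vectors -/
def fix (k : ℕ) : Subgroup ↥fourRu where
  carrier := {φ | ∀ t < k, φ.1 (sv t) = sv t}
  one_mem' := fun _ _ => rfl
  mul_mem' := fun {a b} ha hb t ht => by
    show a.1 (b.1 (sv t)) = sv t
    rw [hb t ht, ha t ht]
  inv_mem' := fun {a} ha t ht => by
    show a.1⁻¹ (sv t) = sv t
    conv_lhs => rw [← ha t ht]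
    exact Equiv.symm_apply_apply _ _

theorem scan_spec {j : ℕ} (hj : j < 16240) {k : ℕ} (hk1 : 1 ≤ k) (hk : k < 28)
    (h : ∀ t < min k 6, hC (recOf j) t = hT k t) :
    (k < 6 → Nat.testBit (levelMasks.getD k 0) j = true) ∧ (6 ≤ k → j = spanI.getD k 0) := by
  have e := scanChk_ok j hj
  simp only [scanChk, force_eq, Bool.and_eq_true] at e
  have e' := allRange_spec e.1.1 k hk1 (by omega)
  have h0 := h 0 (by omega)
  constructor <;> intro hk6
  · have hp := prefEq_of (recOf j) k (k - 1) 1 fun u h1 h2 => h u (by omega)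
    rw [h0, Nat.beq_refl, show Nat.blt k 6 = true by rw [Nat.blt_eq]; exact hk6, hp] at e'
    simpa using e'
  · have hp := prefEq_of (recOf j) k 5 1 fun u h1 h2 => h u (by omega)
    rw [h0, Nat.beq_refl, show Nat.blt k 6 = false from Bool.eq_false_iff.2 (by rw [ne_eq, Nat.blt_eq]; omega), hp] at e'
    simpa using e'

theorem img_in_mask {φ : ↥fourRu} {k j : ℕ} (hk : k < 6) (hφ : φ ∈ fix k) (hj : j < 16240)
    (hm : φ.1 (sv k) = vec j) : Nat.testBit (levelMasks.getD k 0) j = true := by
  rcases Nat.eq_zero_or_pos k with rfl | hk1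
  · exact allRange_spec mask0_full j (Nat.zero_le _) (by omega)
  refine (scan_spec hj hk1 (by omega) fun t ht => ?_).1 hk
  rw [hT_eq (by omega)]
  exact hC_fixed (span_spec (by omega)).1 hj (by omega) hm (hφ t (by omega))

theorem fix_span {φ : ↥fourRu} (hφ : φ ∈ fix 6) : φ ∈ fix 28 := by
  intro t ht
  by_cases h6 : t < 6
  · exact hφ t h6
  obtain ⟨j, hj, e⟩ := exists_img φ (span_spec ht).1
  have := (scan_spec hj (by omega) ht fun u hu => by
    rw [hT_eq ht]
    exact hC_fixed (span_spec ht).1 hj (by omega) e (hφ u (by omega))).2 (by omega)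
  show φ.1 (sv t) = sv t
  rw [sv, e, this]

/-- an element fixing the six base vectors is trivial -/
theorem fix_six {φ : ↥fourRu} (hφ : φ ∈ fix 6) : φ = 1 := by
  have h := fix_span hφ
  let f : ruLattice →+ ruLattice := AddMonoidHom.mk' φ.1 φ.2.1
  have hsing : ∀ j : Fin 56, 16128 + j.val < 16240 := fun j => by omega
  have he : ∀ j : Fin 56, φ.1 (vec (16128 + j.val)) = vec (16128 + j.val) := fun j => by
    let S : ruLattice := ∑ t : Fin 28, ((spanCoef.getD j.val []).getD t.val 0 • sv t.val +
      (spanCoef.getD j.val []).getD (28 + t.val) 0 • ruI (sv t.val))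
    have hS : S = (spanDen : ℤ) • vec (16128 + j.val) := by
      apply Subtype.ext
      refine coord_injective (funext fun k => ?_)
      have hz : ∀ (z : ℤ) (x : RuVec), coord (z • x) k = z * coord x k := fun z x => by
        unfold coord; split_ifs <;> simp
      have hs : ∀ (s : Finset (Fin 28)) (g : Fin 28 → RuVec), coord (∑ t ∈ s, g t) k = ∑ t ∈ s, coord (g t) k := fun s g => by
        induction s using Finset.induction_on with
        | empty => simp [coord_zero]
        | insert a s ha ih => rw [Finset.sum_insert ha, Finset.sum_insert ha, coord_add, ih]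
      simp only [S, AddSubgroup.val_finsetSum, AddSubgroup.coe_add, AddSubgroup.coe_zsmul, hs, coord_add, hz]
      rw [vec_val (hsing j), coord_vecOf, (single_pos j k).1]
      have hc := comb_span j k
      have e2 : ∀ (g : ℕ → ℤ), (List.range 28).foldr (fun t acc => g t + acc) 0 = ∑ t : Fin 28, g t.val := fun g => by
        rw [Fin.sum_univ_eq_sum_range g 28]
        simp only [Finset.sum_range_succ, Finset.sum_range_zero]
        simp [List.range_succ]
        ring
      rw [combS, e2] at hc
      refine Eq.trans ?_ (hc.trans (by split_ifs <;> ring))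
      refine Finset.sum_congr rfl fun t _ => ?_
      obtain ⟨h1, h2, h3, -⟩ := span_spec t.isLt
      rw [sv, ← vec_turn h1, vec_val h1, vec_val (permT_lt 2 h1), coord_vecOf, coord_vecOf, h2, h3, entry, entry]
      ring
    have hf : f S = S := by
      simp only [S, map_sum, map_add, map_zsmul]
      refine Finset.sum_congr rfl fun t _ => ?_
      show _ • φ.1 (sv t.val) + _ • φ.1 (ruI (sv t.val)) = _
      rw [aut_gI, h t.val t.isLt]
    rw [hS, map_zsmul] at hf
    have hden : (spanDen : ℤ) ≠ 0 := by decide +kernel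
    have := congrArg (fun x : ruLattice => coord (x : RuVec)) hf
    apply Subtype.ext
    refine coord_injective (funext fun k => ?_)
    have e := congrFun this k
    simp only [AddSubgroup.coe_zsmul] at e
    have hz : ∀ (z : ℤ) (x : RuVec), coord (z • x) k = z * coord x k := fun z x => by
      unfold coord; split_ifs <;> simp
    rw [hz, hz] at e
    exact mul_left_cancel₀ hden e
  apply Subtype.ext
  apply Equiv.ext
  intro v
  show φ.1 v = v
  let S : ruLattice := ∑ j : Fin 56, coord (v : RuVec) j • vec (16128 + j.val)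
  have hS : S = (4 : ℤ) • v := by
    apply Subtype.ext
    refine coord_injective (funext fun k => ?_)
    have hz : ∀ (z : ℤ) (x : RuVec), coord (z • x) k = z * coord x k := fun z x => by
      unfold coord; split_ifs <;> simp
    have hs : ∀ (s : Finset (Fin 56)) (g : Fin 56 → RuVec), coord (∑ t ∈ s, g t) k = ∑ t ∈ s, coord (g t) k := fun s g => by
      induction s using Finset.induction_on with
      | empty => simp [coord_zero]
      | insert a s ha ih => rw [Finset.sum_insert ha, Finset.sum_insert ha, coord_add, ih]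
    simp only [S, AddSubgroup.val_finsetSum, AddSubgroup.coe_zsmul, hs, hz]
    rw [Finset.sum_congr rfl fun j _ => show coord (v : RuVec) j * coord (vec (16128 + j.val) : RuVec) k =
      if k = j then 4 * coord (v : RuVec) j else 0 by
        rw [vec_val (hsing j), coord_vecOf, (single_pos j k).1]; split_ifs <;> ring]
    simp
  have hf : f S = S := by
    simp only [S, map_sum, map_zsmul]
    exact Finset.sum_congr rfl fun j _ => by show _ • φ.1 _ = _; rw [he j]
  rw [hS, map_zsmul] at hf
  apply Subtype.ext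
  refine coord_injective (funext fun k => ?_)
  have hz : ∀ (z : ℤ) (x : RuVec), coord (z • x) k = z * coord x k := fun z x => by
    unfold coord; split_ifs <;> simp
  have e := congrArg (fun x : ruLattice => coord (x : RuVec) k) hf
  simp only [AddSubgroup.coe_zsmul, hz] at e
  have e' : coord (f v : RuVec) k = coord (φ.1 v : RuVec) k := rfl
  omega

/-! ### transitivity on each level -/

theorem genList_spec {k : ℕ} (hk : k < 6) :
    orbOK (genList k) (baseI.getD k 0) (fillList k) (levelMasks.getD k 0) = true ∧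
      ∀ w ∈ genList k, ∀ t < k, pathEnd permT w (baseI.getD t 0) = baseI.getD t 0 := by
  have h : levelOK k = true := by
    match k, hk with
    | 0, _ => exact level0_ok
    | 1, _ => exact level1_ok
    | 2, _ => exact level2_ok
    | 3, _ => exact level3_ok
    | 4, _ => exact level4_ok
    | 5, _ => exact level5_ok
  simp only [levelOK, Bool.and_eq_true, List.all_eq_true, List.mem_range, walk_eq, Nat.beq_eq] at h
  exact ⟨h.1.1, fun w hw t ht => (h.2 w hw).2 t ht⟩

theorem wordF_mem {H : Subgroup ↥fourRu} (hH : ∀ g, genF g ∈ H) : ∀ w : List ℕ, wordF w ∈ H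
  | [] => one_mem _
  | g :: w => mul_mem (wordF_mem hH w) (hH g)

theorem wordF_fix {k : ℕ} (hk : k ≤ 6) {w : List ℕ}
    (hw : ∀ t < k, pathEnd permT w (baseI.getD t 0) = baseI.getD t 0) : wordF w ∈ fix k := fun t ht => by
  rw [← baseI_sv (show t < 6 by omega), wordF_vec w (base_lt (by omega)), hw t ht]

theorem orbit_level {H : Subgroup ↥fourRu} (hH : ∀ g, genF g ∈ H) {k : ℕ} (hk : k < 6) :
    ∀ j, Nat.testBit (levelMasks.getD k 0) j = true →
      j < 16240 ∧ ∃ h ∈ H, h ∈ fix k ∧ h.1 (sv k) = vec j := by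
  obtain ⟨ho, hw⟩ := genList_spec hk
  refine orbOK_sound ho (fun j => j < 16240 ∧ ∃ h ∈ H, h ∈ fix k ∧ h.1 (sv k) = vec j)
    ⟨base_lt hk, 1, one_mem _, one_mem _, (baseI_sv hk).symm⟩ ?_
  rintro i hi p ⟨hp, h, h1, h2, h3⟩
  have hm : (genList k).getD i [] ∈ genList k := by rw [List.getD_eq_getElem _ _ hi]; exact List.getElem_mem hi
  refine ⟨pathEnd_lt _ hp, wordF ((genList k).getD i []) * h, mul_mem (wordF_mem hH _) h1,
    mul_mem (wordF_fix (by omega) (hw _ hm)) h2, ?_⟩
  show (wordF _).1 (h.1 (sv k)) = _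
  rw [h3, wordF_vec _ hp]

theorem exists_agree {H : Subgroup ↥fourRu} (hH : ∀ g, genF g ∈ H) (φ : ↥fourRu) :
    ∀ k ≤ 6, ∃ h ∈ H, h⁻¹ * φ ∈ fix k := by
  intro k
  induction k with
  | zero => exact fun _ => ⟨1, one_mem _, fun t ht => absurd ht (by omega)⟩
  | succ k ih =>
    intro hk
    obtain ⟨h, h1, h2⟩ := ih (by omega)
    obtain ⟨j, hj, e⟩ := exists_img (h⁻¹ * φ) (span_spec (show k < 28 by omega)).1
    obtain ⟨-, g, g1, g2, g3⟩ := orbit_level hH (by omega) j (img_in_mask (by omega) h2 hj e)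
    refine ⟨h * g, mul_mem h1 g1, fun t ht => ?_⟩
    have hfix : g⁻¹ * (h⁻¹ * φ) = (h * g)⁻¹ * φ := by group
    rcases Nat.lt_succ_iff_lt_or_eq.mp ht with htk | rfl
    · rw [← hfix]
      exact mul_mem (inv_mem g2) h2 t htk
    · rw [← hfix]
      show g.1⁻¹ ((h⁻¹ * φ).1 (sv t)) = sv t
      have e' : (h⁻¹ * φ).1 (sv t) = vec j := e
      rw [e', ← g3]
      exact Equiv.symm_apply_apply _ _

/-- a subgroup containing the generators is everything -/
theorem eq_top_of_gens {H : Subgroup ↥fourRu} (hH : ∀ g, genF g ∈ H) : H = ⊤ := by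
  refine eq_top_iff.2 fun φ _ => ?_
  obtain ⟨h, h1, h2⟩ := exists_agree hH φ 6 le_rfl
  rwa [inv_mul_eq_one.1 (fix_six h2)] at h1

theorem fix_zero : fix 0 = ⊤ := eq_top_iff.2 fun φ _ t ht => absurd ht (by omega)

theorem fix_six_bot : fix 6 = ⊥ := eq_bot_iff.2 fun φ h => fix_six h

theorem maskCount_eq (m : ℕ) :
    maskCount m = ((Finset.range 16240).filter fun i => Nat.testBit m i = true).card := by
  have : ∀ n, Nat.rec (motive := fun _ => ℕ) 0 (fun i c => bif Nat.testBit m i then c + 1 else c) n =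
      ((Finset.range n).filter fun i => Nat.testBit m i = true).card := by
    intro n
    induction n with
    | zero => simp
    | succ n ih =>
      rw [Finset.range_add_one, Finset.filter_insert]
      show (bif Nat.testBit m n then _ + 1 else _) = _
      cases hb : Nat.testBit m n
      · rw [cond_false, if_neg (by decide), ih]
      · rw [cond_true, if_pos rfl, Finset.card_insert_of_notMem (by simp), ih]
  exact this 16240

theorem orbit_fix {k : ℕ} (hk : k < 6) :
    MulAction.orbit (fix k) (sv k) =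
      (vec '' (((Finset.range 16240).filter fun i => Nat.testBit (levelMasks.getD k 0) i = true) : Set ℕ)) := by
  ext x
  simp only [MulAction.mem_orbit_iff, Set.mem_image, Finset.mem_coe, Finset.mem_filter, Finset.mem_range]
  constructor
  · rintro ⟨⟨φ, hφ⟩, rfl⟩
    obtain ⟨j, hj, e⟩ := exists_img φ (span_spec (show k < 28 by omega)).1
    exact ⟨j, ⟨hj, img_in_mask hk hφ hj e⟩, e.symm⟩
  · rintro ⟨j, ⟨hj, hb⟩, rfl⟩
    obtain ⟨-, h, -, h2, h3⟩ := orbit_level (H := ⊤) (fun _ => trivial) hk j hb
    exact ⟨⟨h, h2⟩, h3⟩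

theorem stab_fix {k : ℕ} :
    MulAction.stabilizer (fix k) (sv k) = (fix (k + 1)).subgroupOf (fix k) := by
  ext ⟨φ, hφ⟩
  rw [MulAction.mem_stabilizer_iff, Subgroup.mem_subgroupOf]
  show φ.1 (sv k) = sv k ↔ ∀ t < k + 1, φ.1 (sv t) = sv t
  refine ⟨fun h t ht => ?_, fun h => h k (by omega)⟩
  rcases Nat.lt_succ_iff_lt_or_eq.mp ht with htk | rfl
  · exact hφ t htk
  · exact h

theorem card_fix {k : ℕ} (hk : k < 6) :
    Nat.card (fix k) = maskCount (levelMasks.getD k 0) * Nat.card (fix (k + 1)) := by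
  have h1 := MulAction.index_stabilizer (fix k) (sv k)
  have h2 := (MulAction.stabilizer (fix k) (sv k)).index_mul_card
  have hle : fix (k + 1) ≤ fix k := fun φ h t ht => h t (by omega)
  have h3 : Nat.card (MulAction.stabilizer (fix k) (sv k)) = Nat.card (fix (k + 1)) := by
    rw [stab_fix]
    exact Nat.card_congr (Subgroup.subgroupOfEquivOfLe hle).toEquiv
  rw [← h2, h1, h3]
  congr 1
  rw [orbit_fix hk, Set.InjOn.ncard_image (fun a ha b hb h => by
    simp only [Finset.mem_coe, Finset.mem_filter, Finset.mem_range] at ha hb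
    exact vec_inj ha.1 hb.1 h), Set.ncard_coe_finset, maskCount_eq]

theorem card_fourRu : Nat.card ↥fourRu = 583704576000 := by
  have h : Nat.card (fix 0) = 583704576000 := by
    rw [card_fix (by norm_num), card_fix (by norm_num), card_fix (by norm_num), card_fix (by norm_num),
      card_fix (by norm_num), card_fix (by norm_num), fix_six_bot, Subgroup.card_bot,
      count0, count1, count2, count3, count4, count5]
  rwa [fix_zero, Subgroup.card_top] at h

instance finiteFour : Finite ↥fourRu := Nat.finite_of_card_ne_zero (by rw [card_fourRu]; norm_num)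

end H91.Ru
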