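/- The centre and the simplicity of the quotient. -/
import Mathlib
import Cfsg.Agent.H91.Ru.Chain

set_option autoImplicit false
set_option maxRecDepth 100000

noncomputable section

namespace H91.Ru

open Cfsg.Spor H62.Ru
open H93.Coset (allRange allRange_spec pathEnd walk_eq force_eq)

theorem sI_central (φ : ↥fourRu) : φ * sI = sI * φ := Subtype.ext (Equiv.ext fun v => aut_gI φ v)

theorem sI_mem_center : sI ∈ Subgroup.center ↥fourRu := Subgroup.mem_center_iff.2 sI_central

theorem sIpow_apply : ∀ (c : ℕ) {i : ℕ}, i < 16240 → (sI ^ c).1 (vec i) = vec (pathEnd permT (List.replicate c 2) i)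
  | 0, _, _ => rfl
  | c + 1, i, h => by
    rw [pow_succ]
    show (sI ^ c).1 (sI.1 (vec i)) = _
    rw [show sI.1 (vec i) = vec (permT 2 i) from (vec_turn h).symm, sIpow_apply c (permT_lt 2 h)]
    rfl

theorem sI_four : sI ^ 4 = 1 := Subtype.ext (Equiv.ext fun v => ruI_four v)

theorem dot_gI_left (v w : RuVec) : dot (gI • v) w = -dot v (gI • w) := by
  simp only [dot, ← Finset.sum_neg_distrib]
  exact Finset.sum_congr rfl fun p _ => by simp [gI] <;> ring

theorem dot_gI_both (v w : RuVec) : dot (gI • v) (gI • w) = dot v w :=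
  Finset.sum_congr rfl fun p _ => by simp [gI]; ring

/-- Hermitian product with the first base vector, as a pair -/
def prod0 (v : ruLattice) : ℤ × ℤ := (dot (v : RuVec) (sv 0 : RuVec), dot (v : RuVec) (ruI (sv 0) : RuVec))

theorem prod0_turn (v : ruLattice) : prod0 (ruI v) = (-(prod0 v).2, (prod0 v).1) :=
  Prod.ext (dot_gI_left _ _) (dot_gI_both _ _)

theorem prod0_bound {i : ℕ} (hi : i < 16240) : |(prod0 (vec i)).1| ≤ 16 ∧ |(prod0 (vec i)).2| ≤ 16 := by
  obtain ⟨h1, -⟩ := span_spec (show 0 < 28 by norm_num)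
  refine ⟨abs_dot_le (vec_norm hi) (vec_norm h1), abs_dot_le (vec_norm hi) ?_⟩
  rw [show (ruI (sv 0) : RuVec) = gI • (sv 0 : RuVec) from rfl, dot_gI_both]
  exact vec_norm h1

theorem hC_prod0 {i : ℕ} (hi : i < 16240) {a b : ℤ} (ha : |a| ≤ 16) (hb : |b| ≤ 16) :
    hC (recOf i) 0 = hCode a b ↔ prod0 (vec i) = (a, b) := by
  have h := hC_dot hi (show 0 < 28 by norm_num)
  obtain ⟨b1, b2⟩ := prod0_bound hi
  rw [abs_le] at ha hb b1 b2
  simp only [prod0, Prod.ext_iff, hCode] at b1 b2 ⊢
  constructor <;> intro e <;> omega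

theorem zeroH_code : zeroH = hCode 0 0 := by decide +kernel

theorem scalar_prod : ∀ c < 4, hC (recOf (pathEnd permT (List.replicate c 2) (spanI.getD 0 0))) 0 ≠ zeroH := by
  decide +kernel

theorem phase_code : hT 1 0 = hCode 4 0 ∨ hT 1 0 = hCode (-4) 0 ∨ hT 1 0 = hCode 0 4 ∨ hT 1 0 = hCode 0 (-4) := by
  decide +kernel

theorem class_cases {i : ℕ} (hi : i < 16240) : Nat.testBit orthMask i = true ∧ prod0 (vec i) = (0, 0) ∨
    (∃ c < 4, i = pathEnd permT (List.replicate c 2) (spanI.getD 0 0)) ∨
    (prod0 (vec i) = (4, 0) ∨ prod0 (vec i) = (-4, 0) ∨ prod0 (vec i) = (0, 4) ∨ prod0 (vec i) = (0, -4)) := by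
  have e := scanChk_ok i hi
  simp only [scanChk, force_eq, Bool.and_eq_true, Bool.or_eq_true, Bool.not_eq_true', Nat.beq_eq,
    List.any_cons, List.any_nil, Bool.or_false] at e
  obtain ⟨⟨-, e1⟩, e2⟩ := e
  by_cases h0 : hC (recOf i) 0 = zeroH
  · rw [show Nat.beq (hC (recOf i) 0) zeroH = true from Nat.beq_eq.mpr h0] at e1
    left
    exact ⟨by simpa using e1, (hC_prod0 hi (by norm_num) (by norm_num)).1 (h0.trans zeroH_code)⟩
  right
  rcases e2 with ((((e | e) | e) | e) | e) | e
  · exact absurd e h0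
  · exact Or.inr (Or.inl ((hC_prod0 hi (by norm_num) (by norm_num)).1 e))
  · exact Or.inr (Or.inr (Or.inl ((hC_prod0 hi (by norm_num) (by norm_num)).1 e)))
  · exact Or.inr (Or.inr (Or.inr (Or.inl ((hC_prod0 hi (by norm_num) (by norm_num)).1 e))))
  · exact Or.inr (Or.inr (Or.inr (Or.inr ((hC_prod0 hi (by norm_num) (by norm_num)).1 e))))
  · rcases e with e | e | e | e
    · exact Or.inl ⟨0, by norm_num, e⟩
    · exact Or.inl ⟨1, by norm_num, e⟩
    · exact Or.inl ⟨2, by norm_num, e⟩
    · exact Or.inl ⟨3, by norm_num, e⟩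

theorem word_inj (w : List ℕ) {i j : ℕ} (hi : i < 16240) (hj : j < 16240)
    (h : pathEnd permT w i = pathEnd permT w j) : i = j := by
  refine vec_inj hi hj ((wordF w).1.injective ?_)
  rw [wordF_vec w hi, wordF_vec w hj, h]

/-- a point fixed by the words is the root of its orbit -/
theorem fixed_root {ws : List (List ℕ)} {root mask : ℕ} {cert : List (List (ℕ × ℕ × ℕ))}
    (ho : orbOK ws root cert mask = true) (hroot : root < 16240) {j : ℕ} (hj : j < 16240)
    (hfix : ∀ k < ws.length, pathEnd permT (ws.getD k []) j = j) (hb : Nat.testBit mask j = true) : root = j := by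
  by_contra hne
  exact (orbOK_sound ho (fun p => p < 16240 ∧ p ≠ j) ⟨hroot, hne⟩
    (fun k hk p hp => ⟨pathEnd_lt _ hp.1, fun h => hp.2 (word_inj _ hp.1 hj (h.trans (hfix k hk).symm))⟩) j hb).2 rfl

theorem orthRoot_lt : orthRoot < 16240 := by decide +kernel

theorem genList_one : genList 1 = genW1 := rfl

theorem center_eq : Subgroup.center ↥fourRu = Subgroup.zpowers sI := by
  refine le_antisymm (fun z hz => ?_) (Subgroup.zpowers_le.2 sI_mem_center)
  rw [Subgroup.mem_center_iff] at hz
  have hb0 := (span_spec (show 0 < 28 by norm_num)).1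
  obtain ⟨j, hj, e⟩ := exists_img z hb0
  have hfixj : ∀ k < genW1.length, pathEnd permT (genW1.getD k []) j = j := fun k hk => by
    have hm : genW1.getD k [] ∈ genList 1 := by
      rw [genList_one, List.getD_eq_getElem _ _ hk]; exact List.getElem_mem hk
    have hw : wordF (genW1.getD k []) ∈ fix 1 :=
      wordF_fix (by norm_num) ((genList_spec (show 1 < 6 by norm_num)).2 _ hm)
    refine vec_inj (pathEnd_lt _ hj) hj ?_
    rw [← wordF_vec _ hj, ← e]
    show (wordF (genW1.getD k []) * z).1 _ = _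
    rw [hz]
    exact congrArg z.1 (hw 0 (by norm_num))
  have hsc : ∃ c < 4, j = pathEnd permT (List.replicate c 2) (spanI.getD 0 0) := by
    rcases class_cases hj with ⟨hb, -⟩ | hc | hp
    · exfalso
      have hr := fixed_root orth_ok orthRoot_lt hj hfixj hb
      rcases orth_moved with h | h
      · exact h (by rw [hr]; exact hfixj 0 (Nat.lt_of_lt_of_le (by norm_num) genW1_len))
      · exact h (by rw [hr]; exact hfixj 1 (Nat.lt_of_lt_of_le (by norm_num) genW1_len))
    · exact hc
    · exfalso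
      -- turn to the phase of the second level
      have key : ∀ c : ℕ, ∀ a b : ℤ, prod0 (vec (pathEnd permT (List.replicate c 2) j)) = (a, b) →
          |a| ≤ 16 → |b| ≤ 16 → hT 1 0 = hCode a b → False := fun c a b hab ha hb hT1 => by
        set j' := pathEnd permT (List.replicate c 2) j with hj'
        have hlt : j' < 16240 := pathEnd_lt _ hj
        have hfix' : ∀ k < genW1.length, pathEnd permT (genW1.getD k []) j' = j' := fun k hk => by
          refine vec_inj (pathEnd_lt _ hlt) hlt ?_
          rw [← wordF_vec _ hlt, hj', ← sIpow_apply c hj]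
          show (wordF (genW1.getD k []) * sI ^ c).1 _ = _
          rw [(Subgroup.mem_center_iff.1 (Subgroup.pow_mem _ sI_mem_center c)) (wordF (genW1.getD k []))]
          show (sI ^ c).1 ((wordF (genW1.getD k [])).1 (vec j)) = _
          rw [wordF_vec _ hj, hfixj k hk]
        have hmask := (scan_spec hlt le_rfl (by norm_num) fun t ht => by
          have : t = 0 := by omega
          subst this
          rw [hT1]; exact (hC_prod0 hlt ha hb).2 hab).1 (by norm_num)
        have ho := (genList_spec (show 1 < 6 by norm_num)).1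
        rw [genList_one] at ho
        have hr := fixed_root ho (base_lt (by norm_num)) hlt hfix' hmask
        rcases phase_moved with h | h
        · exact h (by rw [hr]; exact hfix' 0 (Nat.lt_of_lt_of_le (by norm_num) genW1_len))
        · exact h (by rw [hr]; exact hfix' 1 (Nat.lt_of_lt_of_le (by norm_num) genW1_len))
      have t1 : ∀ {i : ℕ}, i < 16240 → prod0 (vec (permT 2 i)) = (-(prod0 (vec i)).2, (prod0 (vec i)).1) := fun hi => by
        rw [vec_turn hi, prod0_turn]
      have p0 : prod0 (vec (pathEnd permT (List.replicate 0 2) j)) = prod0 (vec j) := rfl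
      have p1 : prod0 (vec (pathEnd permT (List.replicate 1 2) j)) = (-(prod0 (vec j)).2, (prod0 (vec j)).1) := t1 hj
      have p2 : prod0 (vec (pathEnd permT (List.replicate 2 2) j)) = (-(prod0 (vec j)).1, -(prod0 (vec j)).2) := by
        show prod0 (vec (permT 2 (permT 2 j))) = _
        rw [t1 (permT_lt 2 hj), t1 hj]
      have p3 : prod0 (vec (pathEnd permT (List.replicate 3 2) j)) = ((prod0 (vec j)).2, -(prod0 (vec j)).1) := by
        show prod0 (vec (permT 2 (permT 2 (permT 2 j)))) = _
        rw [t1 (permT_lt 2 (permT_lt 2 hj)), t1 (permT_lt 2 hj), t1 hj, neg_neg]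
      rcases hp with hp | hp | hp | hp <;> rw [hp] at p0 p1 p2 p3 <;> norm_num at p0 p1 p2 p3 <;>
        rcases phase_code with h | h | h | h <;>
        first
          | exact key 0 _ _ p0 (by norm_num) (by norm_num) h
          | exact key 1 _ _ p1 (by norm_num) (by norm_num) h
          | exact key 2 _ _ p2 (by norm_num) (by norm_num) h
          | exact key 3 _ _ p3 (by norm_num) (by norm_num) h
  obtain ⟨c, -, hc⟩ := hsc
  have hzc : (sI ^ c)⁻¹ * z = 1 := by
    have hcz : (sI ^ c)⁻¹ * z ∈ Subgroup.center ↥fourRu :=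
      mul_mem (inv_mem (Subgroup.pow_mem _ sI_mem_center c)) (Subgroup.mem_center_iff.2 hz)
    have h0 : ((sI ^ c)⁻¹ * z).1 (sv 0) = sv 0 := by
      show (sI ^ c).1⁻¹ (z.1 (sv 0)) = sv 0
      rw [show z.1 (sv 0) = vec j from e, hc, ← sIpow_apply c hb0]
      exact Equiv.symm_apply_apply _ _
    refine fix_six fun t ht => ?_
    obtain ⟨-, h, -, -, h3⟩ := orbit_level (H := ⊤) (fun _ => trivial) (show 0 < 6 by norm_num) (spanI.getD t 0)
      (allRange_spec mask0_full _ (Nat.zero_le _) (by have := (span_spec (show t < 28 by omega)).1; omega))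
    have := congrArg (fun f : ↥fourRu => f.1 (sv 0)) (Subgroup.mem_center_iff.1 hcz h)
    simp only [Subgroup.coe_mul, Equiv.Perm.mul_apply] at this
    show ((sI ^ c)⁻¹ * z).1 (sv t) = sv t
    rw [show sv t = h.1 (sv 0) from h3.symm]
    refine this.symm.trans ?_
    exact congrArg h.1 h0
  rw [inv_mul_eq_one] at hzc
  exact hzc ▸ Subgroup.pow_mem _ (Subgroup.mem_zpowers sI) c

theorem sI_order : orderOf sI = 4 := by
  have h : ∀ n, 0 < n → n < 4 → sI ^ n ≠ 1 := fun n h0 h4 hn => by
    have hb0 := (span_spec (show 0 < 28 by norm_num)).1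
    have e : pathEnd permT (List.replicate n 2) (spanI.getD 0 0) = spanI.getD 0 0 := by
      refine vec_inj (pathEnd_lt _ hb0) hb0 ?_
      rw [← sIpow_apply n hb0, hn]; rfl
    have hne : ∀ c < 4, 0 < c → pathEnd permT (List.replicate c 2) (spanI.getD 0 0) ≠ spanI.getD 0 0 := by
      decide +kernel
    exact hne n h4 h0 e
  exact orderOf_eq_iff (by norm_num) |>.2 ⟨sI_four, fun n h4 h0 => h n h0 h4⟩

theorem card_center : Nat.card (Subgroup.center ↥fourRu) = 4 := by
  rw [center_eq, Nat.card_zpowers, sI_order]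

theorem card_Ru : Nat.card Ru = 145926144000 := by
  have h := Subgroup.card_eq_card_quotient_mul_card_subgroup (Subgroup.center ↥fourRu)
  rw [card_fourRu, card_center] at h
  show Nat.card (↥fourRu ⧸ Subgroup.center ↥fourRu) = _
  omega

theorem card_fix_one : Nat.card (fix 1) = 35942400 := by
  have h : Nat.card (fix 0) = maskCount (levelMasks.getD 0 0) * Nat.card (fix 1) := card_fix (by norm_num)
  rw [fix_zero, Subgroup.card_top, card_fourRu, count0] at h
  omega

/-! ### simplicity -/

theorem witness_B1 : ∃ i < 16240, ∃ k < 16240, hC (recOf i) 0 ≠ zeroH ∧ hC (recOf k) 0 ≠ zeroH ∧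
    dotC (recOf i) (recOf k) = 4096 ∧ dotC (recOf i) (recOf (permT 2 k)) = 4096 := by
  refine ⟨3, by norm_num, 34, by norm_num, ?_⟩
  decide +kernel

theorem witness_B2 : ∃ i < 16240, ∃ k < 16240, hC (recOf i) 0 = zeroH ∧ hC (recOf k) 0 = zeroH ∧
    ¬ (dotC (recOf i) (recOf k) = 4096 ∧ dotC (recOf i) (recOf (permT 2 k)) = 4096) ∧
    ∀ c < 4, pathEnd permT (List.replicate c 2) i ≠ k := by
  refine ⟨0, by norm_num, 1, by norm_num, ?_⟩
  decide +kernel

theorem simple : IsSimpleGroup Ru := by
  have hcard := card_Ru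
  haveI : Finite Ru := Nat.finite_of_card_ne_zero (by rw [hcard]; norm_num)
  haveI : Nontrivial Ru := Finite.one_lt_card_iff_nontrivial.1 (by rw [hcard]; norm_num)
  refine ⟨fun N hN => ?_⟩
  let π : ↥fourRu →* Ru := QuotientGroup.mk' _
  let M : Subgroup ↥fourRu := N.comap π
  have hMn : M.Normal := hN.comap π
  have hZM : Subgroup.center ↥fourRu ≤ M := fun z hz => by
    show π z ∈ N
    rw [show π z = 1 from (QuotientGroup.eq_one_iff z).2 hz]; exact one_mem N
  have back : ∀ x : Ru, ∃ g, π g = x := QuotientGroup.mk'_surjective _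
  have hNM : M = ⊤ → N = ⊤ := fun h => eq_top_iff.2 fun x _ => by
    obtain ⟨g, rfl⟩ := back x
    exact (show g ∈ M from h ▸ Subgroup.mem_top g)
  have hNb : M ≤ Subgroup.center ↥fourRu → N = ⊥ := fun h => eq_bot_iff.2 fun x hx => by
    obtain ⟨g, rfl⟩ := back x
    exact Subgroup.mem_bot.2 ((QuotientGroup.eq_one_iff g).2 (h hx))
  -- points in the orbit of the first base vector
  let B : ℕ → Prop := fun i => ∃ m ∈ M, m.1 (sv 0) = vec i
  have hb0 := (span_spec (show 0 < 28 by norm_num)).1
  have hscB : ∀ c, B (pathEnd permT (List.replicate c 2) (spanI.getD 0 0)) := fun c =>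
    ⟨sI ^ c, hZM (Subgroup.pow_mem _ sI_mem_center c), sIpow_apply c hb0⟩
  have hturnB : ∀ c i, i < 16240 → B i → B (pathEnd permT (List.replicate c 2) i) := fun c i hi ⟨m, hm, e⟩ =>
    ⟨sI ^ c * m, mul_mem (hZM (Subgroup.pow_mem _ sI_mem_center c)) hm,
      (congrArg (sI ^ c).1 e).trans (sIpow_apply c hi)⟩
  have hKB : ∀ w ∈ genW1, ∀ i < 16240, B i → B (pathEnd permT w i) := fun w hw i hi ⟨m, hm, e⟩ => by
    have hfw : wordF w ∈ fix 1 := wordF_fix (by norm_num) ((genList_spec (show 1 < 6 by norm_num)).2 w hw)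
    refine ⟨wordF w * m * (wordF w)⁻¹, hMn.conj_mem m hm _, ?_⟩
    show (wordF w).1 (m.1 ((wordF w)⁻¹.1 (sv 0))) = _
    rw [show (wordF w)⁻¹.1 (sv 0) = sv 0 from (inv_mem hfw : (wordF w)⁻¹ ∈ fix 1) 0 (by norm_num), e, wordF_vec w hi]
  have hget : ∀ k < genW1.length, genW1.getD k [] ∈ genW1 := fun k hk => by
    rw [List.getD_eq_getElem _ _ hk]; exact List.getElem_mem hk
  have orbB : ∀ {root mask : ℕ} {cert : List (List (ℕ × ℕ × ℕ))}, orbOK genW1 root cert mask = true →
      root < 16240 → ∀ j, j < 16240 → Nat.testBit mask j = true → (B j ↔ B root) := by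
    intro root mask cert ho hroot j hj hb
    refine ((orbOK_sound ho (fun p => p < 16240 ∧ (B p ↔ B root)) ⟨hroot, Iff.rfl⟩ (fun k hk p hp => ?_)) j hb).2
    refine ⟨pathEnd_lt _ hp.1, Iff.trans ⟨fun h => ?_, hKB _ (hget k hk) p hp.1⟩ hp.2⟩
    -- membership is invariant under the stabiliser
    obtain ⟨m, hm, e⟩ := h
    have hfw : wordF (genW1.getD k []) ∈ fix 1 :=
      wordF_fix (by norm_num) ((genList_spec (show 1 < 6 by norm_num)).2 _ (hget k hk))
    refine ⟨(wordF (genW1.getD k []))⁻¹ * m * ((wordF (genW1.getD k []))⁻¹)⁻¹, hMn.conj_mem m hm _, ?_⟩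
    rw [inv_inv]
    show (wordF (genW1.getD k []))⁻¹.1 (m.1 ((wordF (genW1.getD k [])).1 (sv 0))) = _
    rw [hfw 0 (by norm_num), e, ← wordF_vec _ hp.1]
    exact Equiv.symm_apply_apply _ _
  have hB0 : ∀ i < 16240, prod0 (vec i) = (0, 0) → (B i ↔ B orthRoot) := fun i hi h => by
    rcases class_cases hi with ⟨hb, -⟩ | ⟨c, hc4, hc⟩ | hp
    · exact orbB orth_ok orthRoot_lt i hi hb
    · exfalso
      exact scalar_prod c hc4 (hc ▸ ((hC_prod0 hi (by norm_num) (by norm_num)).2 h).trans zeroH_code.symm)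
    · rw [h] at hp; simp at hp
  have hB1 : ∀ i < 16240, prod0 (vec i) ≠ (0, 0) → (∀ c < 4, i ≠ pathEnd permT (List.replicate c 2) (spanI.getD 0 0)) →
      (B i ↔ B (baseI.getD 1 0)) := fun i hi h hns => by
    rcases class_cases hi with ⟨-, h'⟩ | ⟨c, hc4, hc⟩ | hp
    · exact absurd h' h
    · exact absurd hc (hns c hc4)
    have key : ∀ c ≤ 3, ∀ a b : ℤ, prod0 (vec (pathEnd permT (List.replicate c 2) i)) = (a, b) →
        |a| ≤ 16 → |b| ≤ 16 → hT 1 0 = hCode a b → (B i ↔ B (baseI.getD 1 0)) := fun c hc a b hab ha hb hT1 => by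
      set i' := pathEnd permT (List.replicate c 2) i with hi'
      have hlt : i' < 16240 := pathEnd_lt _ hi
      have hmask := (scan_spec hlt le_rfl (by norm_num) fun t ht => by
        have : t = 0 := by omega
        subst this
        rw [hT1]; exact (hC_prod0 hlt ha hb).2 hab).1 (by norm_num)
      have ho := (genList_spec (show 1 < 6 by norm_num)).1
      rw [genList_one] at ho
      refine Iff.trans ⟨hturnB c i hi, fun h' => ?_⟩ (orbB ho (base_lt (by norm_num)) i' hlt hmask)
      obtain ⟨m, hm, e⟩ := h'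
      refine ⟨(sI ^ c)⁻¹ * m, mul_mem (inv_mem (hZM (Subgroup.pow_mem _ sI_mem_center c))) hm, ?_⟩
      show (sI ^ c).1⁻¹ (m.1 (sv 0)) = vec i
      rw [e, ← sIpow_apply c hi]
      exact Equiv.symm_apply_apply _ _
    have t1 : ∀ {x : ℕ}, x < 16240 → prod0 (vec (permT 2 x)) = (-(prod0 (vec x)).2, (prod0 (vec x)).1) := fun hx => by
      rw [vec_turn hx, prod0_turn]
    have p0 : prod0 (vec (pathEnd permT (List.replicate 0 2) i)) = prod0 (vec i) := rfl
    have p1 : prod0 (vec (pathEnd permT (List.replicate 1 2) i)) = (-(prod0 (vec i)).2, (prod0 (vec i)).1) := t1 hi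
    have p2 : prod0 (vec (pathEnd permT (List.replicate 2 2) i)) = (-(prod0 (vec i)).1, -(prod0 (vec i)).2) := by
      show prod0 (vec (permT 2 (permT 2 i))) = _
      rw [t1 (permT_lt 2 hi), t1 hi]
    have p3 : prod0 (vec (pathEnd permT (List.replicate 3 2) i)) = ((prod0 (vec i)).2, -(prod0 (vec i)).1) := by
      show prod0 (vec (permT 2 (permT 2 (permT 2 i)))) = _
      rw [t1 (permT_lt 2 (permT_lt 2 hi)), t1 (permT_lt 2 hi), t1 hi, neg_neg]
    rcases hp with hp | hp | hp | hp <;> rw [hp] at p0 p1 p2 p3 <;> norm_num at p0 p1 p2 p3 <;>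
      rcases phase_code with hh | hh | hh | hh <;>
      first
        | exact key 0 (by norm_num) _ _ p0 (by norm_num) (by norm_num) hh
        | exact key 1 (by norm_num) _ _ p1 (by norm_num) (by norm_num) hh
        | exact key 2 (by norm_num) _ _ p2 (by norm_num) (by norm_num) hh
        | exact key 3 (by norm_num) _ _ p3 (by norm_num) (by norm_num) hh
  -- orthogonality is preserved
  have orth_iff : ∀ (φ : ↥fourRu) (v w : ruLattice),
      (dot (φ.1 v : RuVec) (φ.1 w : RuVec) = 0 ∧ dot (φ.1 v : RuVec) (ruI (φ.1 w) : RuVec) = 0) ↔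
      (dot (v : RuVec) (w : RuVec) = 0 ∧ dot (v : RuVec) (ruI w : RuVec) = 0) := fun φ v w => by
    rw [← aut_gI, aut_dot, aut_dot]
  have hzero : ∀ {i : ℕ}, i < 16240 → (hC (recOf i) 0 = zeroH ↔ prod0 (vec i) = (0, 0)) := fun hi => by
    rw [zeroH_code]; exact hC_prod0 hi (by norm_num) (by norm_num)
  have hdz : ∀ {i k : ℕ}, i < 16240 → k < 16240 →
      ((dotC (recOf i) (recOf k) = 4096 ∧ dotC (recOf i) (recOf (permT 2 k)) = 4096) ↔
        (dot (vec i : RuVec) (vec k : RuVec) = 0 ∧ dot (vec i : RuVec) (ruI (vec k) : RuVec) = 0)) := fun {i k} hi hk => by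
    rw [← vec_turn hk, vec_val hi, vec_val hk, vec_val (permT_lt 2 hk)]
    have e1 := dotC_dot (val_rec hi) (val_rec hk)
    have e2 := dotC_dot (val_rec hi) (val_rec (permT_lt 2 hk))
    constructor <;> rintro ⟨a, b⟩ <;> constructor <;> omega
  by_cases hBo : B orthRoot
  · -- the orbit contains the orthogonal class
    by_cases hBp : B (baseI.getD 1 0)
    · -- transitive: all of the group
      right
      refine hNM ?_
      have hall : ∀ i < 16240, B i := fun i hi => by
        by_cases hs : ∃ c < 4, i = pathEnd permT (List.replicate c 2) (spanI.getD 0 0)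
        · obtain ⟨c, -, rfl⟩ := hs; exact hscB c
        by_cases h0 : prod0 (vec i) = (0, 0)
        · exact (hB0 i hi h0).2 hBo
        · exact (hB1 i hi h0 fun c hc he => hs ⟨c, hc, he⟩).2 hBp
      have hdvd : Nat.card (↥fourRu ⧸ M) ∣ 35942400 := by
        rw [← card_fix_one]
        refine Subgroup.card_dvd_of_surjective ((QuotientGroup.mk' M).comp (fix 1).subtype) fun x => ?_
        obtain ⟨g, rfl⟩ := QuotientGroup.mk'_surjective M x
        obtain ⟨j, hj, e⟩ := exists_img g hb0
        obtain ⟨m, hm, em⟩ := hall j hj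
        refine ⟨⟨m⁻¹ * g, fun t ht => ?_⟩, ?_⟩
        · obtain rfl : t = 0 := by omega
          show m.1⁻¹ (g.1 (sv 0)) = sv 0
          rw [show g.1 (sv 0) = vec j from e, ← em]
          exact Equiv.symm_apply_apply _ _
        · show QuotientGroup.mk' M (m⁻¹ * g) = QuotientGroup.mk' M g
          rw [map_mul, map_inv, (QuotientGroup.eq_one_iff m).2 hm |> fun h => (show QuotientGroup.mk' M m = 1 from h), inv_one, one_mul]
      have h29 : ∀ w : List ℕ, scal29 w = true → wordF w ∈ M := by
        intro w hw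
        simp only [scal29, List.any_eq_true, List.all_eq_true, List.mem_range, Nat.beq_eq] at hw
        obtain ⟨c, -, hc⟩ := hw
        have wordF_append : ∀ a b : List ℕ, wordF (a ++ b) = wordF b * wordF a := fun a b => by
          induction a with
          | nil => exact (mul_one _).symm
          | cons g a ih => show wordF (a ++ b) * genF g = _; rw [ih, mul_assoc]; rfl
        have hpow : ∀ n, wordF (powW w n) = wordF w ^ n := fun n => by
          induction n with
          | zero => rfl
          | succ n ih => rw [powW, wordF_append, ih, ← pow_succ']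
        have he : (sI ^ c)⁻¹ * wordF w ^ 29 = 1 := fix_six fun t ht => by
          show (sI ^ c).1⁻¹ ((wordF w ^ 29).1 (sv t)) = sv t
          rw [← hpow, ← baseI_sv ht, wordF_vec _ (base_lt ht), hc t ht, ← sIpow_apply c (base_lt ht)]
          exact Equiv.symm_apply_apply _ _
        have hm29 : wordF w ^ 29 ∈ M := by
          rw [← inv_mul_eq_one.1 he]; exact hZM (Subgroup.pow_mem _ sI_mem_center c)
        have h1 : ((QuotientGroup.mk' M) (wordF w)) ^ 29 = 1 := by
          rw [← map_pow]; exact (QuotientGroup.eq_one_iff _).2 hm29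
        have h2 := pow_card_eq_one' (x := (QuotientGroup.mk' M) (wordF w))
        have h3 : ((QuotientGroup.mk' M) (wordF w)) ^ Nat.gcd 29 (Nat.card (↥fourRu ⧸ M)) = 1 := pow_gcd_eq_one.2 ⟨h1, h2⟩
        have hg : Nat.gcd 29 (Nat.card (↥fourRu ⧸ M)) = 1 :=
          Nat.Coprime.coprime_dvd_right hdvd (by norm_num : Nat.Coprime 29 35942400)
        rw [hg, pow_one] at h3
        exact (QuotientGroup.eq_one_iff _).1 h3
      refine eq_top_of_gens fun g => ?_
      have step : ∀ (w : List ℕ) (g : ℕ), wordF w ∈ M → wordF (w ++ [g]) ∈ M → genF g ∈ M := fun w g h1 h2 => by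
        have e : wordF (w ++ [g]) = genF g * wordF w := by
          clear h1 h2
          induction w with
          | nil => show 1 * genF g = genF g * 1; rw [one_mul, mul_one]
          | cons a w ih => show wordF (w ++ [g]) * genF a = _; rw [ih, mul_assoc]; rfl
        rw [e] at h2
        simpa using mul_mem h2 (inv_mem h1)
      match g with
      | 0 => exact step _ 0 (h29 _ scal_x0.1) (h29 _ scal_x0.2)
      | 1 => exact step _ 1 (h29 _ scal_x1.1) (h29 _ scal_x1.2)
      | _ + 2 => exact hZM sI_mem_center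
    · -- scalars and the orthogonal class is no block
      exfalso
      obtain ⟨i, hi, k, hk, h1, h2, h3, h4⟩ := witness_B2
      obtain ⟨mi, hmi, ei⟩ := (hB0 i hi ((hzero hi).1 h1)).2 hBo
      obtain ⟨mk', hmk, ek⟩ := (hB0 k hk ((hzero hk).1 h2)).2 hBo
      obtain ⟨j, hj, ej⟩ := exists_img mi⁻¹ hk
      have hBj : B j := ⟨mi⁻¹ * mk', mul_mem (inv_mem hmi) hmk, by
        show (mi⁻¹).1 (mk'.1 (sv 0)) = vec j
        rw [ek, ej]⟩
      have hnz : prod0 (vec j) ≠ (0, 0) := fun h => by
        apply h3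
        rw [hdz hi hk]
        simp only [prod0, Prod.ext_iff] at h
        have h' := (orth_iff mi (sv 0) (vec j)).2 ⟨by rw [dot_comm]; exact h.1, ?_⟩
        · have ek2 : mi.1 (vec j) = vec k := by rw [← ej]; exact Equiv.apply_symm_apply _ _
          rwa [ei, ek2] at h'
        · rw [dot_comm, show (ruI (vec j) : RuVec) = gI • (vec j : RuVec) from rfl, dot_gI_left]
          exact neg_eq_zero.2 h.2
      by_cases hs : ∃ c < 4, j = pathEnd permT (List.replicate c 2) (spanI.getD 0 0)
      · obtain ⟨c, hc4, rfl⟩ := hs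
        refine h4 c hc4 (vec_inj (pathEnd_lt _ hi) hk ?_)
        rw [← sIpow_apply c hi, ← ei]
        show (sI ^ c * mi).1 (sv 0) = _
        rw [← (Subgroup.mem_center_iff.1 (Subgroup.pow_mem _ sI_mem_center c)) mi]
        show mi.1 ((sI ^ c).1 (sv 0)) = _
        rw [show (sI ^ c).1 (sv 0) = _ from sIpow_apply c hb0, ← ej]
        exact Equiv.apply_symm_apply _ _
      · exact hBp ((hB1 j hj hnz fun c hc he => hs ⟨c, hc, he⟩).1 hBj)
  · by_cases hBp : B (baseI.getD 1 0)
    · -- scalars and the phase classes is no block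
      exfalso
      obtain ⟨i, hi, k, hk, h1, h2, h3, h4⟩ := witness_B1
      have hin : ∀ x < 16240, hC (recOf x) 0 ≠ zeroH → B x := fun x hx hne => by
        by_cases hs : ∃ c < 4, x = pathEnd permT (List.replicate c 2) (spanI.getD 0 0)
        · obtain ⟨c, -, rfl⟩ := hs; exact hscB c
        · exact (hB1 x hx (fun h => hne ((hzero hx).2 h)) fun c hc he => hs ⟨c, hc, he⟩).2 hBp
      obtain ⟨mi, hmi, ei⟩ := hin i hi h1
      obtain ⟨mk', hmk, ek⟩ := hin k hk h2
      obtain ⟨j, hj, ej⟩ := exists_img mi⁻¹ hk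
      have hBj : B j := ⟨mi⁻¹ * mk', mul_mem (inv_mem hmi) hmk, by
        show (mi⁻¹).1 (mk'.1 (sv 0)) = vec j
        rw [ek, ej]⟩
      have hzj : prod0 (vec j) = (0, 0) := by
        have h' := (hdz hi hk).1 ⟨h3, h4⟩
        have ek2 : mi.1 (vec j) = vec k := by rw [← ej]; exact Equiv.apply_symm_apply _ _
        rw [← ei, ← ek2, orth_iff] at h'
        refine Prod.ext ((dot_comm _ _).trans h'.1) ?_
        show dot (vec j : RuVec) (ruI (sv 0) : RuVec) = 0
        rw [dot_comm, show (ruI (sv 0) : RuVec) = gI • (sv 0 : RuVec) from rfl, dot_gI_left]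
        exact neg_eq_zero.2 h'.2
      exact hBo ((hB0 j hj hzj).1 hBj)
    · -- every line is fixed
      left
      refine hNb fun m hm => ?_
      have hline : ∀ i < 16240, ∃ c < 4, m.1 (vec i) = vec (pathEnd permT (List.replicate c 2) i) := fun i hi => by
        obtain ⟨-, g, -, -, hg⟩ := orbit_level (H := ⊤) (fun _ => trivial) (show 0 < 6 by norm_num) i
          (allRange_spec mask0_full i (Nat.zero_le _) (by omega))
        obtain ⟨j, hj, e⟩ := exists_img (g⁻¹ * m * g⁻¹⁻¹) hb0
        have hBj : B j := ⟨_, hMn.conj_mem m hm g⁻¹, e⟩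
        have hs : ∃ c < 4, j = pathEnd permT (List.replicate c 2) (spanI.getD 0 0) := by
          by_contra hs
          by_cases h0 : prod0 (vec j) = (0, 0)
          · exact hBo ((hB0 j hj h0).1 hBj)
          · exact hBp ((hB1 j hj h0 fun c hc he => hs ⟨c, hc, he⟩).1 hBj)
        obtain ⟨c, hc4, rfl⟩ := hs
        refine ⟨c, hc4, ?_⟩
        rw [← sIpow_apply c hi, ← hg]
        show _ = (sI ^ c * g).1 (sv 0)
        rw [← (Subgroup.mem_center_iff.1 (Subgroup.pow_mem _ sI_mem_center c)) g]
        show _ = g.1 ((sI ^ c).1 (sv 0))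
        rw [show (sI ^ c).1 (sv 0) = _ from sIpow_apply c hb0, ← e, inv_inv]
        exact (Equiv.apply_symm_apply g.1 _).symm
      obtain ⟨c0, -, e0⟩ := hline _ hb0
      let z : ↥fourRu := (sI ^ c0)⁻¹ * m
      have hz0 : z.1 (sv 0) = sv 0 := by
        show (sI ^ c0).1⁻¹ (m.1 (sv 0)) = sv 0
        rw [show m.1 (sv 0) = _ from e0, ← sIpow_apply c0 hb0]
        exact Equiv.symm_apply_apply _ _
      have hzline : ∀ i < 16240, ∃ n : ℕ, z.1 (vec i) = (sI ^ n).1 (vec i) := fun i hi => by
        obtain ⟨c, -, e⟩ := hline i hi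
        refine ⟨3 * c0 + c, ?_⟩
        have hinv : (sI ^ c0)⁻¹ = sI ^ (3 * c0) := by
          rw [inv_eq_iff_mul_eq_one, ← pow_add, show c0 + 3 * c0 = 4 * c0 by ring, pow_mul, sI_four, one_pow]
        show (sI ^ c0)⁻¹.1 (m.1 (vec i)) = _
        rw [hinv, e, ← sIpow_apply c hi, pow_add]
        rfl
      have heq : ∀ {u v : ruLattice} (n : ℕ), z.1 u = u → z.1 v = (sI ^ n).1 v →
          (dot (v : RuVec) (u : RuVec) ≠ 0 ∨ dot (v : RuVec) (ruI u : RuVec) ≠ 0) → z.1 v = v := by
        intro u v n hu hv hne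
        rw [hv]
        have a1 := aut_dot z v u
        have a2 := aut_dot z v (ruI u)
        rw [aut_gI, hu, hv] at a2
        rw [hu, hv] at a1
        have hn : n % 4 = 0 ∨ n % 4 = 1 ∨ n % 4 = 2 ∨ n % 4 = 3 := by omega
        have hpm : sI ^ n = sI ^ (n % 4) := by
          conv_lhs => rw [← Nat.mod_add_div n 4, pow_add, pow_mul, sI_four, one_pow, mul_one]
        rw [hpm] at a1 a2 ⊢
        set A := dot (v : RuVec) (u : RuVec) with hA
        set C := dot (v : RuVec) (ruI u : RuVec) with hC'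
        have g1 : ∀ w : ruLattice, dot (ruI w : RuVec) (u : RuVec) = -dot (w : RuVec) (ruI u : RuVec) := fun w => dot_gI_left _ _
        have g2 : ∀ w : ruLattice, dot (ruI w : RuVec) (ruI u : RuVec) = dot (w : RuVec) (u : RuVec) := fun w => dot_gI_both _ _
        rcases hn with h | h | h | h <;> rw [h] at a1 a2 ⊢
        · rfl
        · rw [show (sI ^ 1).1 v = ruI v from rfl] at a1 a2
          rw [g1] at a1; rw [g2] at a2
          rcases hne with h' | h' <;> exfalso <;> omega
        · rw [show (sI ^ 2).1 v = ruI (ruI v) from rfl] at a1 a2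
          rw [g1, g2] at a1; rw [g2, g1] at a2
          rcases hne with h' | h' <;> exfalso <;> omega
        · rw [show (sI ^ 3).1 v = ruI (ruI (ruI v)) from rfl] at a1 a2
          rw [g1, g2, g1] at a1; rw [g2, g1, g2] at a2
          rcases hne with h' | h' <;> exfalso <;> omega
      have hz : z = 1 := fix_six fun t ht => by
        have hw := allRange_spec conn_ok t (Nat.zero_le _) (by omega)
        simp only [Bool.and_eq_true, Nat.blt_eq, Bool.not_eq_true'] at hw
        obtain ⟨⟨hwlt, hw0⟩, hwt⟩ := hw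
        have hnz : ∀ u, u < 28 → Nat.beq (hC (recOf (connI.getD t 0)) u) zeroH = false →
            dot (vec (connI.getD t 0) : RuVec) (sv u : RuVec) ≠ 0 ∨ dot (vec (connI.getD t 0) : RuVec) (ruI (sv u) : RuVec) ≠ 0 := by
          intro u hu hb
          by_contra hcon
          simp only [not_or, not_not] at hcon
          have h := hC_dot hwlt hu
          rw [hcon.1, hcon.2] at h
          have : hC (recOf (connI.getD t 0)) u = zeroH := by rw [zeroH]; omega
          rw [this, Nat.beq_refl] at hb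
          exact Bool.false_ne_true hb.symm
        obtain ⟨n, hn⟩ := hzline _ hwlt
        have hfw := heq n hz0 hn (hnz 0 (by norm_num) hw0)
        obtain ⟨n', hn'⟩ := hzline _ (span_spec (show t < 28 by omega)).1
        refine heq n' hfw hn' ?_
        have := hnz t (by omega) hwt
        rw [show dot (sv t : RuVec) (vec (connI.getD t 0) : RuVec) = dot (vec (connI.getD t 0) : RuVec) (sv t : RuVec) from dot_comm _ _]
        rcases this with h' | h'
        · exact Or.inl h'
        · right
          rw [dot_comm, show (ruI (vec (connI.getD t 0)) : RuVec) = gI • (vec (connI.getD t 0) : RuVec) from rfl, dot_gI_left]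
          exact neg_ne_zero.2 h'
      rw [inv_mul_eq_one] at hz
      exact hz ▸ Subgroup.pow_mem _ sI_mem_center c0

end H91.Ru
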