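/- A faithful coding of the automorphisms by 28 × 28 matrices over the field of five elements. -/
import Mathlib
import Cfsg.Agent.H91.Ru.Quot
import Cfsg.Agent.H91.Ru.Mat28
import Cfsg.Agent.H97.SchurCert

set_option autoImplicit false
set_option maxRecDepth 100000

noncomputable section

namespace H91.Ru

open Cfsg.Spor H62.Ru
open H91.M28 (Mat28 enc flat cm)

/-- the frame vector number `s` -/
def fr (s : ℕ) : ℕ := 16128 + 2 * s

theorem fr_lt (s : Fin 28) : fr s.val < 16240 := by unfold fr; omega

theorem fr_entry : ∀ s : Fin 28, ∀ j : Fin 56,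
    entry (recOf (fr s.val)) j.val = if j.val = 2 * s.val then 4 else 0 := by decide +kernel

def reI (u : Fin 28) : Fin 56 := ⟨2 * u.val, by omega⟩
def imI (u : Fin 28) : Fin 56 := ⟨2 * u.val + 1, by omega⟩

/-- coordinates modulo five, the unit going to two -/
def z5 (v : RuVec) (u : Fin 28) : ZMod 5 := (coord v (reI u) : ZMod 5) + 2 * (coord v (imI u) : ZMod 5)

theorem coord_gI (v : RuVec) (j : Fin 56) :
    coord (gI • v) j = if j.val % 2 = 0 then -coord v ⟨(j.val + 1) % 56, Nat.mod_lt _ (by norm_num)⟩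
      else coord v ⟨j.val - 1, by omega⟩ := by
  have hj := j.isLt
  unfold coord
  split_ifs with h h1 h2 h3
  · exfalso; change (j.val + 1) % 56 % 2 = 0 at h1; omega
  · have e1 : (j.val + 1) % 56 / 8 = j.val / 8 := by omega
    have e2 : (j.val + 1) % 56 / 2 % 4 = j.val / 2 % 4 := by omega
    simp [gI, e1, e2]
  · have e1 : (j.val - 1) / 8 = j.val / 8 := by omega
    have e2 : (j.val - 1) / 2 % 4 = j.val / 2 % 4 := by omega
    simp [gI, e1, e2]
  · exfalso; change ¬ (j.val - 1) % 2 = 0 at h2; omega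

theorem coord_zsmul (n : ℤ) (v : RuVec) (j : Fin 56) : coord (n • v) j = n * coord v j := by
  unfold coord; split_ifs <;> simp

/-- the frame vector as a lattice element -/
def frV (s : Fin 28) : ruLattice := vec (fr s.val)

theorem coord_frV (s : Fin 28) (j : Fin 56) :
    coord (frV s : RuVec) j = if j.val = 2 * s.val then 4 else 0 := by
  rw [frV, vec_val (fr_lt s), coord_vecOf, fr_entry]

theorem coord_sum {ι : Type} (S : Finset ι) (f : ι → RuVec) (j : Fin 56) :
    coord (∑ i ∈ S, f i) j = ∑ i ∈ S, coord (f i) j := by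
  classical
  induction S using Finset.induction_on with
  | empty => simp [coord_zero]
  | insert a S ha ih => rw [Finset.sum_insert ha, Finset.sum_insert ha, coord_add, ih]

theorem four_expand (v : ruLattice) :
    (4 : ℤ) • v = ∑ s : Fin 28, (coord (v : RuVec) (reI s) • frV s + coord (v : RuVec) (imI s) • ruI (frV s)) := by
  refine Subtype.ext (coord_injective (funext fun j => ?_))
  rw [AddSubgroup.coe_zsmul, coord_zsmul, AddSubmonoidClass.coe_finset_sum, coord_sum]
  simp only [AddSubgroup.coe_add, AddSubgroup.coe_zsmul, coord_add, coord_zsmul]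
  rw [show (∑ s : Fin 28, (coord (v : RuVec) (reI s) * coord (frV s : RuVec) j +
      coord (v : RuVec) (imI s) * coord (ruI (frV s) : RuVec) j)) =
      ∑ s : Fin 28, if j.val / 2 = s.val then 4 * coord (v : RuVec) j else 0 from
    Finset.sum_congr rfl fun s _ => ?_]
  · rw [Finset.sum_eq_single (⟨j.val / 2, by omega⟩ : Fin 28), if_pos rfl]
    · intro b _ hb
      rw [if_neg fun h => hb (Fin.ext h.symm)]
    · exact fun h => absurd (Finset.mem_univ _) h
  · rw [show (ruI (frV s) : RuVec) = gI • (frV s : RuVec) from rfl, coord_gI, coord_frV]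
    by_cases h : j.val / 2 = s.val
    · rw [if_pos h]
      by_cases he : j.val % 2 = 0
      · rw [if_pos he, coord_frV, if_pos (by omega), if_neg (by simp only; omega)]
        rw [show reI s = j from Fin.ext (by simp [reI]; omega)]; ring
      · rw [if_neg he, coord_frV, if_neg (by omega), if_pos (by simp only; omega)]
        rw [show imI s = j from Fin.ext (by simp [imI]; omega)]; ring
    · rw [if_neg h, if_neg (by omega)]
      split_ifs <;> rw [coord_frV, if_neg (by simp only; omega)] <;> ring

/-- an automorphism as an additive map -/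
def autAdd (φ : ↥fourRu) : ruLattice →+ ruLattice := AddMonoidHom.mk' φ.1 φ.2.1

theorem autAdd_apply (φ : ↥fourRu) (v : ruLattice) : autAdd φ v = φ.1 v := rfl

theorem four_img (φ : ↥fourRu) (v : ruLattice) :
    (4 : ℤ) • φ.1 v = ∑ s : Fin 28, (coord (v : RuVec) (reI s) • φ.1 (frV s) + coord (v : RuVec) (imI s) • ruI (φ.1 (frV s))) := by
  rw [← autAdd_apply, ← map_zsmul, four_expand, map_sum]
  simp only [map_add, map_zsmul, autAdd_apply, aut_gI]

theorem z5_gI (v : RuVec) (u : Fin 28) : z5 (gI • v) u = 2 * z5 v u := by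
  have hu := u.isLt
  rw [z5, z5, coord_gI, coord_gI, if_pos (by simp [reI]), if_neg (by simp [imI])]
  rw [show (⟨((reI u).val + 1) % 56, Nat.mod_lt _ (by norm_num)⟩ : Fin 56) = imI u from Fin.ext (by simp [reI, imI]; omega),
    show (⟨(imI u).val - 1, by omega⟩ : Fin 56) = reI u from Fin.ext (by simp [reI, imI])]
  push_cast
  ring_nf
  rw [show (4 : ZMod 5) = -1 by decide]
  ring

/-- the matrix modulo five -/
def mat5 (φ : ↥fourRu) : Mat28 := Matrix.of fun u s => 4 * z5 (φ.1 (frV s) : RuVec) u

theorem z5_img (φ : ↥fourRu) (v : ruLattice) (u : Fin 28) :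
    z5 (φ.1 v : RuVec) u = ∑ s, mat5 φ u s * z5 (v : RuVec) s := by
  have key : (4 : ZMod 5) * z5 (φ.1 v : RuVec) u = ∑ s, z5 (v : RuVec) s * z5 (φ.1 (frV s) : RuVec) u := by
    have h1 : ∀ (n : ℤ) (w : RuVec), z5 (n • w) u = (n : ZMod 5) * z5 w u := fun n w => by
      simp only [z5, coord_zsmul]; push_cast; ring
    have h2 : ∀ a b : RuVec, z5 (a + b) u = z5 a u + z5 b u := fun a b => by
      simp only [z5, coord_add]; push_cast; ring
    have e := congrArg (fun w : ruLattice => z5 (w : RuVec) u) (four_img φ v)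
    simp only [AddSubgroup.coe_zsmul, AddSubmonoidClass.coe_finset_sum, AddSubgroup.coe_add] at e
    rw [h1] at e
    have h3 : ∀ (S : Finset (Fin 28)) (f : Fin 28 → RuVec), z5 (∑ i ∈ S, f i) u = ∑ i ∈ S, z5 (f i) u := by
      intro S f
      simp only [z5, coord_sum]
      push_cast
      rw [Finset.sum_add_distrib, Finset.mul_sum]
    rw [h3] at e
    rw [Int.cast_ofNat] at e
    refine e.trans (Finset.sum_congr rfl fun s _ => ?_)
    rw [h2, h1, h1, show (ruI (φ.1 (frV s)) : RuVec) = gI • (φ.1 (frV s) : RuVec) from rfl, z5_gI]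
    simp only [z5]
    ring
  calc z5 (φ.1 v : RuVec) u = 4 * (4 * z5 (φ.1 v : RuVec) u) := by
        rw [← mul_assoc, show (4 : ZMod 5) * 4 = 1 by decide, one_mul]
    _ = _ := by
      rw [key, Finset.mul_sum]
      exact Finset.sum_congr rfl fun s _ => by simp only [mat5, Matrix.of_apply]; ring

theorem z5_frV (s u : Fin 28) : z5 (frV s : RuVec) u = if u = s then 4 else 0 := by
  have := u.isLt
  rw [z5, coord_frV, coord_frV]
  by_cases h : u = s
  · subst h; rw [if_pos (by simp [reI]), if_neg (by simp [imI]), if_pos rfl]; simp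
  · have : u.val ≠ s.val := fun e => h (Fin.ext e)
    rw [if_neg (by simp [reI]; omega), if_neg (by simp [imI]; omega), if_neg h]; simp

theorem mat5_mul (φ ψ : ↥fourRu) : mat5 (φ * ψ) = mat5 φ * mat5 ψ := by
  ext u s
  rw [Matrix.mul_apply]
  show 4 * z5 (φ.1 (ψ.1 (frV s)) : RuVec) u = _
  rw [z5_img, Finset.mul_sum]
  exact Finset.sum_congr rfl fun t _ => by simp only [mat5, Matrix.of_apply]; ring

theorem mat5_one : mat5 1 = 1 := by
  ext u s
  show 4 * z5 (frV s : RuVec) u = _
  rw [z5_frV, Matrix.one_apply]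
  split_ifs <;> decide

theorem pair_zero : ∀ a b : Fin 3, ∀ m : Fin 2,
    (((1 + 3 * (m.val : ℤ)) * ((a.val : ℤ) - 1) : ℤ) : ZMod 5) + 2 * (((1 + 3 * (m.val : ℤ)) * ((b.val : ℤ) - 1) : ℤ) : ZMod 5) = 0 →
      a.val = 1 ∧ b.val = 1 := by decide

theorem pair_four : ∀ a b : Fin 9,
    ((a.val : ℤ) - 4) ^ 2 + ((b.val : ℤ) - 4) ^ 2 = 16 →
    (((a.val : ℤ) - 4 : ℤ) : ZMod 5) + 2 * (((b.val : ℤ) - 4 : ℤ) : ZMod 5) = 4 → a.val = 8 ∧ b.val = 4 := by decide

theorem frV_unique {i : ℕ} (hi : i < 16240) (s : Fin 28)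
    (h : ∀ u, z5 (vec i : RuVec) u = z5 (frV s : RuVec) u) : vec i = frV s := by
  have hv := val_rec hi
  have hc : ∀ j : Fin 56, coord (vec i : RuVec) j = entry (recOf i) j.val := fun j => by
    rw [vec_val hi, coord_vecOf]
  have hf := rec_flag hi
  have off : ∀ j : Fin 56, j.val / 2 ≠ s.val → entry (recOf i) j.val = 0 := by
    intro j hj
    let u : Fin 28 := ⟨j.val / 2, by omega⟩
    have e := h u
    rw [z5_frV, if_neg (fun he => hj (congrArg Fin.val he)), z5, hc, hc] at e
    have hb := fun k : ℕ => And.intro (bitN_le (posM (recOf i)) k) (bitN_le (negM (recOf i)) k)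
    have key := fun ka kb : ℕ => pair_zero
      ⟨1 + bitN (posM (recOf i)) ka - bitN (negM (recOf i)) ka, by have := hb ka; omega⟩
      ⟨1 + bitN (posM (recOf i)) kb - bitN (negM (recOf i)) kb, by have := hb kb; omega⟩
      ⟨flag (recOf i), by omega⟩
    have he : ∀ k, entry (recOf i) k = (1 + 3 * (flag (recOf i) : ℤ)) *
        (((1 + bitN (posM (recOf i)) k - bitN (negM (recOf i)) k : ℕ) : ℤ) - 1) := fun k => by
      have := hb k
      rw [entry, mag]
      push_cast [Nat.cast_sub (show bitN (negM (recOf i)) k ≤ 1 + bitN (posM (recOf i)) k by omega)]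
      ring
    rw [he, he] at e
    have := key _ _ e
    rw [he]
    have hj2 : j.val = 2 * u.val ∨ j.val = 2 * u.val + 1 := by simp only [u]; omega
    rcases hj2 with hj2 | hj2 <;> rw [hj2]
    · rw [show (1 + bitN (posM (recOf i)) (2 * u.val) - bitN (negM (recOf i)) (2 * u.val)) = 1 from this.1]; simp
    · rw [show (1 + bitN (posM (recOf i)) (2 * u.val + 1) - bitN (negM (recOf i)) (2 * u.val + 1)) = 1 from this.2]; simp
  have hsum := hv.sum_sq
  rw [Finset.sum_eq_add (reI s) (imI s) (by simp [reI, imI, Fin.ext_iff])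
    (fun j _ hj => by
      rw [off j (fun e => ?_), mul_zero]
      simp only [ne_eq, Fin.ext_iff, reI, imI] at hj; omega)
    (fun h => absurd (Finset.mem_univ _) h) (fun h => absurd (Finset.mem_univ _) h)] at hsum
  have e := h s
  rw [z5_frV, if_pos rfl, z5, hc, hc] at e
  set A := entry (recOf i) (reI s).val
  set B := entry (recOf i) (imI s).val
  have hA : -4 ≤ A ∧ A ≤ 4 := by constructor <;> nlinarith [mul_self_nonneg B]
  have hB : -4 ≤ B ∧ B ≤ 4 := by constructor <;> nlinarith [mul_self_nonneg A]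
  have hk := pair_four ⟨(A + 4).toNat, by omega⟩ ⟨(B + 4).toNat, by omega⟩
  simp only [Int.toNat_of_nonneg (show 0 ≤ A + 4 by omega), Int.toNat_of_nonneg (show 0 ≤ B + 4 by omega),
    add_sub_cancel_right] at hk
  obtain ⟨h1, h2⟩ := hk (by rw [pow_two, pow_two]; exact hsum) e
  refine Subtype.ext (coord_injective (funext fun j => ?_))
  rw [hc, coord_frV]
  by_cases hj : j.val / 2 = s.val
  · by_cases he : j.val % 2 = 0
    · rw [show j = reI s from Fin.ext (by simp [reI]; omega), if_pos (by simp [reI])]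
      show A = 4
      omega
    · rw [show j = imI s from Fin.ext (by simp [imI]; omega), if_neg (by simp [imI])]
      show B = 0
      omega
  · rw [off j hj, if_neg (by omega)]

theorem eq_one_of_mat5 {φ : ↥fourRu} (h : mat5 φ = 1) : φ = 1 := by
  have hfix : ∀ s, φ.1 (frV s) = frV s := by
    intro s
    obtain ⟨j, hj, e⟩ := exists_img φ (fr_lt s)
    rw [frV, e]
    refine frV_unique hj s fun u => ?_
    rw [← e, z5_frV]
    have hu := congrFun (congrFun h u) s
    rw [Matrix.one_apply] at hu
    change 4 * z5 (φ.1 (frV s) : RuVec) u = _ at hu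
    revert hu
    show 4 * z5 (φ.1 (vec (fr s.val)) : RuVec) u = _ → _
    generalize z5 (φ.1 (vec (fr s.val)) : RuVec) u = x
    by_cases hus : u = s
    · rw [if_pos hus, if_pos hus]; revert x; decide
    · rw [if_neg hus, if_neg hus]; revert x; decide
  refine Subtype.ext (Equiv.ext fun v => ?_)
  show φ.1 v = v
  have e := four_img φ v
  simp only [hfix] at e
  rw [← four_expand] at e
  refine Subtype.ext (coord_injective (funext fun j => ?_))
  have := congrArg (fun w : ruLattice => coord (w : RuVec) j) e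
  simp only [AddSubgroup.coe_zsmul, coord_zsmul] at this
  omega

/-- the code of an automorphism -/
def code5 (φ : ↥fourRu) : ℕ := enc (mat5 φ)

/-- the code of the identity -/
def one5 : ℕ := H97.pk (flat fun u s => if u = s then 1 else 0) 784

theorem code5_one : code5 1 = one5 := by
  rw [code5, mat5_one, enc, one5]
  refine H97.pk_congr _ fun l _ => ?_
  simp only [flat, Matrix.one_apply]
  split <;> rfl

theorem code5_mul (φ ψ : ↥fourRu) : code5 (φ * ψ) = cm (code5 φ) (code5 ψ) := by
  rw [code5, mat5_mul, ← H91.M28.cm_enc]; rfl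

theorem code5_inj : Function.Injective code5 := by
  intro φ ψ e
  have e' := H91.M28.enc_inj e
  refine inv_mul_eq_one.1 (eq_one_of_mat5 ?_)
  rw [mat5_mul, ← e', ← mat5_mul, inv_mul_cancel, mat5_one]

/-- the coding of a group of automorphisms -/
def coding5 (G : Subgroup ↥fourRu) : H97.SchurCert.Coding G cm one5 where
  code g := code5 g.1
  inj := code5_inj.comp Subtype.val_injective
  map_one := code5_one
  map_mul a b := code5_mul a.1 b.1

/-- a coordinate modulo five of a record, as a number -/
def recRe (r j : ℕ) : ℕ := mag r * (bitN (posM r) j + 4 * bitN (negM r) j)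

/-- the code of a record in column zero, or of an image of the frame -/
def recE (r : ℕ) (u : Fin 28) : ℕ := (recRe r (2 * u.val) + 2 * recRe r (2 * u.val + 1)) % 5

theorem recE_spec {i : ℕ} (hi : i < 16240) (u : Fin 28) :
    (recE (recOf i) u : ZMod 5) = z5 (vec i : RuVec) u := by
  have key : ∀ k, ((recRe (recOf i) k : ℕ) : ZMod 5) = ((entry (recOf i) k : ℤ) : ZMod 5) := fun k => by
    rw [recRe, entry]; push_cast
    rw [show (4 : ZMod 5) = -1 by decide]; ring
  rw [z5, vec_val hi, coord_vecOf, coord_vecOf, recE, ZMod.natCast_mod]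
  push_cast
  rw [key, key]
  rfl

/-- the codes of the three generators -/
def genC (g : ℕ) : ℕ :=
  H97.pk (flat fun u s => 4 * recE (recOf (permT g (fr s.val))) u % 5) 784

theorem code5_genF (g : ℕ) : code5 (genF g) = genC g := by
  rw [code5, enc, genC]
  refine H97.pk_congr _ fun l _ => ?_
  simp only [flat, mat5, Matrix.of_apply]
  rw [frV, genF_vec g (fr_lt _), ← recE_spec (permT_lt g (fr_lt _)),
    show (4 : ZMod 5) = ((4 : ℕ) : ZMod 5) from rfl, ← Nat.cast_mul, ZMod.val_natCast]

end H91.Ru
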