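/- Programs, towers and separating orbits on codes. -/
import Mathlib
import Cfsg.Agent.H91.Ru.Code5
import Cfsg.Agent.H91.Ru.SchurDataGen
import Cfsg.Agent.H97.SchurCyclic

set_option autoImplicit false
set_option maxRecDepth 100000

noncomputable section

namespace H91.Ru

open H91.M28 (Mat28 enc flat cm)
open H93.Coset (force force_eq)

/-- the automorphism of a seed word -/
def seedF (w : List ℕ) : ↥Cfsg.Spor.fourRu := w.foldl (fun acc g => acc * genF g) 1

/-- the code of a seed word -/
def seedC (w : List ℕ) : ℕ := w.foldl (fun acc g => cm acc (genC g)) one5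

/-- run a program on a stack of codes -/
def slpGo : List (ℕ × ℕ) → List ℕ → List ℕ
  | [], acc => acc
  | (a, b) :: l, acc => force (cm (acc.getD a one5) (acc.getD b one5)) fun v => slpGo l (v :: acc)

/-- force the elements of a list of codes -/
def forceL : List ℕ → (List ℕ → Bool) → Bool
  | [], k => k []
  | x :: l, k => force x fun v => forceL l fun vs => k (v :: vs)

theorem forceL_eq : ∀ (l : List ℕ) (k : List ℕ → Bool), forceL l k = k l
  | [], _ => rfl
  | x :: l, k => by rw [forceL, force_eq, forceL_eq l]

/-- the symbols are values of the program -/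
def selOK (prog : List (ℕ × ℕ)) (sel syms : List ℕ) : Bool :=
  forceL (seedW.map seedC).reverse fun s => (slpGo prog s |> fun acc => sel.map fun i => acc.getD i one5) == syms

/-- product of the selected codes -/
def wordP (L : List ℕ) (w : List ℕ) : ℕ := H97.SchurCert.evW cm one5 L w

/-- squares and conjugates stay in the later terms -/
def towerOK (L : List ℕ) (rules : List (List ℕ × List (List ℕ))) : Bool :=
  (List.range L.length).all fun i =>
    ((rules.getD i ([], [])).1.all fun s => decide (i < s) && decide (s < L.length)) &&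
    wordP L [i, i] == wordP L (rules.getD i ([], [])).1 &&
    (List.range L.length).all fun j => decide (j ≤ i) ||
      ((((rules.getD i ([], [])).2.getD (j - (i + 1)) []).all fun s => decide (i < s) && decide (s < L.length)) &&
        wordP L [j, i] == wordP L (i :: (rules.getD i ([], [])).2.getD (j - (i + 1)) []))

/-- the matrix with the coordinates of a vector in its first column -/
def colM (p : ℕ) : Mat28 := Matrix.of fun u s => if s = 0 then (recE (recOf p) u : ZMod 5) else 0

/-- its code -/
def colX (p : ℕ) : ℕ := H97.pk (flat fun u s => if s = 0 then recE (recOf p) u else 0) 784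

theorem colX_eq (p : ℕ) : colX p = enc (colM p) := by
  refine H97.pk_congr _ fun l _ => ?_
  simp only [flat, colM, Matrix.of_apply]
  split
  · rw [ZMod.val_natCast, Nat.mod_eq_of_lt]
    exact Nat.mod_lt _ (by norm_num)
  · rfl

/-- the tail maps the vectors into themselves and the head does not -/
def sepOK (h : ℕ) (T : List ℕ) (pts : List ℕ) : Bool :=
  forceL (pts.map colX) fun X =>
    (T.all fun c => X.all fun x => force (cm c x) fun y => X.contains y) &&
    match X with
    | [] => false
    | x :: _ => force (cm h x) fun y => !(X.contains y)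

/-- every term is separated from the later ones -/
def chainOK (L : List ℕ) (orbs : List (List ℕ)) : Bool :=
  (List.range L.length).all fun i => sepOK (L.getD i one5) (L.drop (i + 1)) (orbs.getD i [])

theorem code5_evG {f : ℕ → ↥Cfsg.Spor.fourRu} {L : List ℕ} (h : ∀ s, code5 (f s) = L.getD s one5) (w : List ℕ) :
    code5 (H97.SchurCert.evG f w) = wordP L w := by
  let C : H97.SchurCert.Coding ↥Cfsg.Spor.fourRu cm one5 :=
    { code := code5, inj := code5_inj, map_one := code5_one, map_mul := code5_mul }
  exact H97.SchurCert.evG_code C f L w h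

/-- the terms from `i` on -/
def tailG (f : ℕ → ↥Cfsg.Spor.fourRu) (n i : ℕ) : Subgroup ↥Cfsg.Spor.fourRu :=
  Subgroup.closure (f '' {k | i ≤ k ∧ k < n})

theorem tower_le {f : ℕ → ↥Cfsg.Spor.fourRu} {L : List ℕ} {rules : List (List ℕ × List (List ℕ))}
    (h : ∀ s, code5 (f s) = L.getD s one5) (hr : towerOK L rules = true) :
    Nat.card (Subgroup.closure (f '' {k | k < L.length})) ≤ 2 ^ L.length := by
  simp only [towerOK, List.all_eq_true, List.mem_range, Bool.and_eq_true, Bool.or_eq_true,
    decide_eq_true_eq, beq_iff_eq] at hr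
  let T : ℕ → Subgroup ↥Cfsg.Spor.fourRu := fun i => tailG f L.length i
  have hmem : ∀ i (w : List ℕ), (∀ s ∈ w, i < s ∧ s < L.length) → H97.SchurCert.evG f w ∈ T (i + 1) := by
    intro i w hw
    exact H97.SchurCert.evG_mem (S := (T (i + 1)).toSubmonoid) fun s hs =>
      Subgroup.subset_closure ⟨s, ⟨(hw s hs).1, (hw s hs).2⟩, rfl⟩
  have key : ∀ u v : List ℕ, wordP L u = wordP L v → H97.SchurCert.evG f u = H97.SchurCert.evG f v :=
    fun u v e => code5_inj (by rw [code5_evG h, code5_evG h, e])
  have := H97.SchurCert.card_tower_le f ∅ 2 L.length 0 L.length (by norm_num) le_rfl T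
    (fun i => by simp only [T, tailG, Set.union_empty])
    (fun i _ hi => by
      obtain ⟨⟨hw, e⟩, -⟩ := hr i hi
      have e' := key _ _ e
      rw [show H97.SchurCert.evG f [i, i] = f i ^ 2 by simp [H97.SchurCert.evG, pow_two]] at e'
      rw [e']; exact hmem i _ hw)
    (fun i j _ hi hij hj => by
      obtain ⟨-, hc⟩ := hr i hi
      obtain ⟨hw, e⟩ := (hc j hj).resolve_left (by omega)
      have e' := key _ _ e
      simp only [H97.SchurCert.evG, List.map_cons, List.map_nil, List.prod_cons, List.prod_nil, mul_one] at e'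
      rw [show (f i)⁻¹ * f j * f i = (f i)⁻¹ * (f j * f i) from mul_assoc _ _ _, e', inv_mul_cancel_left]
      exact hmem i _ hw)
    (fun i _ _ r hr' => absurd hr' (Set.notMem_empty r)) L.length (by simp)
  rw [Nat.sub_self] at this
  have h0 : T 0 = Subgroup.closure (f '' {k | k < L.length}) := by simp [T, tailG]
  have hn : Nat.card (T L.length) = 1 := by
    have : T L.length = ⊥ := by
      rw [show T L.length = Subgroup.closure (f '' {k | L.length ≤ k ∧ k < L.length}) from rfl,
        show {k | L.length ≤ k ∧ k < L.length} = (∅ : Set ℕ) from Set.eq_empty_iff_forall_notMem.2 fun k hk => by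
          simp only [Set.mem_setOf_eq] at hk; omega]
      simp
    rw [this]; simp
  rw [h0, hn, mul_one] at this
  exact this

attribute [local irreducible] colX one5 cm

theorem sep_not_mem {f : ℕ → ↥Cfsg.Spor.fourRu} {L : List ℕ} (h : ∀ s, code5 (f s) = L.getD s one5) {i : ℕ}
    {pts : List ℕ} (hc : sepOK (L.getD i one5) (L.drop (i + 1)) pts = true) :
    f i ∉ tailG f L.length (i + 1) := by
  rw [sepOK, forceL_eq] at hc
  simp only [force_eq, Bool.and_eq_true, List.all_eq_true, List.contains_iff_mem] at hc
  obtain ⟨hT, hh⟩ := hc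
  let S : Set ↥Cfsg.Spor.fourRu := {φ | ∀ p ∈ pts, ∃ q ∈ pts, mat5 φ * colM p = colM q}
  have step : ∀ φ, (∀ p ∈ pts, cm (code5 φ) (colX p) ∈ pts.map colX) → φ ∈ S := by
    intro φ hφ p hp
    obtain ⟨q, hq, e⟩ := List.mem_map.1 (hφ p hp)
    rw [colX_eq, colX_eq, code5, H91.M28.cm_enc] at e
    exact ⟨q, hq, (H91.M28.enc_inj e).symm⟩
  let M : Submonoid ↥Cfsg.Spor.fourRu :=
    { carrier := S
      one_mem' := fun p hp => ⟨p, hp, by rw [mat5_one, one_mul]⟩
      mul_mem' := fun {a b} ha hb p hp => by
        obtain ⟨q, hq, e⟩ := hb p hp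
        obtain ⟨r, hr, e'⟩ := ha q hq
        exact ⟨r, hr, by rw [mat5_mul, mul_assoc, e, e']⟩ }
  intro hmem
  have hM : f i ∈ M := by
    rw [tailG, ← Subgroup.mem_toSubmonoid, Subgroup.closure_toSubmonoid_of_finite] at hmem
    refine Submonoid.closure_le.2 ?_ hmem
    rintro x ⟨k, ⟨hk1, hk2⟩, rfl⟩
    refine step _ fun p hp => hT _ ?_ _ (List.mem_map_of_mem hp)
    rw [h k, List.getD_eq_getElem _ _ hk2]
    exact List.mem_drop_iff_getElem.2 ⟨k - (i + 1), by omega, by congr 1; omega⟩
  cases pts with
  | nil => simp at hh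
  | cons p pts =>
    simp only [List.map_cons, Bool.not_eq_true'] at hh
    obtain ⟨q, hq, e⟩ := hM p List.mem_cons_self
    rw [← h i, colX_eq, code5, H91.M28.cm_enc, e, ← colX_eq q, ← colX_eq p] at hh
    have hm : colX q ∈ (p :: pts).map colX := List.mem_map_of_mem hq
    rw [← List.contains_iff_mem, List.map_cons] at hm
    rw [hm] at hh
    exact Bool.noConfusion hh

theorem chain_ge {f : ℕ → ↥Cfsg.Spor.fourRu} {L : List ℕ} {orbs : List (List ℕ)}
    (h : ∀ s, code5 (f s) = L.getD s one5) (hc : chainOK L orbs = true) :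
    2 ^ L.length ≤ Nat.card (Subgroup.closure (f '' {k | k < L.length})) := by
  simp only [chainOK, List.all_eq_true, List.mem_range] at hc
  have key : ∀ d, d ≤ L.length → 2 ^ d ≤ Nat.card (tailG f L.length (L.length - d)) := by
    intro d
    induction d with
    | zero => intro _; exact Nat.one_le_iff_ne_zero.2 (Nat.card_pos).ne'
    | succ d ih =>
      intro hd
      set i := L.length - (d + 1) with hi
      have e : L.length - d = i + 1 := by omega
      have hih := ih (by omega)
      rw [e] at hih
      have hle : tailG f L.length (i + 1) ≤ tailG f L.length i :=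
        Subgroup.closure_mono (Set.image_mono fun k hk => ⟨by have := hk.1; omega, hk.2⟩)
      have hlt : tailG f L.length (i + 1) < tailG f L.length i :=
        lt_of_le_of_ne hle fun e' => sep_not_mem h (hc i (by omega))
          (e' ▸ Subgroup.subset_closure ⟨i, ⟨le_rfl, by omega⟩, rfl⟩)
      obtain ⟨c, hc'⟩ := Subgroup.card_dvd_of_le hle
      have h2 : 2 ≤ c := by
        by_contra hc2
        have hne : Nat.card (tailG f L.length (i + 1)) ≠ Nat.card (tailG f L.length i) := fun e' =>
          hlt.ne (Subgroup.eq_of_le_of_card_ge hle e'.ge)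
        have hpos : 0 < Nat.card (tailG f L.length i) := Nat.card_pos
        rcases (show c = 0 ∨ c = 1 by omega) with rfl | rfl <;> simp at hc' <;> omega
      rw [hc', pow_succ]
      exact Nat.mul_le_mul hih h2
  have := key L.length le_rfl
  rw [Nat.sub_self] at this
  refine this.trans (le_of_eq ?_)
  simp [tailG]

end H91.Ru
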