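/- Checks of the multiplier certificate at 2. -/
import Cfsg.Agent.H91.Ru.SchurDefs
import Cfsg.Agent.H91.Ru.SchurData2
import Cfsg.Agent.H26.CertLin

set_option autoImplicit false
set_option maxRecDepth 100000
set_option Elab.async false

namespace H91.Ru

open H91.M28 (cm)
open H97.SchurCert H26.CertLin

theorem sel2_ok : selOK prog2 sel2 symsL2 = true := by decide +kernel

theorem rules2_ok : rulesOK cm one5 data2 = true := by decide +kernel

theorem defs2_ok : defsOK data2 = true := by decide +kernel

theorem pc2_ok : pcOK data2 = true := by decide +kernel

theorem lin2_ok : combosLOK data2 vecs2 = true := by decide +kernel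

end H91.Ru
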