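/- Checks of the multiplier certificate at 5. -/
import Cfsg.Agent.H91.Ru.SchurDefs
import Cfsg.Agent.H91.Ru.SchurData5
import Cfsg.Agent.H26.CertLin

set_option autoImplicit false
set_option maxRecDepth 100000
set_option Elab.async false

namespace H91.Ru

open H91.M28 (cm)
open H97.SchurCert H26.CertLin

theorem sel5_ok : selOK prog5 sel5 symsL5 = true := by decide +kernel

theorem rules5_ok : rulesOK cm one5 data5 = true := by decide +kernel

theorem defs5_ok : defsOK data5 = true := by decide +kernel

theorem pc5_ok : pcOK data5 = true := by decide +kernel

theorem lin5_ok : combosLOK data5 vecs5 = true := by decide +kernel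

theorem size5_ok : sizeOK cm one5 data5 = true := by decide +kernel

end H91.Ru
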