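/- Checks of the two series. -/
import Cfsg.Agent.H91.Ru.SchurDefs
import Cfsg.Agent.H91.Ru.SchurData2

set_option autoImplicit false
set_option maxRecDepth 100000
set_option Elab.async false

namespace H91.Ru

/-- the series of fifteen -/
def ser15 : List ℕ := symsL2.take 15

/-- the series of sixteen, with the scalar inserted -/
noncomputable def ser16 : List ℕ := symsL2.take 11 ++ genC 2 :: (symsL2.take 15).drop 11

theorem tower15_ok : towerOK ser15 tower15 = true := by decide +kernel

theorem tower16_ok : towerOK ser16 tower16 = true := by decide +kernel

theorem chain15_ok : chainOK ser15 orb15 = true := by decide +kernel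

theorem chain16_ok : chainOK ser16 orb16 = true := by decide +kernel

theorem ser_len : ser15.length = 15 ∧ ser16.length = 16 ∧ ser16.getD 11 0 = genC 2 := by decide +kernel

theorem sq_scalar : wordP ser15 [11, 12, 13] = H91.M28.cm (genC 2) (genC 2) := by decide +kernel

theorem pow24 : wordP [genC 0, genC 1] (List.replicate 24 0) = one5 ∧
    wordP [genC 0, genC 1] (List.replicate 24 1) = one5 := by decide +kernel

theorem seed_counts : seedW.all (fun w => w.all (fun g => g < 2) && w.count 0 % 24 == 0 && w.count 1 % 24 == 0) = true := by
  decide +kernel

end H91.Ru
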