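/- The double cover of the Rudvalis group has trivial multiplier. -/
import Mathlib
import Cfsg.Agent.H91.Ru.ChkSchur2
import Cfsg.Agent.H91.Ru.ChkSchur3
import Cfsg.Agent.H91.Ru.ChkSchur5
import Cfsg.Agent.H91.Ru.ChkSchurTower
import Cfsg.Agent.H26.CyclicCoverSchur
import Cfsg.Agent.H97.SchurMathieu

set_option autoImplicit false
set_option maxRecDepth 100000

noncomputable section

namespace H91.Ru

open Cfsg.Spor
open H91.M28 (cm)
open H97.SchurCert (Data evW evG)
open scoped commutatorElement

attribute [local irreducible] genC one5 cm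

/-- the perfect double cover -/
def twoRu : Subgroup ↥fourRu := commutator ↥fourRu

theorem seed_not_central : (H93.Coset.force (seedC (seedW.getD 0 [])) fun a =>
    H93.Coset.force (genC 0) fun b => !(Nat.beq (cm a b) (cm b a))) = true := by
  decide +kernel

theorem seedC_spec : ∀ w : List ℕ, code5 (seedF w) = seedC w := by
  have key : ∀ (w : List ℕ) (φ : ↥fourRu),
      code5 (w.foldl (fun acc g => acc * genF g) φ) = w.foldl (fun acc g => cm acc (genC g)) (code5 φ) := by
    intro w
    induction w with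
    | nil => intro φ; rw [List.foldl_nil, List.foldl_nil]
    | cons g w ih => intro φ; rw [List.foldl_cons, List.foldl_cons, ih, code5_mul, code5_genF]
  intro w
  exact (key w 1).trans (congrArg (fun c => w.foldl (fun acc g => cm acc (genC g)) c) code5_one)

theorem seedF_mem {w : List ℕ} (hw : w ∈ seedW) : seedF w ∈ twoRu := by
  have hc := seed_counts
  simp only [List.all_eq_true, Bool.and_eq_true, decide_eq_true_eq, beq_iff_eq] at hc
  obtain ⟨⟨hg, h0⟩, h1⟩ := hc w hw
  rw [twoRu, ← Abelianization.ker_of, MonoidHom.mem_ker]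
  set ab := Abelianization.of (G := ↥fourRu)
  have key : ∀ (w : List ℕ) (φ : ↥fourRu), (∀ g ∈ w, g < 2) →
      ab (w.foldl (fun acc g => acc * genF g) φ) = ab φ * (ab (genF 0) ^ w.count 0 * ab (genF 1) ^ w.count 1) := by
    intro w
    induction w with
    | nil => intro φ _; simp
    | cons g w ih =>
      intro φ hh
      rw [List.foldl_cons, ih _ fun x hx => hh x (List.mem_cons_of_mem _ hx), map_mul]
      have hg : g = 0 ∨ g = 1 := by have := hh g List.mem_cons_self; omega
      rcases hg with rfl | rfl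
      · rw [List.count_cons_self, List.count_cons_of_ne (by norm_num), pow_succ', mul_assoc, mul_assoc]
      · rw [List.count_cons_of_ne (by norm_num), List.count_cons_self, pow_succ']
        rw [mul_assoc, mul_left_comm (ab (genF 1))]
  have h24 : genF 0 ^ 24 = 1 ∧ genF 1 ^ 24 = 1 := by
    let f : ℕ → ↥fourRu := fun s => if s < 2 then genF s else 1
    have hf : ∀ s, code5 (f s) = [genC 0, genC 1].getD s one5
      | 0 => by
        rw [show f 0 = genF 0 from if_pos (by norm_num), code5_genF, List.getD_cons_zero]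
      | 1 => by
        rw [show f 1 = genF 1 from if_pos (by norm_num), code5_genF, List.getD_cons_succ, List.getD_cons_zero]
      | s + 2 => by
        rw [show f (s + 2) = 1 from if_neg (by omega), code5_one, List.getD_cons_succ, List.getD_cons_succ,
          List.getD_eq_default [] one5 (Nat.zero_le s)]
    have hp : ∀ s, evG f (List.replicate 24 s) = f s ^ 24 := fun s => by
      rw [evG, List.map_replicate, List.prod_replicate]
    have f0 : f 0 = genF 0 := if_pos (by norm_num)
    have f1 : f 1 = genF 1 := if_pos (by norm_num)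
    refine ⟨code5_inj ?_, code5_inj ?_⟩
    · rw [← f0, ← hp 0, code5_evG hf, pow24.1, code5_one]
    · rw [← f1, ← hp 1, code5_evG hf, pow24.2, code5_one]
  rw [seedF, key w 1 hg, map_one, one_mul]
  obtain ⟨a, ha⟩ := Nat.dvd_of_mod_eq_zero h0
  obtain ⟨b, hb⟩ := Nat.dvd_of_mod_eq_zero h1
  rw [ha, hb, pow_mul, pow_mul, ← map_pow ab (genF 0), ← map_pow ab (genF 1), h24.1, h24.2, map_one, one_pow, one_pow, one_mul]

theorem slpGo_mem : ∀ (prog : List (ℕ × ℕ)) (acc : List ℕ), (∀ v ∈ acc, ∃ g : twoRu, code5 g.1 = v) →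
    ∀ v ∈ slpGo prog acc, ∃ g : twoRu, code5 g.1 = v
  | [], _, h => h
  | (a, b) :: l, acc, h => by
    have get : ∀ k, ∃ g : twoRu, code5 g.1 = acc.getD k one5 := fun k => by
      by_cases hk : k < acc.length
      · rw [List.getD_eq_getElem _ _ hk]; exact h _ (List.getElem_mem hk)
      · rw [List.getD_eq_default _ _ (Nat.le_of_not_lt hk)]; exact ⟨1, code5_one⟩
    rw [slpGo, H93.Coset.force_eq]
    refine slpGo_mem l _ fun v hv => ?_
    rcases List.mem_cons.1 hv with rfl | hv
    · obtain ⟨x, hx⟩ := get a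
      obtain ⟨y, hy⟩ := get b
      exact ⟨x * y, by rw [Subgroup.coe_mul, code5_mul, hx, hy]⟩
    · exact h v hv

theorem syms_mem {prog : List (ℕ × ℕ)} {sel syms : List ℕ} (h : selOK prog sel syms = true) :
    ∀ v ∈ syms, ∃ g : twoRu, code5 g.1 = v := by
  rw [selOK, forceL_eq, beq_iff_eq] at h
  intro v hv
  rw [← h] at hv
  obtain ⟨i, -, rfl⟩ := List.mem_map.1 hv
  have hs : ∀ x ∈ (seedW.map seedC).reverse, ∃ g : twoRu, code5 g.1 = x := fun x hx => by
    rw [List.mem_reverse] at hx
    obtain ⟨w, hw, rfl⟩ := List.mem_map.1 hx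
    exact ⟨⟨seedF w, seedF_mem hw⟩, seedC_spec w⟩
  set acc := slpGo prog (seedW.map seedC).reverse
  by_cases hk : i < acc.length
  · rw [List.getD_eq_getElem _ _ hk]
    exact slpGo_mem _ _ hs _ (List.getElem_mem hk)
  · rw [List.getD_eq_default _ _ (Nat.le_of_not_lt hk)]; exact ⟨1, code5_one⟩

/-- lifts of a list of codes -/
theorem exists_lift {H : Subgroup ↥fourRu} {L : List ℕ} (h : ∀ v ∈ L, ∃ g : H, code5 g.1 = v) :
    ∃ f : ℕ → ↥fourRu, (∀ s, f s ∈ H) ∧ ∀ s, code5 (f s) = L.getD s one5 := by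
  have : ∀ s, ∃ g : H, code5 g.1 = L.getD s one5 := fun s => by
    by_cases hs : s < L.length
    · rw [List.getD_eq_getElem _ _ hs]; exact h _ (List.getElem_mem hs)
    · rw [List.getD_eq_default _ _ (Nat.le_of_not_lt hs)]; exact ⟨1, code5_one⟩
  choose f hf using this
  exact ⟨fun s => (f s).1, fun s => (f s).2, hf⟩

theorem ser15_mem : ∀ v ∈ ser15, ∃ g : twoRu, code5 g.1 = v :=
  fun v hv => syms_mem sel2_ok v (List.mem_of_mem_take hv)

theorem minus_one_mem : sI ^ 2 ∈ twoRu := by
  obtain ⟨f, hfm, hf⟩ := exists_lift ser15_mem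
  have e : evG f [11, 12, 13] = sI ^ 2 := code5_inj (by
    rw [code5_evG hf, sq_scalar, pow_two, code5_mul, ← code5_genF 2]
    rfl)
  rw [← e]
  exact H97.SchurCert.evG_mem (S := twoRu.toSubmonoid) fun s _ => hfm s

theorem sI_not_mem : sI ∉ twoRu := by
  intro hd
  have h16 : ∀ v ∈ ser16, ∃ g : (⊤ : Subgroup ↥fourRu), code5 g.1 = v := by
    intro v hv
    have h2 : ∀ x ∈ symsL2, ∃ g : (⊤ : Subgroup ↥fourRu), code5 g.1 = x := fun x hx => by
      obtain ⟨g, hg⟩ := syms_mem sel2_ok x hx
      exact ⟨⟨g.1, trivial⟩, hg⟩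
    rw [ser16, List.mem_append, List.mem_cons] at hv
    rcases hv with hv | rfl | hv
    · exact h2 v (List.mem_of_mem_take hv)
    · exact ⟨⟨genF 2, trivial⟩, code5_genF 2⟩
    · exact h2 v (List.mem_of_mem_take (List.mem_of_mem_drop hv))
  obtain ⟨f, -, hf⟩ := exists_lift h16
  obtain ⟨l15, l16, e11⟩ := ser_len
  have hup := tower_le hf tower16_ok
  have hlo := chain_ge hf chain16_ok
  rw [l16] at hup hlo
  set P := Subgroup.closure (f '' {k | k < 16}) with hP
  have hcard : Nat.card P = 2 ^ Nat.factorization (Nat.card ↥fourRu) 2 := by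
    have hf2 : Nat.factorization (Nat.card ↥fourRu) 2 = 16 := by
      rw [card_fourRu, show (583704576000 : ℕ) = 2 ^ 16 * 8906625 by norm_num,
        Nat.factorization_mul (by norm_num) (by norm_num), Finsupp.add_apply, Nat.Prime.factorization_pow Nat.prime_two,
        Finsupp.single_eq_same, Nat.factorization_eq_zero_of_not_dvd (by norm_num)]
    rw [hf2]; omega
  haveI : Fact (Nat.Prime 2) := ⟨Nat.prime_two⟩
  let S : Sylow 2 ↥fourRu := Sylow.ofCard P hcard
  have f11 : f 11 = sI := code5_inj (by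
    rw [hf, List.getD_eq_getElem _ _ (by omega)]
    rw [List.getD_eq_getElem _ _ (by omega)] at e11
    rw [e11]; exact (code5_genF 2).symm)
  have hsP : sI ∈ P := f11 ▸ Subgroup.subset_closure ⟨11, by simp, rfl⟩
  have hz := H97.mem_commutator_sylow S sI_mem_center hd hsP
  -- the derived group avoids the scalar
  obtain ⟨g, hgm, hg⟩ := exists_lift ser15_mem
  set Q := Subgroup.closure (g '' {k | k < 15}) with hQ
  have hQup := tower_le hg tower15_ok
  rw [l15, ← hQ] at hQup
  have hsplit : ∀ k < 16, f k = sI ∨ f k ∈ Q := by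
    intro k hk
    by_cases h11 : k = 11
    · subst h11; exact Or.inl f11
    · refine Or.inr ?_
      let k' := if k < 11 then k else k - 1
      have hk' : k' < 15 := by simp only [k']; split_ifs <;> omega
      have : f k = g k' := code5_inj (by
        rw [hf, hg, ser16, ser15]
        have hsl : 15 ≤ symsL2.length := by
          have := l15; rw [ser15, List.length_take] at this; omega
        simp only [k']
        split_ifs with hlt
        · rw [List.getD_eq_getElem _ _ (by simp; omega), List.getD_eq_getElem _ _ (by simp; omega),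
            List.getElem_append_left (by simp; omega)]
          simp
        · rw [List.getD_eq_getElem _ _ (by simp; omega), List.getD_eq_getElem _ _ (by simp; omega),
            List.getElem_append_right (by simp; omega)]
          simp only [List.length_take, List.getElem_cons, show min 11 symsL2.length = 11 by omega]
          rw [dif_neg (by omega)]
          simp only [List.getElem_drop, List.getElem_take]
          congr 1
          omega)
      exact this ▸ Subgroup.subset_closure ⟨k', hk', rfl⟩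
  haveI : (Subgroup.zpowers sI).Normal := ⟨fun n hn x => by
    rw [Subgroup.mem_center_iff.1 (Subgroup.zpowers_le.2 sI_mem_center hn) x, mul_inv_cancel_right]; exact hn⟩
  have hPQ : P ≤ Q ⊔ Subgroup.zpowers sI := by
    rw [hP, Subgroup.closure_le]
    rintro x ⟨k, hk, rfl⟩
    rcases hsplit k hk with h | h
    · rw [h]; exact Subgroup.mem_sup_right (Subgroup.mem_zpowers sI)
    · exact Subgroup.mem_sup_left h
  have hPder : ⁅P, P⁆ ≤ Q := by
    rw [Subgroup.commutator_le]
    intro a ha b hb
    obtain ⟨a', ha', u, hu, rfl⟩ := Subgroup.mem_sup_of_normal_right.1 (hPQ ha)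
    obtain ⟨b', hb', v, hv, rfl⟩ := Subgroup.mem_sup_of_normal_right.1 (hPQ hb)
    have cu := Subgroup.mem_center_iff.1 (Subgroup.zpowers_le.2 sI_mem_center hu)
    have cv := Subgroup.mem_center_iff.1 (Subgroup.zpowers_le.2 sI_mem_center hv)
    rw [show ⁅a' * u, b' * v⁆ = ⁅a', b'⁆ from by
      simp only [commutatorElement_def, mul_inv_rev]
      calc a' * u * (b' * v) * (u⁻¹ * a'⁻¹) * (v⁻¹ * b'⁻¹)
          = a' * (u * b') * v * u⁻¹ * a'⁻¹ * v⁻¹ * b'⁻¹ := by group
        _ = a' * b' * ((u * v) * u⁻¹) * a'⁻¹ * v⁻¹ * b'⁻¹ := by rw [← cu b']; group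
        _ = a' * b' * (v * a'⁻¹) * v⁻¹ * b'⁻¹ := by rw [← cu v, mul_inv_cancel_right]; group
        _ = a' * b' * a'⁻¹ * b'⁻¹ := by rw [← cv a'⁻¹]; group]
    rw [commutatorElement_def]
    exact mul_mem (mul_mem (mul_mem ha' hb') (inv_mem ha')) (inv_mem hb')
  have hsQ : sI ∈ Q := by
    refine hPder ?_
    have hm : (⟨sI, hsP⟩ : P) ∈ commutator P := hz
    have := Subgroup.mem_map_of_mem P.subtype hm
    rwa [Subgroup.map_subtype_commutator] at this
  have : P ≤ Q := hPQ.trans (sup_le le_rfl (Subgroup.zpowers_le.2 hsQ))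
  have := Subgroup.card_le_of_le this
  omega

/-- the map to the simple quotient -/
def projRu : ↥twoRu →* Ru := (QuotientGroup.mk' _).comp twoRu.subtype

theorem projRu_surjective : Function.Surjective projRu := by
  haveI := simple
  rw [← MonoidHom.range_eq_top]
  have hn : projRu.range.Normal := by
    rw [projRu, MonoidHom.range_comp, Subgroup.range_subtype]
    exact Subgroup.Normal.map (inferInstanceAs (commutator ↥fourRu).Normal) _ (QuotientGroup.mk'_surjective _)
  refine (hn.eq_bot_or_eq_top).resolve_left fun hb => ?_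
  have hw : seedW.getD 0 [] ∈ seedW := List.mem_cons_self
  have hm : projRu ⟨_, seedF_mem hw⟩ = 1 := by
    rw [← Subgroup.mem_bot, ← hb]; exact ⟨_, rfl⟩
  have hc : seedF (seedW.getD 0 []) ∈ Subgroup.center ↥fourRu := (QuotientGroup.eq_one_iff _).1 hm
  have e := seed_not_central
  rw [H93.Coset.force_eq, H93.Coset.force_eq, Bool.not_eq_true', ← Bool.not_eq_true, Nat.beq_eq] at e
  refine e ?_
  rw [← seedC_spec, ← code5_genF, ← code5_mul, ← code5_mul, Subgroup.mem_center_iff.1 hc]

theorem inf_center : twoRu ⊓ Subgroup.center ↥fourRu = Subgroup.zpowers (sI ^ 2) := by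
  refine le_antisymm (fun x hx => ?_) (Subgroup.zpowers_le.2 ⟨minus_one_mem, pow_mem sI_mem_center 2⟩)
  obtain ⟨hE, hZ⟩ := hx
  replace hZ : x ∈ Subgroup.zpowers sI := center_eq ▸ (show x ∈ Subgroup.center _ from hZ)
  rw [Subgroup.mem_zpowers_iff] at hZ
  obtain ⟨n, rfl⟩ := hZ
  obtain ⟨m, hm | hm⟩ : ∃ m, n = 2 * m ∨ n = 2 * m + 1 := ⟨n / 2, by omega⟩
  · subst hm
    rw [zpow_mul]
    exact Subgroup.zpow_mem _ (Subgroup.mem_zpowers _) m
  · subst hm
    exfalso
    refine sI_not_mem ?_
    have h2 : sI ^ (2 * m) ∈ twoRu := by rw [zpow_mul]; exact Subgroup.zpow_mem _ minus_one_mem m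
    rw [zpow_add_one] at hE
    exact (Subgroup.mul_mem_cancel_left _ h2).1 hE

theorem projRu_ker : projRu.ker.map twoRu.subtype = Subgroup.zpowers (sI ^ 2) := by
  rw [← inf_center]
  ext x
  constructor
  · rintro ⟨e, he, rfl⟩
    exact ⟨e.2, (QuotientGroup.eq_one_iff _).1 he⟩
  · rintro ⟨hE, hZ⟩
    exact ⟨⟨x, hE⟩, (QuotientGroup.eq_one_iff _).2 hZ, rfl⟩

theorem card_projRu_ker : Nat.card projRu.ker = 2 := by
  rw [Nat.card_congr (projRu.ker.equivMapOfInjective twoRu.subtype twoRu.subtype_injective).toEquiv, projRu_ker, Nat.card_zpowers,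
    orderOf_pow' _ (by norm_num), sI_order]
  rfl

theorem card_twoRu : Nat.card twoRu = 291852288000 := by
  rw [Subgroup.card_eq_card_quotient_mul_card_subgroup projRu.ker, card_projRu_ker,
    Nat.card_congr (QuotientGroup.quotientKerEquivOfSurjective _ projRu_surjective).toEquiv, card_Ru]

theorem ker_le_center : projRu.ker ≤ Subgroup.center twoRu := fun e he =>
  Subgroup.mem_center_iff.2 fun x => Subtype.ext
    (Subgroup.mem_center_iff.1 ((QuotientGroup.eq_one_iff e.1).1 he) x.1)

theorem twoRu_perfect : commutator twoRu = ⊤ := by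
  have hEZ : ∀ g : ↥fourRu, ∃ e ∈ twoRu, ∃ z ∈ Subgroup.center ↥fourRu, g = e * z := fun g => by
    obtain ⟨e, he⟩ := projRu_surjective (QuotientGroup.mk' _ g)
    exact ⟨e.1, e.2, e.1⁻¹ * g, QuotientGroup.eq.1 he, (mul_inv_cancel_left _ _).symm⟩
  rw [eq_top_iff]
  intro x _
  have hle : twoRu ≤ (commutator twoRu).map twoRu.subtype := by
    rw [Subgroup.map_subtype_commutator, twoRu, commutator_def, Subgroup.commutator_le]
    intro a _ b _
    obtain ⟨a', ha', u, hu, rfl⟩ := hEZ a
    obtain ⟨b', hb', v, hv, rfl⟩ := hEZ b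
    have cu := Subgroup.mem_center_iff.1 hu
    have cv := Subgroup.mem_center_iff.1 hv
    rw [show ⁅a' * u, b' * v⁆ = ⁅a', b'⁆ from by
      simp only [commutatorElement_def, mul_inv_rev]
      calc a' * u * (b' * v) * (u⁻¹ * a'⁻¹) * (v⁻¹ * b'⁻¹)
          = a' * (u * b') * v * u⁻¹ * a'⁻¹ * v⁻¹ * b'⁻¹ := by group
        _ = a' * b' * ((u * v) * u⁻¹) * a'⁻¹ * v⁻¹ * b'⁻¹ := by rw [← cu b']; group
        _ = a' * b' * (v * a'⁻¹) * v⁻¹ * b'⁻¹ := by rw [← cu v, mul_inv_cancel_right]; group
        _ = a' * b' * a'⁻¹ * b'⁻¹ := by rw [← cv a'⁻¹]; group]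
    exact Subgroup.commutator_mem_commutator ha' hb'
  obtain ⟨y, hy, e⟩ := hle x.2
  exact (Subtype.ext e : y = x) ▸ hy

theorem not_dvd_twoRu {Γ : Type} [Group Γ] [Finite Γ] (D : Data) [Fact D.p.Prime] {vecs : List (List ℕ)}
    (hm : ∀ v ∈ D.syms, ∃ g : twoRu, code5 g.1 = v)
    (h2 : H97.SchurCert.rulesOK cm one5 D = true) (h3 : H97.SchurCert.defsOK D = true)
    (h4 : H97.SchurCert.pcOK D = true) (h5 : H26.CertLin.combosLOK D vecs = true)
    (hbig : ∀ val : ℕ → twoRu, (∀ i, (coding5 twoRu).code (val i) = D.syms.getD i one5) →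
      D.p ^ D.n ≤ Nat.card (Subgroup.closure (val '' {k | k < D.n})))
    {M : ℕ} (hcard : 291852288000 = D.p ^ D.n * M) (hM : ¬ D.p ∣ M)
    (σ : Γ →* twoRu) (hσ : Cfsg.IsStemExtension σ) : ¬ D.p ∣ Nat.card σ.ker :=
  H97.SchurCert.not_dvd_card_ker_gen (coding5 twoRu) D hm h2 h3 h4 (H26.CertLin.kill_of_lists h5) hbig
    (card_twoRu.trans hcard) hM σ hσ

theorem big_two (val : ℕ → twoRu) (hval : ∀ i, (coding5 twoRu).code (val i) = data2.syms.getD i one5) :
    data2.p ^ data2.n ≤ Nat.card (Subgroup.closure (val '' {k | k < data2.n})) := by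
  let f : ℕ → ↥fourRu := fun s => if s < 15 then (val s).1 else 1
  have hf : ∀ s, code5 (f s) = ser15.getD s one5 := fun s => by
    by_cases hs : s < 15
    · have := hval s
      simp only [f, if_pos hs]
      refine this.trans ?_
      show symsL2.getD s one5 = (symsL2.take 15).getD s one5
      simp [List.getD_eq_getElem?_getD, List.getElem?_take, hs]
    · simp only [f, if_neg hs]
      rw [code5_one, List.getD_eq_default _ _ (by rw [ser_len.1]; omega)]
  have h := chain_ge hf chain15_ok
  rw [ser_len.1] at h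
  show 2 ^ 15 ≤ Nat.card (Subgroup.closure (val '' {k | k < 15}))
  refine h.trans (le_of_eq ?_)
  rw [show f '' {k | k < 15} = twoRu.subtype '' (val '' {k | k < 15}) from by
    rw [Set.image_image]
    exact Set.image_congr fun k hk => by simp only [f, if_pos (show k < 15 from hk)]; rfl,
    ← MonoidHom.map_closure, ← Nat.card_congr ((Subgroup.closure (val '' {k | k < 15})).equivMapOfInjective twoRu.subtype twoRu.subtype_injective).toEquiv]

theorem twoRu_trivial : Cfsg.HasCyclicSchurMultiplier twoRu 1 := by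
  refine H97.hasTrivialMultiplier fun Γ _ _ σ hσ => ?_
  rw [← Subgroup.card_eq_one]
  by_contra hne
  obtain ⟨p, hp, hdvd⟩ := Nat.exists_prime_and_dvd hne
  haveI := Fact.mk hp
  have hsq := H97.SchurCert.sq_dvd_of_dvd_card_ker σ hσ hdvd
  rw [card_twoRu] at hsq
  have hmem : p ∈ Nat.primeFactorsList 291852288000 :=
    (Nat.mem_primeFactorsList (by norm_num)).2 ⟨hp, (dvd_pow_self p two_ne_zero).trans hsq⟩
  simp only [Nat.primeFactorsList_ofNat, List.mem_cons, List.not_mem_nil, or_false] at hmem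
  have h6 : p = 2 ∨ p = 3 ∨ p = 5 ∨ p = 7 ∨ p = 13 ∨ p = 29 := by omega
  rcases h6 with rfl | rfl | rfl | rfl | rfl | rfl
  · haveI : Fact data2.p.Prime := ⟨Nat.prime_two⟩
    exact not_dvd_twoRu data2 (syms_mem sel2_ok) rules2_ok defs2_ok pc2_ok lin2_ok big_two (M := 8906625)
      rfl (by decide) σ hσ hdvd
  · haveI : Fact data3.p.Prime := ⟨Nat.prime_three⟩
    exact not_dvd_twoRu data3 (syms_mem sel3_ok) rules3_ok defs3_ok pc3_ok lin3_ok
      (fun val hval => H26.CertLin.big_of_size (coding5 twoRu) data3 size3_ok val hval) (M := 10809344000)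
      rfl (by decide) σ hσ hdvd
  · haveI : Fact data5.p.Prime := ⟨by show Nat.Prime 5; norm_num⟩
    exact not_dvd_twoRu data5 (syms_mem sel5_ok) rules5_ok defs5_ok pc5_ok lin5_ok
      (fun val hval => H26.CertLin.big_of_size (coding5 twoRu) data5 size5_ok val hval) (M := 2334818304)
      rfl (by decide) σ hσ hdvd
  all_goals norm_num at hsq

theorem schur_Ru : Cfsg.HasCyclicSchurMultiplier Ru 2 := by
  haveI : IsCyclic projRu.ker := by
    haveI : Fact (Nat.Prime 2) := ⟨Nat.prime_two⟩
    exact isCyclic_of_prime_card card_projRu_ker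
  exact H26.hasCyclicSchurMultiplier_of_cyclic_cover projRu projRu_surjective ker_le_center card_projRu_ker
    twoRu_perfect twoRu_trivial

end H91.Ru
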