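/- Checks for the automorphisms of the Rudvalis group. -/
import Mathlib
import Cfsg.Agent.H91.Ru.Defs
import Cfsg.Agent.H91.Ru.OutData

set_option autoImplicit false
set_option maxRecDepth 100000

noncomputable section

namespace H91.Ru

open H93.Coset (allRange pathEnd walk force)

/-- words of the letters: the element of order 29, of order 14, the involution, a centralising element, the unit -/
def wordL : ℕ → List ℕ
  | 0 => outWX
  | 1 => outWY
  | 2 => outWE
  | 3 => outWU
  | _ => [2]

/-- the letters on numbers of vectors -/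
def pT : ℕ → ℕ → ℕ
  | 0, i => lk 16 outPX i
  | 1, i => lk 16 outPY i
  | 2, i => lk 16 outPE i
  | 3, i => lk 16 outPU i
  | _, i => permT 2 i

noncomputable def tabChk (i : ℕ) : Bool :=
  walk permT outWX i (fun e => Nat.beq e (pT 0 i)) && walk permT outWY i (fun e => Nat.beq e (pT 1 i)) &&
  walk permT outWE i (fun e => Nat.beq e (pT 2 i)) && walk permT outWU i (fun e => Nat.beq e (pT 3 i))

/-- `c` turns -/
def turnN : ℕ → ℕ → ℕ
  | 0, i => i
  | c + 1, i => turnN c (permT 2 i)

/-- equality up to a scalar of the elements of two words -/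
noncomputable def scalEqT (T T' : ℕ → ℕ → ℕ) (a b : List ℕ) : Bool :=
  [0, 1, 2, 3].any fun c => (List.range 6).all fun t =>
    Nat.beq (pathEnd T a (baseI.getD t 0)) (turnN c (pathEnd T' b (baseI.getD t 0)))

/-- the two products of a pair -/
noncomputable def hP (i j : ℕ) : ℕ := dotC (recOf i) (recOf j) + 8192 * dotC (recOf i) (recOf (permT 2 j))

noncomputable def selfGo (sp sq : ℕ → ℕ) (r v : ℕ) : ℕ → ℕ → ℕ → Bool
  | 0, _, _ => true
  | len + 1, p, q => Nat.beq (hP p r) (hP q v) && force (sp p) fun p' => force (sq q) fun q' => selfGo sp sq r v len p' q'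

noncomputable def crossGo (sp sq : ℕ → ℕ) (j v : ℕ) : ℕ → ℕ → ℕ → Bool
  | 0, _, _ => true
  | len + 1, p, q => Nat.beq (hP j p) (hP v q) && force (sp p) fun p' => force (sq q) fun q' => crossGo sp sq j v len p' q'

/-- data of a centraliser search: letter, order, two vectors, representatives, solutions -/
structure CentData where
  a : ℕ
  n : ℕ
  v0 : ℕ
  v1 : ℕ
  reps : List ℕ
  found : List (ℕ × List ℕ)

noncomputable def stepC (D : CentData) (c i : ℕ) : ℕ := turnN c (pT D.a i)

noncomputable def candChk (D : CentData) (c r : ℕ) : Bool :=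
  !(selfGo (stepC D c) (pT D.a) r D.v0 D.n r D.v0) ||
    allRange 0 16240 fun j =>
      !(crossGo (stepC D c) (pT D.a) j D.v1 D.n r D.v0) || !(selfGo (stepC D c) (pT D.a) j D.v1 D.n j D.v1) ||
        D.found.any fun e => Nat.beq e.1 c && walk pT e.2 D.v0 (fun q => Nat.beq q r) && walk pT e.2 D.v1 (fun q => Nat.beq q j)

noncomputable def searchOK (D : CentData) : Bool :=
  D.reps.all fun r => Nat.blt r 16240 && [0, 1, 2, 3].all fun c => candChk D c r

noncomputable def foundOK (D : CentData) : Bool :=
  Nat.blt D.v0 16240 && Nat.blt D.v1 16240 && D.found.all fun e => (List.range 6).all fun t =>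
    Nat.beq (pathEnd pT (D.a :: e.2) (baseI.getD t 0)) (turnN e.1 (pathEnd pT (e.2 ++ [D.a]) (baseI.getD t 0)))

noncomputable def uniqChk (D : CentData) (t : ℕ) : Bool :=
  allRange 0 16240 fun j => Nat.beq j (baseI.getD t 0) ||
    !(crossGo (pT D.a) (pT D.a) j (baseI.getD t 0) D.n D.v0 D.v0) ||
    !(crossGo (pT D.a) (pT D.a) j (baseI.getD t 0) D.n D.v1 D.v1)

noncomputable def uniqOK (D : CentData) : Bool := (List.range 6).all fun t => uniqChk D t

noncomputable def coverGo (sp : ℕ → ℕ) : ℕ → ℕ → ℕ → ℕ
  | 0, _, m => m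
  | len + 1, p, m =>
    force (permT 2 p) fun p1 => force (permT 2 p1) fun p2 => force (permT 2 p2) fun p3 => force (sp p) fun p' =>
      force (Nat.lor (Nat.lor (2 ^ p) (2 ^ p1)) (Nat.lor (2 ^ p2) (2 ^ p3))) fun b => coverGo sp len p' (Nat.lor m b)

noncomputable def coverAll (D : CentData) : List ℕ → ℕ → ℕ
  | [], m => m
  | r :: l, m => force (coverGo (pT D.a) D.n r m) fun m' => coverAll D l m'

noncomputable def coverOK (D : CentData) : Bool :=
  force (coverAll D D.reps 0) fun m => allRange 0 16240 fun i => Nat.testBit m i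

def centX : CentData := ⟨0, 29, 0, 0, outRepsX, [(0, [])]⟩

def centY : CentData := ⟨1, 14, 1, 2, outRepsY, [(0, []), (2, [3])]⟩

/-- the candidates for the image of the involution -/
def candW (s i : ℕ) : List ℕ := List.replicate s 3 ++ List.replicate i 1 ++ [2]

/-- the two relations -/
def testW : List (List ℕ) :=
  [(List.replicate 8 [0, 0, 0, 1, 2]).flatten, (List.replicate 7 [0, 2, 1, 1]).flatten]

/-- substitute into a word -/
def substW (k : ℕ) (e' : List ℕ) : List ℕ → List ℕ
  | [] => []
  | g :: w => (if g = 0 then List.replicate k 0 else if g = 2 then e' else [g]) ++ substW k e' w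

noncomputable def killOK : Bool :=
  [1, 2].all fun k => [0, 1].all fun s => (List.range 14).all fun i =>
    (Nat.beq k 1 && Nat.beq s 0 && Nat.beq i 0) ||
      testW.any fun w => !(scalEqT pT pT (substW k (candW s i) w) [])

noncomputable def relsOK : Bool :=
  scalEqT pT pT (List.replicate 29 0) [] && !(scalEqT pT pT [0] []) &&
  scalEqT pT pT [0, 1] [1, 0, 0, 0, 0] && scalEqT pT pT (List.replicate 14 1) [] &&
  scalEqT pT pT [1, 2] (2 :: List.replicate 13 1) &&
  testW.all (fun w => scalEqT pT pT w [] && w.all fun g => Nat.blt g 3) &&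
  scalEqT permT pT [0] genWord0 && scalEqT permT pT [1] genWord1 &&
  genWord0.all (fun g => Nat.blt g 5) && genWord1.all (fun g => Nat.blt g 5)

end H91.Ru
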