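/- Kernel checks for the automorphisms of the Rudvalis group: centraliser of the element of order 29. -/
import Cfsg.Agent.H91.Ru.OutDefs

set_option autoImplicit false
set_option maxRecDepth 100000

namespace H91.Ru

theorem searchX_ok : searchOK centX = true := by decide +kernel

theorem foundX_ok : foundOK centX = true := by decide +kernel

theorem uniqX_ok : uniqOK centX = true := by decide +kernel

theorem coverX_ok : coverOK centX = true := by decide +kernel

theorem rels_ok : relsOK = true := by decide +kernel

theorem kill_ok : killOK = true := by decide +kernel

end H91.Ru
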