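/- Kernel checks for the automorphisms of the Rudvalis group: centraliser of the element of order 14. -/
import Cfsg.Agent.H91.Ru.OutDefs

set_option autoImplicit false
set_option maxRecDepth 100000

namespace H91.Ru

theorem searchY_ok : searchOK centY = true := by decide +kernel

theorem foundY_ok : foundOK centY = true := by decide +kernel

theorem uniqY_ok : uniqOK centY = true := by decide +kernel

theorem coverY_ok : coverOK centY = true := by decide +kernel

end H91.Ru
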