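/- Soundness of the centraliser searches in the automorphism group of the lattice. -/
import Mathlib
import Cfsg.Agent.H91.Ru.Quot
import Cfsg.Agent.H91.Ru.ChkOutTab
import Cfsg.Agent.H91.Ru.ChkCentX
import Cfsg.Agent.H91.Ru.ChkCentY

set_option autoImplicit false
set_option maxRecDepth 100000

noncomputable section

namespace H91.Ru

open Cfsg.Spor H62.Ru
open H93.Coset (allRange allRange_spec pathEnd walk_eq force_eq)

/-- the element of a letter -/
def elL (g : ℕ) : ↥fourRu := wordF (wordL g)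

theorem elL_vec (g : ℕ) {i : ℕ} (h : i < 16240) :
    pT g i < 16240 ∧ (elL g).1 (vec i) = vec (pT g i) := by
  have e : pathEnd permT (wordL g) i = pT g i := by
    have hc := tabChk_ok i h
    simp only [tabChk, walk_eq, Bool.and_eq_true, Nat.beq_eq] at hc
    match g with
    | 0 => exact hc.1.1.1
    | 1 => exact hc.1.1.2
    | 2 => exact hc.1.2
    | 3 => exact hc.2
    | _ + 4 => rfl
  exact ⟨e ▸ pathEnd_lt _ h, by rw [elL, wordF_vec _ h, e]⟩

/-- the element of a word in the letters, first letter acting first -/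
def wordE : List ℕ → ↥fourRu
  | [] => 1
  | g :: w => wordE w * elL g

theorem wordE_append : ∀ a b : List ℕ, wordE (a ++ b) = wordE b * wordE a
  | [], b => (mul_one _).symm
  | g :: a, b => by
    show wordE (a ++ b) * elL g = wordE b * (wordE a * elL g)
    rw [wordE_append a b, mul_assoc]

theorem wordE_vec : ∀ (w : List ℕ) {i : ℕ}, i < 16240 →
    pathEnd pT w i < 16240 ∧ (wordE w).1 (vec i) = vec (pathEnd pT w i)
  | [], _, h => ⟨h, rfl⟩
  | g :: w, i, h => by
    obtain ⟨h1, h2⟩ := elL_vec g h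
    obtain ⟨h3, h4⟩ := wordE_vec w h1
    refine ⟨h3, ?_⟩
    show (wordE w).1 ((elL g).1 (vec i)) = _
    rw [h2, h4]
    rfl

theorem wordE_replicate (g : ℕ) : ∀ n, wordE (List.replicate n g) = elL g ^ n
  | 0 => rfl
  | n + 1 => by
    show wordE (List.replicate n g) * elL g = _
    rw [wordE_replicate g n, pow_succ]

theorem wordE_flatten (w : List ℕ) : ∀ n, wordE (List.replicate n w).flatten = wordE w ^ n
  | 0 => rfl
  | n + 1 => by
    rw [List.replicate_succ, List.flatten_cons, wordE_append, wordE_flatten w n, pow_succ]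

theorem elL_unit (g : ℕ) : elL (g + 4) = sI := one_mul _

theorem turnN_eq : ∀ (c i : ℕ), turnN c i = pathEnd permT (List.replicate c 2) i
  | 0, _ => rfl
  | c + 1, i => turnN_eq c (permT 2 i)

theorem turnN_lt (c : ℕ) {i : ℕ} (h : i < 16240) : turnN c i < 16240 := turnN_eq c i ▸ pathEnd_lt _ h

theorem sIpow_turn (c : ℕ) {i : ℕ} (h : i < 16240) : (sI ^ c).1 (vec i) = vec (turnN c i) := by
  rw [turnN_eq]; exact sIpow_apply c h

theorem eq_of_base {A B : ↥fourRu} (h : ∀ t < 6, A.1 (sv t) = B.1 (sv t)) : A = B := by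
  refine (inv_mul_eq_one.1 (fix_six (φ := B⁻¹ * A) fun t ht => ?_)).symm
  show B.1⁻¹ (A.1 (sv t)) = sv t
  rw [h t ht]
  exact Equiv.symm_apply_apply _ _

theorem pow_scalar_comm (c : ℕ) (g : ↥fourRu) : g * sI ^ c = sI ^ c * g :=
  Subgroup.mem_center_iff.1 (Subgroup.pow_mem _ sI_mem_center c) g

/-- the quotient map -/
def piRu : ↥fourRu →* Ru := QuotientGroup.mk' (Subgroup.center ↥fourRu)

theorem piRu_scalar (c : ℕ) : piRu (sI ^ c) = 1 :=
  (QuotientGroup.eq_one_iff _).2 (Subgroup.pow_mem _ sI_mem_center c)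

theorem piRu_eq_iff (A B : ↥fourRu) : piRu A = piRu B ↔ ∃ c < 4, A = sI ^ c * B := by
  constructor
  · intro h
    have h' : piRu (A * B⁻¹) = 1 := by rw [map_mul, map_inv, h, mul_inv_cancel]
    have hz : A * B⁻¹ ∈ Subgroup.zpowers sI := center_eq ▸ (QuotientGroup.eq_one_iff _).1 h'
    obtain ⟨n, hn⟩ := mem_powers_iff_mem_zpowers.mpr hz
    refine ⟨n % 4, Nat.mod_lt _ (by norm_num), ?_⟩
    have hn' : sI ^ n = A * B⁻¹ := hn
    have h4 : sI ^ (n % 4) = sI ^ n := by
      conv_rhs => rw [← Nat.mod_add_div n 4, pow_add, pow_mul, sI_four, one_pow, mul_one]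
    rw [h4, hn', inv_mul_cancel_right]
  · rintro ⟨c, -, rfl⟩
    rw [map_mul, piRu_scalar, one_mul]

theorem scalEq_pT {a b : List ℕ} (h : scalEqT pT pT a b = true) : piRu (wordE a) = piRu (wordE b) := by
  simp only [scalEqT, List.any_eq_true, List.all_eq_true, List.mem_range, Nat.beq_eq] at h
  obtain ⟨c, -, hc⟩ := h
  have e : wordE a = sI ^ c * wordE b := eq_of_base fun t ht => by
    obtain ⟨ha, ea⟩ := wordE_vec a (base_lt ht)
    obtain ⟨hb, eb⟩ := wordE_vec b (base_lt ht)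
    rw [← baseI_sv ht, ea, hc t ht]
    show _ = (sI ^ c).1 ((wordE b).1 (vec (baseI.getD t 0)))
    rw [eb, sIpow_turn c hb]
  rw [e, map_mul, piRu_scalar, one_mul]

theorem scalNe_pT {a b : List ℕ} (h : scalEqT pT pT a b = false) : piRu (wordE a) ≠ piRu (wordE b) := fun e => by
  obtain ⟨c, hc, e⟩ := (piRu_eq_iff _ _).1 e
  refine Bool.eq_false_iff.1 h ?_
  simp only [scalEqT, List.any_eq_true, List.all_eq_true, List.mem_range, Nat.beq_eq]
  refine ⟨c, ?_, fun t ht => ?_⟩
  · simp; omega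
  obtain ⟨ha, ea⟩ := wordE_vec a (base_lt ht)
  obtain ⟨hb, eb⟩ := wordE_vec b (base_lt ht)
  refine vec_inj ha (turnN_lt c hb) ?_
  rw [← ea, e]
  show (sI ^ c).1 ((wordE b).1 (vec (baseI.getD t 0))) = _
  rw [eb, sIpow_turn c hb]

theorem scalEq_perm {a b : List ℕ} (h : scalEqT permT pT a b = true) : piRu (wordF a) = piRu (wordE b) := by
  simp only [scalEqT, List.any_eq_true, List.all_eq_true, List.mem_range, Nat.beq_eq] at h
  obtain ⟨c, -, hc⟩ := h
  have e : wordF a = sI ^ c * wordE b := eq_of_base fun t ht => by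
    obtain ⟨hb, eb⟩ := wordE_vec b (base_lt ht)
    rw [← baseI_sv ht, wordF_vec a (base_lt ht), hc t ht]
    show _ = (sI ^ c).1 ((wordE b).1 (vec (baseI.getD t 0)))
    rw [eb, sIpow_turn c hb]
  rw [e, map_mul, piRu_scalar, one_mul]

/-! ### products of pairs -/

theorem hP_inv (G : ↥fourRu) {i j i' j' : ℕ} (hi : i < 16240) (hj : j < 16240) (hi' : i' < 16240)
    (hj' : j' < 16240) (ei : G.1 (vec i) = vec i') (ej : G.1 (vec j) = vec j') : hP i' j' = hP i j := by
  have key : ∀ a b : ℕ, a < 16240 → b < 16240 → (hP a b : ℤ) =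
      4096 + dot (vec a : RuVec) (vec b : RuVec) + 8192 * (4096 + dot (vec a : RuVec) (ruI (vec b) : RuVec)) := by
    intro a b ha hb
    rw [hP, ← vec_turn hb, vec_val ha, vec_val hb, vec_val (permT_lt 2 hb)]
    push_cast
    rw [dotC_dot (val_rec ha) (val_rec hb), dotC_dot (val_rec ha) (val_rec (permT_lt 2 hb))]
  have e : (hP i' j' : ℤ) = hP i j := by
    rw [key _ _ hi' hj', key _ _ hi hj, ← ei, ← ej, ← aut_gI, aut_dot, aut_dot]
  exact_mod_cast e

/-- an element commuting with the letter up to a scalar transports orbits -/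
theorem step_transport (D : CentData) {c : ℕ} {G : ↥fourRu} (hG : G * elL D.a = sI ^ c * (elL D.a * G))
    {p q : ℕ} (hp : p < 16240) (hq : q < 16240) (e : G.1 (vec q) = vec p) :
    stepC D c p < 16240 ∧ pT D.a q < 16240 ∧ G.1 (vec (pT D.a q)) = vec (stepC D c p) := by
  obtain ⟨h1, h2⟩ := elL_vec D.a hq
  obtain ⟨h3, h4⟩ := elL_vec D.a hp
  refine ⟨turnN_lt c h3, h1, ?_⟩
  rw [← h2]
  show (G * elL D.a).1 (vec q) = _
  rw [hG]
  show (sI ^ c).1 ((elL D.a).1 (G.1 (vec q))) = _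
  rw [e, h4, sIpow_turn c h3]
  rfl

theorem selfGo_ok (D : CentData) {c : ℕ} {G : ↥fourRu} (hG : G * elL D.a = sI ^ c * (elL D.a * G))
    {r v : ℕ} (hr : r < 16240) (hv : v < 16240) (er : G.1 (vec v) = vec r) :
    ∀ (len p q : ℕ), p < 16240 → q < 16240 → G.1 (vec q) = vec p →
      selfGo (stepC D c) (pT D.a) r v len p q = true
  | 0, _, _, _, _, _ => rfl
  | len + 1, p, q, hp, hq, e => by
    obtain ⟨h1, h2, h3⟩ := step_transport D hG hp hq e
    rw [selfGo, hP_inv G hq hv hp hr e er, Nat.beq_refl, force_eq, force_eq,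
      selfGo_ok D hG hr hv er len _ _ h1 h2 h3]
    rfl

theorem crossGo_ok (D : CentData) {c : ℕ} {G : ↥fourRu} (hG : G * elL D.a = sI ^ c * (elL D.a * G))
    {j v : ℕ} (hj : j < 16240) (hv : v < 16240) (ej : G.1 (vec v) = vec j) :
    ∀ (len p q : ℕ), p < 16240 → q < 16240 → G.1 (vec q) = vec p →
      crossGo (stepC D c) (pT D.a) j v len p q = true
  | 0, _, _, _, _, _ => rfl
  | len + 1, p, q, hp, hq, e => by
    obtain ⟨h1, h2, h3⟩ := step_transport D hG hp hq e
    rw [crossGo, hP_inv G hv hq hj hp ej e, Nat.beq_refl, force_eq, force_eq,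
      crossGo_ok D hG hj hv ej len _ _ h1 h2 h3]
    rfl

theorem fixed_orbit (D : CentData) {c : ℕ} {G S : ↥fourRu} (hG : G * elL D.a = sI ^ c * (elL D.a * G))
    (hS : S * elL D.a = sI ^ c * (elL D.a * S)) : ∀ (m : ℕ) {p q : ℕ}, p < 16240 → q < 16240 →
      G.1 (vec q) = vec p → S.1 (vec q) = vec p →
        (S⁻¹ * G).1 (vec (pathEnd pT (List.replicate m D.a) q)) = vec (pathEnd pT (List.replicate m D.a) q)
  | 0, p, q, _, _, e, e' => by
    show S.1⁻¹ (G.1 (vec q)) = vec q
    rw [e, ← e']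
    exact Equiv.symm_apply_apply _ _
  | m + 1, p, q, hp, hq, e, e' => by
    obtain ⟨h1, h2, h3⟩ := step_transport D hG hp hq e
    obtain ⟨-, -, h3'⟩ := step_transport D hS hp hq e'
    exact fixed_orbit D hG hS m h1 h2 h3 h3'

theorem crossGo_fix (D : CentData) {F : ↥fourRu} {b j : ℕ} (hb : b < 16240) (hj : j < 16240)
    (eb : F.1 (vec b) = vec j) : ∀ (len : ℕ) {q : ℕ}, q < 16240 →
      (∀ m < len, F.1 (vec (pathEnd pT (List.replicate m D.a) q)) = vec (pathEnd pT (List.replicate m D.a) q)) →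
      crossGo (pT D.a) (pT D.a) j b len q q = true
  | 0, _, _, _ => rfl
  | len + 1, q, hq, h => by
    rw [crossGo, hP_inv F hb hq hj hq eb (h 0 (by omega)), Nat.beq_refl, force_eq, force_eq,
      crossGo_fix D hb hj eb len (elL_vec D.a hq).1 fun m hm => h (m + 1) (by omega)]
    rfl

/-- what is checked about a centraliser -/
structure CentCert (D : CentData) : Prop where
  search : searchOK D = true
  found : foundOK D = true
  uniq : uniqOK D = true
  cover : coverOK D = true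

theorem certX : CentCert centX := ⟨searchX_ok, foundX_ok, uniqX_ok, coverX_ok⟩

theorem certY : CentCert centY := ⟨searchY_ok, foundY_ok, uniqY_ok, coverY_ok⟩

theorem coverGo_sound (sp : ℕ → ℕ) : ∀ (len p m i : ℕ), Nat.testBit (coverGo sp len p m) i = true →
    Nat.testBit m i = true ∨ ∃ k < len, ∃ d < 4, i = turnN d (sp^[k] p)
  | 0, _, _, _, h => Or.inl h
  | len + 1, p, m, i, h => by
    rw [coverGo] at h
    simp only [force_eq] at h
    rcases coverGo_sound sp len _ _ i h with h' | ⟨k, hk, d, hd, e⟩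
    · have h'' : (m ||| ((2 ^ p ||| 2 ^ permT 2 p) ||| (2 ^ permT 2 (permT 2 p) ||| 2 ^ permT 2 (permT 2 (permT 2 p))))).testBit i = true := h'
      simp only [Nat.testBit_or, Nat.testBit_two_pow, Bool.or_eq_true, decide_eq_true_eq] at h''
      rcases h'' with h'' | (h'' | h'') | (h'' | h'')
      · exact Or.inl h''
      · exact Or.inr ⟨0, by omega, 0, by omega, h''.symm⟩
      · exact Or.inr ⟨0, by omega, 1, by omega, h''.symm⟩
      · exact Or.inr ⟨0, by omega, 2, by omega, h''.symm⟩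
      · exact Or.inr ⟨0, by omega, 3, by omega, h''.symm⟩
    · exact Or.inr ⟨k + 1, by omega, d, hd, e⟩

theorem coverAll_sound (D : CentData) : ∀ (l : List ℕ) (m i : ℕ), Nat.testBit (coverAll D l m) i = true →
    Nat.testBit m i = true ∨ ∃ r ∈ l, ∃ k < D.n, ∃ d < 4, i = turnN d ((pT D.a)^[k] r)
  | [], _, _, h => Or.inl h
  | r :: l, m, i, h => by
    rw [coverAll, force_eq] at h
    rcases coverAll_sound D l _ i h with h' | ⟨r', hr', e⟩
    · rcases coverGo_sound _ _ _ _ _ h' with h'' | e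
      · exact Or.inl h''
      · exact Or.inr ⟨r, List.mem_cons_self .., e⟩
    · exact Or.inr ⟨r', List.mem_cons_of_mem _ hr', e⟩

theorem iterate_vec (g : ℕ) : ∀ (k : ℕ) {r : ℕ}, r < 16240 →
    (pT g)^[k] r < 16240 ∧ (elL g ^ k).1 (vec r) = vec ((pT g)^[k] r)
  | 0, _, h => ⟨h, rfl⟩
  | k + 1, r, h => by
    obtain ⟨h1, h2⟩ := elL_vec g h
    obtain ⟨h3, h4⟩ := iterate_vec g k h1
    refine ⟨h3, ?_⟩
    rw [pow_succ]
    show (elL g ^ k).1 ((elL g).1 (vec r)) = _
    rw [h2, h4]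
    rfl

/-- the centraliser of a letter modulo scalars -/
theorem cent_sound {D : CentData} (hD : CentCert D) {G : ↥fourRu}
    (hG : piRu G * piRu (elL D.a) = piRu (elL D.a) * piRu G) :
    ∃ k : ℕ, ∃ e ∈ D.found, piRu G = piRu (elL D.a) ^ k * piRu (wordE e.2) := by
  rw [← map_mul, ← map_mul, piRu_eq_iff] at hG
  obtain ⟨c, hc, hG⟩ := hG
  have hf := hD.found
  simp only [foundOK, Bool.and_eq_true, Nat.blt_eq, List.all_eq_true, List.mem_range, Nat.beq_eq] at hf
  obtain ⟨⟨hv0, hv1⟩, hf⟩ := hf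
  obtain ⟨w, hw, ew⟩ := exists_img G hv0
  have hcov := hD.cover
  rw [coverOK, force_eq] at hcov
  rcases coverAll_sound D _ _ _ (allRange_spec hcov w (Nat.zero_le _) (by omega)) with h0 | ⟨r, hr, k, -, d, -, hwr⟩
  · simp at h0
  have hsr := hD.search
  simp only [searchOK, List.all_eq_true, Bool.and_eq_true, Nat.blt_eq] at hsr
  obtain ⟨hr', hcand⟩ := hsr r hr
  have hcand := hcand c (by simp; omega)
  -- move the first vector to its representative
  set A := elL D.a with hA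
  set P := sI ^ d * A ^ k with hP'
  have hPr : P.1 (vec r) = vec w := by
    obtain ⟨h1, h2⟩ := iterate_vec D.a k hr'
    show (sI ^ d).1 ((A ^ k).1 (vec r)) = _
    rw [h2, sIpow_turn d h1, ← hwr]
  set G' := P⁻¹ * G with hG'
  have eG' : G'.1 (vec D.v0) = vec r := by
    show P.1⁻¹ (G.1 (vec D.v0)) = _
    rw [ew, ← hPr]
    exact Equiv.symm_apply_apply _ _
  have hPA : P * A = A * P := by
    rw [hP', mul_assoc, ← pow_succ, ← mul_assoc, pow_scalar_comm d A, mul_assoc, pow_succ']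
  have hPs : P * sI ^ c = sI ^ c * P := pow_scalar_comm c P
  have hcomm : G' * A = sI ^ c * (A * G') := by
    have h1 : P⁻¹ * sI ^ c = sI ^ c * P⁻¹ := pow_scalar_comm c P⁻¹
    have h2 : P⁻¹ * A = A * P⁻¹ := by
      rw [inv_mul_eq_iff_eq_mul, ← mul_assoc, hPA, mul_inv_cancel_right]
    rw [hG', mul_assoc, hG, ← mul_assoc, h1, mul_assoc, ← mul_assoc P⁻¹ A G, h2, mul_assoc]
  obtain ⟨j, hj, ej⟩ := exists_img G' hv1
  simp only [candChk, Bool.or_eq_true, Bool.not_eq_true'] at hcand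
  rw [selfGo_ok D hcomm hr' hv0 eG' D.n r D.v0 hr' hv0 eG'] at hcand
  have hcand := hcand.resolve_left (by simp)
  have hj' := allRange_spec hcand j (Nat.zero_le _) (by omega)
  rw [crossGo_ok D hcomm hj hv1 ej D.n r D.v0 hr' hv0 eG',
    selfGo_ok D hcomm hj hv1 ej D.n j D.v1 hj hv1 ej] at hj'
  simp only [Bool.not_true, Bool.false_or, List.any_eq_true, Bool.and_eq_true, walk_eq, Nat.beq_eq] at hj'
  obtain ⟨e, he, ⟨hec, her⟩, hej⟩ := hj'
  obtain ⟨hS0, eS0⟩ := wordE_vec e.2 hv0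
  obtain ⟨hS1, eS1⟩ := wordE_vec e.2 hv1
  rw [her] at eS0
  rw [hej] at eS1
  have hScomm : wordE e.2 * A = sI ^ c * (A * wordE e.2) := eq_of_base fun t ht => by
    obtain ⟨h1, h2⟩ := wordE_vec (D.a :: e.2) (base_lt ht)
    obtain ⟨h3, h4⟩ := wordE_vec (e.2 ++ [D.a]) (base_lt ht)
    rw [← baseI_sv ht]
    show (wordE (D.a :: e.2)).1 _ = _
    rw [h2, hf e he t ht, ← sIpow_turn _ h3, ← h4, hec, wordE_append]
    show _ = (sI ^ c).1 ((A * wordE e.2).1 (vec (baseI.getD t 0)))
    rw [show wordE [D.a] = A from one_mul _]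
  set F := (wordE e.2)⁻¹ * G' with hF
  have hF0 : ∀ m, F.1 (vec (pathEnd pT (List.replicate m D.a) D.v0)) = vec (pathEnd pT (List.replicate m D.a) D.v0) :=
    fun m => fixed_orbit D hcomm hScomm m hr' hv0 eG' eS0
  have hF1 : ∀ m, F.1 (vec (pathEnd pT (List.replicate m D.a) D.v1)) = vec (pathEnd pT (List.replicate m D.a) D.v1) :=
    fun m => fixed_orbit D hcomm hScomm m hj hv1 ej eS1
  have hF' : F = 1 := fix_six fun t ht => by
    obtain ⟨j', hj'', ej'⟩ := exists_img F (base_lt ht)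
    have hu := hD.uniq
    simp only [uniqOK, List.all_eq_true, List.mem_range] at hu
    have := allRange_spec (hu t ht) j' (Nat.zero_le _) (by omega)
    rw [crossGo_fix D (base_lt ht) hj'' ej' D.n hv0 fun m _ => hF0 m,
      crossGo_fix D (base_lt ht) hj'' ej' D.n hv1 fun m _ => hF1 m] at this
    simp only [Bool.not_true, Bool.or_false, Nat.beq_eq] at this
    rw [← baseI_sv ht, ej', this]
  rw [hF, inv_mul_eq_one] at hF'
  refine ⟨k, e, he, ?_⟩
  have : G = P * wordE e.2 := by rw [hF', hG', mul_inv_cancel_left]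
  rw [this, map_mul, hP', map_mul, piRu_scalar, one_mul, map_pow]

end H91.Ru
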