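/- Every automorphism of the Rudvalis group is inner. -/
import Mathlib
import Cfsg.Prelude.Def_KGroupFacts
import Cfsg.Agent.H95.OutCrit
import Cfsg.Agent.H91.Ru.OutLemmas

set_option autoImplicit false
set_option maxRecDepth 100000

noncomputable section

namespace H91.Ru

open Cfsg.Spor
open H93.Coset (allRange_spec)

/-- a criterion without outer automorphisms from an exhausted solution set -/
theorem out_card_eq_one {G : Type*} [Group G] [Finite G] {p : ℕ} [hp : Fact p.Prime] (x y e : G) (r k0 : ℕ)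
    (hsq : ¬ p ^ 2 ∣ Nat.card G) (hx : orderOf x = p) (hyx : y * x * y⁻¹ = x ^ r)
    (hcls : ∀ k < p, k ≠ 0 → ∃ c, r ^ c * k % p = 1 ∨ r ^ c * k % p = k0)
    (hN : ∀ g : G, g * x * g⁻¹ = x ^ r → ∃ a, x ^ a * g * (x ^ a)⁻¹ = y)
    (htest : ∀ (ψ : MulAut G) (k : ℕ), (k = 1 ∨ k = k0) → ψ x = x ^ k → ψ y = y → k = 1 ∧ ψ e = e)
    (hgen : ∀ ψ : MulAut G, ψ x = x → ψ y = y → ψ e = e → ψ = 1) :
    Nat.card (Cfsg.Out G) = 1 := by
  suffices key : ∀ φ : MulAut G, φ ∈ Cfsg.Inn G by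
    haveI : Subsingleton (Cfsg.Out G) := by
      refine ⟨fun a b => ?_⟩
      obtain ⟨a, rfl⟩ := QuotientGroup.mk_surjective a
      obtain ⟨b, rfl⟩ := QuotientGroup.mk_surjective b
      exact QuotientGroup.eq.mpr (key _)
    exact Nat.card_unique
  intro φ
  obtain ⟨g, hg⟩ := H95.exists_conj_zpowers hsq
    (by rw [MulEquiv.orderOf_eq, hx] : orderOf (φ x) = p) hx
  obtain ⟨k, hk⟩ := mem_powers_iff_mem_zpowers.mpr hg
  set φ₁ : MulAut G := MulAut.conj g * φ with hφ₁
  have h1x : φ₁ x = x ^ k := hk.symm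
  have hk0 : (k : ZMod p) ≠ 0 := fun h0 => by
    have h' : φ₁ x = 1 := by
      rw [h1x, ← pow_zero x]; exact H95.pow_eq_of_zmod hx (by rw [h0, Nat.cast_zero])
    have hx1 : x = 1 := φ₁.injective (h'.trans (map_one φ₁).symm)
    rw [hx1, orderOf_one] at hx
    exact hp.out.one_lt.ne hx
  have h1y : φ₁ y * x * (φ₁ y)⁻¹ = x ^ r := by
    have hxk : x = (x ^ k) ^ ((k : ZMod p)⁻¹).val := by
      conv_lhs => rw [← pow_one x]
      rw [← pow_mul]
      refine H95.pow_eq_of_zmod hx ?_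
      rw [Nat.cast_one, Nat.cast_mul, ZMod.natCast_zmod_val, mul_inv_cancel₀ hk0]
    have e1 : φ₁ y * x ^ k * (φ₁ y)⁻¹ = x ^ (k * r) := by
      rw [← h1x, ← map_inv, ← map_mul, ← map_mul, hyx, map_pow, h1x, ← pow_mul]
    conv_lhs => rw [hxk, ← conj_pow, e1, ← pow_mul]
    refine H95.pow_eq_of_zmod hx ?_
    rw [Nat.cast_mul, Nat.cast_mul, ZMod.natCast_zmod_val, mul_comm (k : ZMod p), mul_assoc,
      mul_inv_cancel₀ hk0, mul_one]
  obtain ⟨a, ha⟩ := hN _ h1y
  set φ₂ : MulAut G := MulAut.conj (x ^ a) * φ₁ with hφ₂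
  have h2x : φ₂ x = x ^ k := by
    show x ^ a * φ₁ x * (x ^ a)⁻¹ = x ^ k
    rw [h1x, ← pow_add, mul_inv_eq_iff_eq_mul, ← pow_add, add_comm]
  have h2y : φ₂ y = y := ha
  obtain ⟨c, hc⟩ := hcls (k % p) (Nat.mod_lt _ hp.out.pos) (fun h => hk0 (by
    rw [← ZMod.natCast_mod k p, h, Nat.cast_zero]))
  set ψ : MulAut G := MulAut.conj (y ^ c) * φ₂ with hψ
  obtain ⟨k', hk', h3x⟩ : ∃ k', (k' = 1 ∨ k' = k0) ∧ ψ x = x ^ k' := by
    refine ⟨r ^ c * (k % p) % p, hc, ?_⟩
    show y ^ c * φ₂ x * (y ^ c)⁻¹ = _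
    rw [h2x, H95.conj_pow_iter hyx]
    refine H95.pow_eq_of_zmod hx ?_
    rw [ZMod.natCast_mod, Nat.cast_mul, Nat.cast_mul, ZMod.natCast_mod]
  have h3y : ψ y = y := by
    show y ^ c * φ₂ y * (y ^ c)⁻¹ = y
    rw [h2y, mul_inv_eq_iff_eq_mul]
    exact (Commute.pow_self y c).eq
  obtain ⟨hk1, he⟩ := htest ψ k' hk' h3x h3y
  have h1 : ψ = 1 := hgen ψ (by rw [h3x, hk1, pow_one]) h3y he
  have e1 : φ = (MulAut.conj g)⁻¹ * (MulAut.conj (x ^ a))⁻¹ * (MulAut.conj (y ^ c))⁻¹ * ψ := by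
    rw [hψ, hφ₂, hφ₁]; group
  rw [e1, h1, mul_one]
  exact mul_mem (mul_mem (inv_mem ⟨g, rfl⟩) (inv_mem ⟨_, rfl⟩)) (inv_mem ⟨_, rfl⟩)

theorem classes_29 : ∀ k : Fin 29, k.val = 0 ∨ ∃ c : Fin 14, 4 ^ c.val * k.val % 29 = 1 ∨ 4 ^ c.val * k.val % 29 = 2 := by
  decide +kernel

theorem genWord_small : (∀ g ∈ genWord0, g < 3) ∧ ∀ g ∈ genWord1, g < 3 := by decide +kernel

/-- the element of order twenty-nine, of order fourteen, the involution -/
def xR : Ru := piRu (elL 0)
def yR : Ru := piRu (elL 1)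
def eR : Ru := piRu (elL 2)

theorem piRu_wordE (w : List ℕ) (a : ℕ) : piRu (wordE (a :: w)) = piRu (wordE w) * piRu (elL a) := map_mul piRu _ _

theorem piRu_rep (a n : ℕ) : piRu (wordE (List.replicate n a)) = piRu (elL a) ^ n := by
  rw [wordE_replicate, map_pow]

theorem piRu_pair (a b : ℕ) : piRu (wordE [a, b]) = piRu (elL b) * piRu (elL a) := by
  show piRu (1 * elL b * elL a) = _
  rw [one_mul, map_mul]

theorem subst_sound (ψ : MulAut Ru) (k : ℕ) (e' : List ℕ) (h0 : ψ xR = xR ^ k) (h1 : ψ yR = yR)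
    (h2 : ψ eR = piRu (wordE e')) : ∀ w : List ℕ, (∀ g ∈ w, g < 3) →
      ψ (piRu (wordE w)) = piRu (wordE (substW k e' w))
  | [], _ => by rw [substW, show wordE [] = 1 from rfl, map_one, map_one]
  | g :: w, h => by
    have hg : g < 3 := h g (List.mem_cons_self ..)
    rw [piRu_wordE, map_mul, subst_sound ψ k e' h0 h1 h2 w (fun x hx => h x (List.mem_cons_of_mem _ hx)),
      substW, wordE_append, map_mul]
    congr 1
    match g, hg with
    | 0, _ => rw [if_pos rfl, piRu_rep]; exact h0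
    | 1, _ =>
      rw [if_neg (by norm_num), if_neg (by norm_num), show wordE [1] = elL 1 from one_mul _]
      exact h1
    | 2, _ => rw [if_neg (by norm_num), if_pos rfl]; exact h2

theorem four_ne_one : ((4 : ℕ) : ZMod 29) ≠ 1 := by decide

theorem out_Ru : Nat.card (Cfsg.Out Ru) = 1 := by
  haveI : Finite Ru := Nat.finite_of_card_ne_zero (by rw [card_Ru]; norm_num)
  haveI : Fact (Nat.Prime 29) := ⟨by norm_num⟩
  have hr := rels_ok
  simp only [relsOK, Bool.and_eq_true, Bool.not_eq_true', List.all_eq_true, Nat.blt_eq] at hr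
  obtain ⟨⟨⟨⟨⟨⟨⟨⟨⟨r1, r2⟩, r3⟩, r4⟩, r5⟩, r6⟩, r7⟩, r8⟩, r9⟩, r10⟩ := hr
  have hone : piRu (wordE []) = 1 := map_one piRu
  have x29 : xR ^ 29 = 1 := by
    have := scalEq_pT r1; rwa [piRu_rep, hone] at this
  have xne : xR ≠ 1 := by
    have := scalNe_pT r2
    rwa [show piRu (wordE [0]) = xR by rw [show wordE [0] = elL 0 from one_mul _]; rfl, hone] at this
  have hord : orderOf xR = 29 := orderOf_eq_prime x29 xne
  have hyx : yR * xR * yR⁻¹ = xR ^ 4 := by
    have h := scalEq_pT r3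
    rw [piRu_pair, show ([1, 0, 0, 0, 0] : List ℕ) = 1 :: List.replicate 4 0 from rfl, piRu_wordE, piRu_rep] at h
    exact mul_inv_eq_iff_eq_mul.2 h
  have hy14 : yR ^ 14 = 1 := by
    have := scalEq_pT r4; rwa [piRu_rep, hone] at this
  have hey : eR * yR * eR⁻¹ = yR ^ 13 := by
    have h := scalEq_pT r5
    rw [piRu_pair, piRu_wordE, piRu_rep] at h
    exact mul_inv_eq_iff_eq_mul.2 h
  have hsq : ¬ 29 ^ 2 ∣ Nat.card Ru := by rw [card_Ru]; norm_num
  refine out_card_eq_one (p := 29) xR yR eR 4 2 hsq hord hyx (fun k hk hk0 => ?_) (fun g hg => ?_) ?_ ?_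
  · rcases classes_29 ⟨k, hk⟩ with h | ⟨c, h⟩
    · exact absurd h hk0
    · exact ⟨c.val, h⟩
  · obtain ⟨G, hG⟩ : ∃ G, piRu G = yR⁻¹ * g := QuotientGroup.mk'_surjective _ _
    have hcomm : piRu G * piRu (elL centX.a) = piRu (elL centX.a) * piRu G := by
      rw [hG]
      show yR⁻¹ * g * xR = xR * (yR⁻¹ * g)
      rw [mul_inv_eq_iff_eq_mul] at hg hyx
      rw [mul_assoc, hg, ← mul_assoc, ← mul_assoc, inv_mul_eq_iff_eq_mul.2 (show xR ^ 4 = yR * (xR * yR⁻¹) by
        rw [← mul_assoc, hyx, mul_inv_cancel_right])]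
    obtain ⟨k, e, he, hk⟩ := cent_sound certX hcomm
    have he' : e = (0, []) := List.mem_singleton.1 he
    rw [he', hone, mul_one, hG, inv_mul_eq_iff_eq_mul] at hk
    have hk' : g = xR ^ (4 * k) * yR := by
      rw [hk, pow_mul, ← hyx, conj_pow, inv_mul_cancel_right]
      rfl
    rw [hk']
    exact H95.conj_adjust hord hyx four_ne_one (4 * k)
  · intro ψ k hk hx hy
    obtain ⟨G, hG⟩ : ∃ G, piRu G = eR⁻¹ * ψ eR := QuotientGroup.mk'_surjective _ _
    have h1 : ψ eR * yR * (ψ eR)⁻¹ = yR ^ 13 := by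
      have := congrArg ψ hey
      rwa [map_mul, map_mul, map_inv, map_pow, hy] at this
    have hcomm : piRu G * piRu (elL centY.a) = piRu (elL centY.a) * piRu G := by
      rw [hG]
      show eR⁻¹ * ψ eR * yR = yR * (eR⁻¹ * ψ eR)
      rw [mul_inv_eq_iff_eq_mul] at h1 hey
      rw [mul_assoc, h1, ← mul_assoc, ← mul_assoc, inv_mul_eq_iff_eq_mul.2 (show yR ^ 13 = eR * (yR * eR⁻¹) by
        rw [← mul_assoc, hey, mul_inv_cancel_right])]
    obtain ⟨i, e, he, hi⟩ := cent_sound certY hcomm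
    rw [hG, inv_mul_eq_iff_eq_mul] at hi
    have hmod : piRu (elL centY.a) ^ i = yR ^ (i % 14) := by
      show yR ^ i = _
      conv_lhs => rw [← Nat.mod_add_div i 14, pow_add, pow_mul, hy14, one_pow, mul_one]
    obtain ⟨s, hs, hse⟩ : ∃ s, (s = 0 ∨ s = 1) ∧ e.2 = List.replicate s 3 := by
      rcases List.mem_cons.1 he with h | h
      · exact ⟨0, Or.inl rfl, by rw [h]; rfl⟩
      · exact ⟨1, Or.inr rfl, by rw [List.mem_singleton.1 h]; rfl⟩
    have he' : ψ eR = piRu (wordE (candW s (i % 14))) := by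
      rw [hi, hmod, hse, candW, List.append_assoc, wordE_append, wordE_append, map_mul, map_mul, piRu_rep,
        piRu_rep, show wordE [2] = elL 2 from one_mul _, mul_assoc]
      rfl
    have hkill := kill_ok
    simp only [killOK, List.all_eq_true, List.mem_range, Bool.or_eq_true, Bool.and_eq_true, Nat.beq_eq,
      List.any_eq_true, Bool.not_eq_true'] at hkill
    rcases hkill k (by rcases hk with rfl | rfl <;> simp) s (by rcases hs with rfl | rfl <;> simp)
      (i % 14) (Nat.mod_lt _ (by norm_num)) with ⟨⟨a, b⟩, c⟩ | ⟨w, hw, hwk⟩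
    · refine ⟨a, ?_⟩
      rw [he', b, c]
      exact congrArg piRu (one_mul (elL 2))
    · exfalso
      obtain ⟨hw1, hw3⟩ := r6 w hw
      refine scalNe_pT hwk ?_
      rw [← subst_sound ψ k _ hx hy he' w hw3, scalEq_pT hw1, hone, map_one]
  · intro ψ hx hy he
    let f : ↥fourRu →* Ru := ψ.toMonoidHom.comp piRu
    have key : ∀ G : ↥fourRu, f G = piRu G := by
      have hl : ∀ g < 3, ψ (piRu (elL g)) = piRu (elL g) := fun g hg => by
        match g, hg with
        | 0, _ => exact hx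
        | 1, _ => exact hy
        | 2, _ => exact he
      have hlw : ∀ w : List ℕ, (∀ g ∈ w, g < 3) → ψ (piRu (wordE w)) = piRu (wordE w) := by
        intro w
        induction w with
        | nil => intro _; rw [hone, map_one]
        | cons g w ih =>
          intro h
          rw [piRu_wordE, map_mul, ih fun x hx => h x (List.mem_cons_of_mem _ hx), hl g (h g (List.mem_cons_self ..))]
      have hg : ∀ g, genF g ∈ MonoidHom.eqLocus f piRu := fun g => by
        show ψ (piRu (genF g)) = piRu (genF g)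
        match g with
        | 0 =>
          rw [show genF 0 = wordF [0] from (one_mul _).symm, scalEq_perm r7]
          exact hlw _ genWord_small.1
        | 1 =>
          rw [show genF 1 = wordF [1] from (one_mul _).symm, scalEq_perm r8]
          exact hlw _ genWord_small.2
        | g + 2 => rw [show genF (g + 2) = sI from rfl, ← pow_one sI, piRu_scalar, map_one]
      intro G
      have := eq_top_of_gens hg
      exact (show G ∈ MonoidHom.eqLocus f piRu from this ▸ Subgroup.mem_top G)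
    refine MulEquiv.ext fun z => ?_
    obtain ⟨G, rfl⟩ := QuotientGroup.mk'_surjective _ z
    exact key G

end H91.Ru
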